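/-
At critical distance two the neighbouring module is at least as large as the field.
-/
import Cfsg.Agent.Lib.PushingUpRankOne.Two
import Cfsg.Agent.Lib.LocalEven.ModuleQuotient

set_option autoImplicit false
set_option linter.unusedSectionVars false
set_option linter.style.haveILetI false

open Matrix CfsgLib.Perm.SL2Unipotent
open scoped MatrixGroups commutatorElement

namespace CfsgLib.PushingUpRankOne

open CfsgLib.LocalEvenB.PushingUp CfsgLib.LocalEvenB CfsgLib.LocalEven.PushingUpClosure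

variable {G : Type*} [Group G] [Finite G] {p : ℕ} [Fact p.Prime] {F : Type*} [Field F] [Fintype F]

namespace TwoData

variable {S Q M U Y : Subgroup G} {a : G} {n m : ℕ} {φ : G →* PSL2 F} (X : Pre p S Q M n φ)
  (T : TwoData p m S Q U Y a)
include X T

theorem exp_pos : 1 ≤ m := by
  by_contra hm
  obtain rfl : m = 0 := by omega
  obtain ⟨u, hu, v, hv, hne⟩ := T.noncomm
  have hUZ : U ≤ omegaZ p S := Subgroup.relIndex_eq_one.1 (by rw [T.card, pow_zero])
  exact hne ((conj_Z X T (hUZ hv)) |> X.Q_comm (T.le hu))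

theorem le_exp : n ≤ m := by
  have hm := exp_pos X T
  rcases Nat.lt_or_ge n 2 with hn | hn
  · omega
  haveI := modE_normal p S U
  haveI := modW_normal U
  set E := modE p S U
  set π := QuotientGroup.mk' E
  have hEW : E ≤ modW U := fun e he => he.1
  have hEQ : E ≤ Q := hEW.trans (W_le X T)
  let φ' : G ⧸ E →* PSL2 F := QuotientGroup.lift E φ fun e he => X.hyp.map_Q e (hEQ he)
  have hW : ∀ x ∈ modW U, ∀ q ∈ modW U, π x * π q = π q * π x := fun x hx q hq => by
    have h1 : π (x * q * x⁻¹ * q⁻¹) = 1 := (QuotientGroup.eq_one_iff _).2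
      (V_le_E X T (comm_WQ X T hx (W_le X T hq)).1)
    rw [map_mul, map_mul, map_mul, map_inv, map_inv, mul_inv_eq_one, mul_inv_eq_iff_eq_mul] at h1
    exact h1
  set W' := (modW U).map π
  haveI : W'.Normal := Subgroup.Normal.map inferInstance π (QuotientGroup.mk'_surjective E)
  have hWc : IsMulCommutative W' := ⟨⟨by
    rintro ⟨_, x, hx, rfl⟩ ⟨_, q, hq, rfl⟩
    exact Subtype.ext (hW x hx q hq)⟩⟩
  have hWp : ∀ v ∈ W', v ^ p = 1 := by
    rintro _ ⟨x, hx, rfl⟩
    rw [← map_pow]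
    exact (QuotientGroup.eq_one_iff _).2 (V_le_E X T (W_pow X T hx).1)
  set D := (Subgroup.centralizer (W' : Set (G ⧸ E))).comap π
  haveI : D.Normal := (normal_centralizer inferInstance).comap π
  have hfix : ∀ g ∈ D, ∀ x ∈ modW U, g * x * g⁻¹ * x⁻¹ ∈ E := fun g hg x hx => by
    refine (QuotientGroup.eq_one_iff _).1 ?_
    show π (g * x * g⁻¹ * x⁻¹) = 1
    rw [map_mul, map_mul, map_mul, map_inv, map_inv, ← hg (π x) ⟨x, hx, rfl⟩, mul_inv_cancel_right,
      mul_inv_cancel]
  have hSD : S ⊓ D ≤ Q := by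
    by_contra hc
    have htop : S ⊔ D = ⊤ := by
      refine X.hyp.setup.top_of _ le_sup_left fun hle => ?_
      exact hc (frattini_step X.hyp.setup.sylow X.hyp.setup.maximal X.hyp.setup.top_of X.hyp.setup.proper D
        (le_sup_right.trans hle))
    have hKE : modK U ≤ E := fun k hk => W_noFix X T hk.1 (fixed_all inferInstance htop
      (fun s hs => Z_le_E X T (S_fix_K X T hs hk)) fun g hg => hfix g hg k hk.1)
    have h1 := relIndex_K X T
    rw [Subgroup.relIndex_eq_one.2 hKE] at h1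
    exact (Nat.one_lt_pow (by omega) (Fact.out : p.Prime).one_lt).ne h1
  have hker : ∀ g ∈ Subgroup.centralizer (W' : Set (G ⧸ E)), φ' g = 1 := fun g hg => by
    obtain ⟨g, rfl⟩ := QuotientGroup.mk'_surjective E g
    exact MonoidHom.mem_ker.1
      ((CfsgLib.LocalEven.PushingUpClosure.kernel_facts X.hyp.setup X.hyp.one_le X.hyp.card φ X.hyp.surj).2.2 D
        inferInstance hSD hn hg)
  obtain ⟨y, hy, hyQ⟩ : ∃ y ∈ Y, y ∉ Q := by
    obtain ⟨s, hs, hsQ⟩ := X.exists_notQ
    obtain ⟨y, hy, q, hq, rfl⟩ := T.far_gen s hs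
    exact ⟨y, hy, fun h => hsQ (mul_mem h hq)⟩
  have hyS := T.far_le hy
  have hyp : IsPGroup p (Subgroup.zpowers (π y)) := by
    have := (X.hyp.setup.isPGroup.to_le (Subgroup.zpowers_le.2 hyS)).map π
    rwa [MonoidHom.map_zpowers] at this
  have hb := (CfsgLib.LocalEven.ModuleQuotient.bounds W' hWc hWp X.hyp.card hn φ'
    (fun z => by obtain ⟨g, rfl⟩ := X.hyp.surj z; exact ⟨π g, rfl⟩) hker hyp
    (fun h => hyQ (X.hyp.mem_Q_of_map hyS h))).1
  have hle : (modK U).map π ≤ W' ⊓ Subgroup.centralizer ({π y} : Set (G ⧸ E)) := by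
    rintro _ ⟨k, hk, rfl⟩
    refine ⟨⟨k, hk.1, rfl⟩, Subgroup.mem_centralizer_singleton_iff.2 ?_⟩
    have h1 : π (y * k * y⁻¹ * k⁻¹) = 1 := (QuotientGroup.eq_one_iff _).2 (Z_le_E X T (S_fix_K X T hyS hk))
    rw [map_mul, map_mul, map_mul, map_inv, map_inv, mul_inv_eq_one, mul_inv_eq_iff_eq_mul] at h1
    exact h1.symm
  have h2 : ((modK U).map π).relIndex W' ∣ p ^ m := by
    rw [Subgroup.relIndex_map_map, QuotientGroup.ker_mk', sup_eq_left.2 (E_le_K X T), sup_eq_left.2 hEW,
      relIndex_W X T]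
  have h3 := hb.trans (Nat.le_of_dvd (pow_pos (Fact.out : p.Prime).pos m)
    ((Subgroup.relIndex_dvd_of_le_left W' hle).trans h2))
  exact (Nat.pow_le_pow_iff_right (Fact.out : p.Prime).one_lt).1 h3

end TwoData

end CfsgLib.PushingUpRankOne
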