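/-
The lattice of subgroups of largest measure inside a subgroup `S` of an ambient group, in the case where `S`
itself and all its abelian subgroups of largest order belong to it.
-/
import Cfsg.Agent.Lib.LocalEven.PushingUpClosure
import Cfsg.Agent.Lib.LocalEvenB.CDMeasure
import Cfsg.Agent.Lib.PushingUpRankOne.Ambient

set_option autoImplicit false
set_option linter.unusedSectionVars false
set_option linter.style.haveILetI false

open scoped Pointwise commutatorElement

namespace CfsgLib.PushingUpFamily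

open CfsgLib.LocalEvenB.CDMeasure CfsgLib.LocalEven.PushingUpClosure CfsgLib.PushingUpRankOne

variable {G : Type*} [Group G] [Finite G]

local notation "ℭ" X:max => Subgroup.centralizer (SetLike.coe X)

/-- The measure inside `S`. -/
noncomputable def cdIn (S H : Subgroup G) : ℕ := Nat.card H * Nat.card ↥(S ⊓ ℭ H)

/-- The lattice of `S`. -/
structure Lat (S H : Subgroup G) : Prop where
  le : H ≤ S
  eq : cdIn S H = cdIn S S

/-- `S` and its abelian subgroups of largest order belong to the lattice, and the latter generate `S`. -/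
structure Balanced (S : Subgroup G) : Prop where
  top : ∀ R ≤ S, cdIn S R ≤ cdIn S S
  maxAb : ∀ A, IsMaxAb S A → Lat S A
  gen : ∀ X, (∀ A, IsMaxAb S A → A ≤ X) → S ≤ X

theorem card_subgroupOf {S R : Subgroup G} (h : R ≤ S) : Nat.card ↥(R.subgroupOf S) = Nat.card R :=
  Nat.card_congr (Subgroup.subgroupOfEquivOfLe h).toEquiv

theorem centralizer_subgroupOf {S R : Subgroup G} (h : R ≤ S) :
    Subgroup.centralizer ((R.subgroupOf S : Subgroup S) : Set S) = (S ⊓ ℭ R).subgroupOf S := by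
  ext x
  constructor
  · intro hx
    exact ⟨x.2, fun r hr => congrArg Subtype.val (hx ⟨r, h hr⟩ hr)⟩
  · intro hx r hr
    exact Subtype.ext (hx.2 _ hr)

theorem cd_subgroupOf {S R : Subgroup G} (h : R ≤ S) : cd (R.subgroupOf S) = cdIn S R := by
  rw [cd, cdIn, card_subgroupOf h, centralizer_subgroupOf h, card_subgroupOf inf_le_left]

variable {S : Subgroup G} (hS : Balanced S)

namespace Lat

theorem refl (S : Subgroup G) : Lat S S := ⟨le_rfl, rfl⟩

include hS in
theorem maxCD {H : Subgroup G} (h : Lat S H) : IsMaxCD (H.subgroupOf S) := by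
  intro R
  have hR : R.map S.subtype ≤ S := Subgroup.map_subtype_le R
  have e : (R.map S.subtype).subgroupOf S = R :=
    Subgroup.comap_map_eq_self_of_injective S.subtype_injective R
  rw [cd_subgroupOf h.le, h.eq, ← e, cd_subgroupOf hR]
  exact hS.top _ hR

theorem of_maxCD {H : Subgroup G} (hle : H ≤ S) (h : IsMaxCD (H.subgroupOf S)) (hS : Balanced S) : Lat S H := by
  refine ⟨hle, le_antisymm (hS.top _ hle) ?_⟩
  rw [← cd_subgroupOf hle, ← cd_subgroupOf (le_refl S)]
  exact h _

include hS in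
theorem sup {H K : Subgroup G} (h : Lat S H) (k : Lat S K) : Lat S (H ⊔ K) :=
  of_maxCD (_root_.sup_le h.le k.le) (by
    rw [Subgroup.subgroupOf_sup h.le k.le]
    exact (h.maxCD hS).sup (k.maxCD hS)) hS

include hS in
theorem inf {H K : Subgroup G} (h : Lat S H) (k : Lat S K) : Lat S (H ⊓ K) :=
  of_maxCD (inf_le_left.trans h.le) (by
    rw [Subgroup.subgroupOf, Subgroup.comap_inf]
    exact (h.maxCD hS).inf (k.maxCD hS)) hS

include hS in
theorem cent {H : Subgroup G} (h : Lat S H) : Lat S (S ⊓ ℭ H) :=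
  of_maxCD inf_le_left (by
    rw [← centralizer_subgroupOf h.le]
    exact (h.maxCD hS).centralizer) hS

include hS in
theorem double {H : Subgroup G} (h : Lat S H) : S ⊓ ℭ (S ⊓ ℭ H) = H := by
  have h1 := (h.maxCD hS).double_centralizer
  rw [centralizer_subgroupOf h.le, centralizer_subgroupOf inf_le_left] at h1
  exact le_antisymm (Subgroup.subgroupOf_inj.1 h1 |> fun e => by
    rw [inf_eq_left.2 (inf_le_left : S ⊓ ℭ (S ⊓ ℭ H) ≤ S), inf_eq_left.2 h.le] at e
    exact e.le) fun x hx => ⟨h.le hx, fun y hy => (hy.2 x hx).symm⟩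

include hS in
theorem mul {H K : Subgroup G} (h : Lat S H) (k : Lat S K) {x : G} (hx : x ∈ H ⊔ K) :
    ∃ a ∈ H, ∃ b ∈ K, x = a * b := by
  have hxS := _root_.sup_le h.le k.le hx
  have h1 := (h.maxCD hS).set_mul (k.maxCD hS)
  have h2 : (⟨x, hxS⟩ : S) ∈ (((H.subgroupOf S) ⊔ (K.subgroupOf S) : Subgroup S) : Set S) := by
    rw [← Subgroup.subgroupOf_sup h.le k.le]
    exact hx
  rw [h1] at h2
  obtain ⟨a, ha, b, hb, he⟩ := Set.mem_mul.1 h2
  exact ⟨a, ha, b, hb, (congrArg Subtype.val he).symm⟩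

include hS in
theorem cent_inf {H K : Subgroup G} (h : Lat S H) (k : Lat S K) :
    S ⊓ ℭ (H ⊓ K) = (S ⊓ ℭ H) ⊔ (S ⊓ ℭ K) := by
  have h1 := ((h.maxCD hS).product (k.maxCD hS)).2
  have e : H.subgroupOf S ⊓ K.subgroupOf S = (H ⊓ K).subgroupOf S := by
    rw [Subgroup.subgroupOf, Subgroup.subgroupOf, Subgroup.subgroupOf, Subgroup.comap_inf]
  rw [e, centralizer_subgroupOf (inf_le_left.trans h.le), centralizer_subgroupOf h.le,
    centralizer_subgroupOf k.le, ← Subgroup.subgroupOf_sup inf_le_left inf_le_left] at h1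
  have h2 := congrArg (Subgroup.map S.subtype) h1
  rwa [Subgroup.map_subgroupOf_eq_of_le inf_le_left,
    Subgroup.map_subgroupOf_eq_of_le (_root_.sup_le inf_le_left inf_le_left)] at h2

omit [Finite G] in
theorem cent_sup (H K : Subgroup G) : S ⊓ ℭ (H ⊔ K) = (S ⊓ ℭ H) ⊓ (S ⊓ ℭ K) := by
  rw [centralizer_sup, inf_inf_distrib_left]

include hS in
theorem iSup {ι : Type*} [Finite ι] [Nonempty ι] {H : ι → Subgroup G} (h : ∀ i, Lat S (H i)) :
    Lat S (⨆ i, H i) := by
  refine of_maxCD (iSup_le fun i => (h i).le) ?_ hS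
  have e : (⨆ i, H i).subgroupOf S = sSup (Set.range fun i => (H i).subgroupOf S) := by
    refine Subgroup.map_injective S.subtype_injective ?_
    rw [Subgroup.map_subgroupOf_eq_of_le (iSup_le fun i => (h i).le), sSup_range, Subgroup.map_iSup]
    exact iSup_congr fun i => (Subgroup.map_subgroupOf_eq_of_le (h i).le).symm
  rw [e]
  exact IsMaxCD.sSup (Set.range_nonempty _) (by rintro _ ⟨i, rfl⟩; exact (h i).maxCD hS)

/-- An element normalising `S` permutes the lattice. -/
theorem conjugate {H : Subgroup G} (h : Lat S H) {g : G} (hg : cj g S = S) : Lat S (PushingUpRankOne.cj g H) := by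
  refine ⟨hg ▸ cj_mono g h.le, ?_⟩
  rw [← h.eq]
  have e : S ⊓ ℭ (PushingUpRankOne.cj g H) = PushingUpRankOne.cj g (S ⊓ ℭ H) := by
    conv_lhs => rw [← hg]
    ext x
    simp only [Subgroup.mem_inf, mem_cj, Subgroup.mem_centralizer_iff, SetLike.mem_coe]
    constructor
    · rintro ⟨h1, h2⟩
      refine ⟨h1, fun y hy => ?_⟩
      have := h2 (g * y * g⁻¹) (by simpa [mul_assoc] using hy)
      calc y * (g⁻¹ * x * g) = g⁻¹ * (g * y * g⁻¹ * x) * g := by group
        _ = _ := by rw [this]; group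
    · rintro ⟨h1, h2⟩
      refine ⟨h1, fun y hy => ?_⟩
      have := h2 _ hy
      calc y * x = g * ((g⁻¹ * y * g) * (g⁻¹ * x * g)) * g⁻¹ := by group
        _ = _ := by rw [this]; group
  rw [cdIn, cdIn, e, PushingUpRankOne.cj, PushingUpRankOne.cj,
    Subgroup.card_map_of_injective (MulAut.conj g).injective,
    Subgroup.card_map_of_injective (MulAut.conj g).injective]

end Lat

include hS in
theorem maxAb_of_lat {H : Subgroup G} (h : Lat S H) (hc : S ⊓ ℭ H = H) : IsMaxAb S H := by
  obtain ⟨A, hA⟩ := exists_maxAb S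
  refine ⟨h.le, fun x hx => ((hc.symm ▸ hx : x ∈ S ⊓ ℭ H)).2, fun B hB hB' => ?_⟩
  have e : S ⊓ ℭ A = A := le_antisymm (fun x hx => hA.mem hx.1 hx.2) fun x hx => ⟨hA.1 hx, hA.2.1 hx⟩
  have h1 := h.eq.trans (hS.maxAb A hA).eq.symm
  rw [cdIn, cdIn, hc, e] at h1
  exact (Nat.mul_self_inj.1 h1) ▸ hA.2.2 B hB hB'

theorem maxAb_cent {S A : Subgroup G} (hA : IsMaxAb S A) : S ⊓ ℭ A = A :=
  le_antisymm (fun _ hx => hA.mem hx.1 hx.2) fun _ hx => ⟨hA.1 hx, hA.2.1 hx⟩

end CfsgLib.PushingUpFamily
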