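/-
Several rank one pushing-up groups inside one group, sharing their Sylow subgroup: the axioms used by the
geometric arguments, stated at an arbitrary vertex of the amalgam.
-/
import Cfsg.Agent.Lib.PushingUpFamily.Lattice

set_option autoImplicit false
set_option linter.unusedSectionVars false
set_option linter.style.haveILetI false

open scoped Pointwise commutatorElement

namespace CfsgLib.PushingUpFamily

open CfsgLib.LocalEven.PushingUpClosure CfsgLib.PushingUpRankOne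

variable {Γ : Type*} [Group Γ] [Finite Γ] {I : Type*}

local notation "ℭ" X:max => Subgroup.centralizer (SetLike.coe X)

/-- What is used of the groups `X i`, their largest normal `p`-subgroups `Q i` and their modules `V i`. -/
structure Geo (p : ℕ) (S : Subgroup Γ) (X Q V : I → Subgroup Γ) (n : I → ℕ) : Prop where
  isPGroup : IsPGroup p S
  bal : Balanced S
  Z_pow : ∀ z ∈ S ⊓ ℭ S, z ^ p = 1
  S_le : ∀ i, S ≤ X i
  Q_le : ∀ i, Q i ≤ S
  V_le : ∀ i, V i ≤ Q i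
  Z_le : ∀ i, S ⊓ ℭ S ≤ V i
  norm_Q : ∀ i, ∀ g ∈ X i, cj g (Q i) = Q i
  norm_V : ∀ i, ∀ g ∈ X i, cj g (V i) = V i
  V_pow : ∀ i, ∀ v ∈ V i, v ^ p = 1
  QV : ∀ i, ∀ q ∈ Q i, ∀ v ∈ V i, q * v = v * q
  mem_Q : ∀ i, ∀ x ∈ X i, IsPGroup p (Subgroup.zpowers x) → (∀ v ∈ V i, x * v = v * x) → x ∈ Q i
  fixed_eq : ∀ i, ∀ s ∈ S, s ∉ Q i → ∀ v ∈ V i, s * v = v * s → v ∈ S ⊓ ℭ S
  into : ∀ i, ∀ s ∈ S, ∀ v ∈ V i, s * v * s⁻¹ * v⁻¹ ∈ S ⊓ ℭ S
  fpf : ∀ i, ∀ x ∈ X i, IsPGroup p (Subgroup.zpowers x) → ∀ v ∈ V i,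
    x * v * x⁻¹ * v⁻¹ ∈ ℭ (X i) → x * v = v * x
  n_pos : ∀ i, 1 ≤ n i
  relQ : ∀ i, (Q i).relIndex S = p ^ n i
  relV : ∀ i, (S ⊓ ℭ S).relIndex (V i) = p ^ n i
  relC : ∀ i, (V i ⊓ ℭ (X i)).relIndex (S ⊓ ℭ S) = p ^ n i
  good : ∀ i, ∃ g ∈ X i, S ⊔ cj g S = X i
  dich : ∀ i, ∀ g ∈ X i, S ⊔ cj g S = X i ∨ ∀ g' ∈ X i, S ⊔ cj g' S = X i → S ⊔ cj (g' * g) S = X i
  fix : ∀ i, ∀ R' R U : Subgroup Γ, (∀ g ∈ X i, cj g R' = R') → (∀ g ∈ X i, cj g R = R) → R ≤ X i → U ≤ S →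
    ¬ U ≤ Q i → (∀ u ∈ U, ∀ r ∈ R, u * r * u⁻¹ * r⁻¹ ∈ R') →
      ∀ x ∈ X i, (orderOf x).Coprime p → ∀ r ∈ R, x * r * x⁻¹ * r⁻¹ ∈ R'
  step : ∀ i, ∀ R : Subgroup Γ, (∀ g ∈ X i, cj g R = R) → ∀ x ∈ X i, (orderOf x).Coprime p → ∀ u ∈ Q i,
    x * (x * u * x⁻¹ * u⁻¹) * x⁻¹ * (x * u * x⁻¹ * u⁻¹)⁻¹ ∈ R → x * u * x⁻¹ * u⁻¹ ∈ R
  tau : ∀ i, p ≠ 2 → (∀ x ∈ X i, (orderOf x).Coprime p → (∀ v ∈ V i, x * v * x⁻¹ * v⁻¹ ∈ ℭ (X i)) →
      ∀ q ∈ Q i, x * q = q * x) →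
    ∃ τ ∈ X i, (orderOf τ).Coprime p ∧ τ * τ = 1 ∧ (∀ v ∈ V i, τ * v * τ⁻¹ * v ∈ ℭ (X i)) ∧
      ∀ s ∈ S, τ * s * τ⁻¹ * s⁻¹ ∈ Q i

/-- A subgroup attached to a vertex. -/
def vert (R : I → Subgroup Γ) (v : Γ × I) : Subgroup Γ := cj v.1 (R v.2)

/-- The translate of a vertex. -/
def tr (d : Γ) (v : Γ × I) : Γ × I := (d * v.1, v.2)

theorem vert_tr (R : I → Subgroup Γ) (d : Γ) (v : Γ × I) : vert R (tr d v) = cj d (vert R v) := cj_mul _ _ _

theorem vert_one (R : I → Subgroup Γ) (i : I) : vert R ((1 : Γ), i) = R i := cj_one _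

theorem cj_eq_iff {g : Γ} {R : Subgroup Γ} : cj g R = R ↔ g ∈ Subgroup.normalizer (R : Set Γ) :=
  ⟨fun h => Subgroup.mem_normalizer_iff_map_conj_eq.2 h, cj_eq_of_mem⟩

theorem cj_le_iff {g : Γ} {R R' : Subgroup Γ} : cj g R ≤ R' ↔ R ≤ cj g⁻¹ R' := by
  constructor
  · intro h
    have := cj_mono g⁻¹ h
    rwa [← cj_mul, inv_mul_cancel, cj_one] at this
  · intro h
    have := cj_mono g h
    rwa [← cj_mul, mul_inv_cancel, cj_one] at this

theorem centralizer_cj (g : Γ) (R : Subgroup Γ) : ℭ (cj g R) = cj g (ℭ R) := by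
  ext x
  simp only [mem_cj, Subgroup.mem_centralizer_iff, SetLike.mem_coe]
  constructor
  · intro h y hy
    have h1 := h (g * y * g⁻¹) (by simpa [mul_assoc] using hy)
    calc y * (g⁻¹ * x * g) = g⁻¹ * (g * y * g⁻¹ * x) * g := by group
      _ = _ := by rw [h1]; group
  · intro h y hy
    have h1 := h _ hy
    calc y * x = g * ((g⁻¹ * y * g) * (g⁻¹ * x * g)) * g⁻¹ := by group
      _ = _ := by rw [h1]; group

theorem zpowers_cj {p : ℕ} {g x : Γ} (h : IsPGroup p (Subgroup.zpowers x)) :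
    IsPGroup p (Subgroup.zpowers (g⁻¹ * x * g)) := by
  have := h.map (MulAut.conj g⁻¹).toMonoidHom
  rwa [MonoidHom.map_zpowers, show (MulAut.conj g⁻¹).toMonoidHom x = g⁻¹ * x * g by simp] at this

theorem orderOf_cj (g x : Γ) : orderOf (g⁻¹ * x * g) = orderOf x := by
  rw [show g⁻¹ * x * g = MulAut.conj g⁻¹ x by simp, MulEquiv.orderOf_eq]

/-- Conjugation of a commutator. -/
theorem conj_comm (g x y : Γ) :
    (g⁻¹ * x * g) * (g⁻¹ * y * g) * (g⁻¹ * x * g)⁻¹ * (g⁻¹ * y * g)⁻¹ = g⁻¹ * (x * y * x⁻¹ * y⁻¹) * g := by group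

/-- Two vertices have commuting modules. -/
def Comm (V : I → Subgroup Γ) (v w : Γ × I) : Prop := ∀ a ∈ vert V v, ∀ c ∈ vert V w, a * c = c * a

theorem Comm.symm {V : I → Subgroup Γ} {v w : Γ × I} (h : Comm V v w) : Comm V w v :=
  fun a ha c hc => (h c hc a ha).symm

/-- `v` lies on the edge `e`, with the Sylow subgroup of the edge normalised in passing. -/
def Mem0 (S : Subgroup Γ) (X : I → Subgroup Γ) (e : Γ) (v : Γ × I) : Prop :=
  ∃ h ∈ Subgroup.normalizer (S : Set Γ), (e * h)⁻¹ * v.1 ∈ X v.2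

/-- Two edges at `v` are opposite. -/
def Opp (S : Subgroup Γ) (X : I → Subgroup Γ) (v : Γ × I) (e e' : Γ) : Prop := cj e S ⊔ cj e' S = vert X v

theorem Opp.symm {S : Subgroup Γ} {X : I → Subgroup Γ} {v : Γ × I} {e e' : Γ} (h : Opp S X v e e') :
    Opp S X v e' e := (sup_comm _ _).trans h

theorem Mem0.tr {S : Subgroup Γ} {X : I → Subgroup Γ} {e : Γ} {v : Γ × I} (h : Mem0 S X e v) (d : Γ) :
    Mem0 S X (d * e) (PushingUpFamily.tr d v) := by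
  obtain ⟨h0, hh, hx⟩ := h
  refine ⟨h0, hh, ?_⟩
  show (d * e * h0)⁻¹ * (d * v.1) ∈ X v.2
  convert hx using 1
  group

namespace Geo

variable {p : ℕ} {S : Subgroup Γ} {X Q V : I → Subgroup Γ} {n : I → ℕ} (A : Geo p S X Q V n)
include A

theorem V_le_S (i : I) : V i ≤ S := (A.V_le i).trans (A.Q_le i)

theorem inf_cent (i : I) : S ⊓ ℭ (V i) = Q i :=
  le_antisymm (fun _ hx => A.mem_Q i _ (A.S_le i hx.1) (A.isPGroup.to_le (Subgroup.zpowers_le.2 hx.1))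
    fun v hv => (hx.2 v hv).symm) fun q hq => ⟨A.Q_le i hq, fun v hv => (A.QV i q hq v hv).symm⟩

theorem lat_V (i : I) : Lat S (V i) := by
  refine ⟨A.V_le_S i, ?_⟩
  rw [cdIn, cdIn, A.inf_cent]
  have h1 := Subgroup.relIndex_mul_relIndex ⊥ (S ⊓ ℭ S) (V i) bot_le (A.Z_le i)
  have h2 := Subgroup.relIndex_mul_relIndex ⊥ (Q i) S bot_le (A.Q_le i)
  rw [Subgroup.relIndex_bot_left, Subgroup.relIndex_bot_left, A.relV] at h1
  rw [Subgroup.relIndex_bot_left, Subgroup.relIndex_bot_left, A.relQ] at h2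
  rw [← h1, ← h2]
  ring

theorem lat_Q (i : I) : Lat S (Q i) := A.inf_cent i ▸ (A.lat_V i).cent A.bal

theorem Z_comm {z s : Γ} (hz : z ∈ S ⊓ ℭ S) (hs : s ∈ S) : s * z = z * s := hz.2 s hs

theorem cj_S {h : Γ} (hh : h ∈ Subgroup.normalizer (S : Set Γ)) : cj h S = S := cj_eq_of_mem hh

theorem cj_Z {h : Γ} (hh : h ∈ Subgroup.normalizer (S : Set Γ)) : cj h (S ⊓ ℭ S) = S ⊓ ℭ S := by
  rw [cj_inf, ← centralizer_cj, A.cj_S hh]

theorem norm_X (i : I) {g : Γ} (hg : g ∈ X i) : cj g (X i) = X i := cj_eq_of_mem (Subgroup.le_normalizer hg)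

theorem norm_C (i : I) {g : Γ} (hg : g ∈ X i) : cj g (V i ⊓ ℭ (X i)) = V i ⊓ ℭ (X i) := by
  rw [cj_inf, A.norm_V i g hg, ← centralizer_cj, A.norm_X i hg]

theorem exists_notQ (i : I) [Fact p.Prime] : ∃ s ∈ S, s ∉ Q i := by
  by_contra! hh
  have := A.relQ i
  rw [Subgroup.relIndex_eq_one.2 hh] at this
  exact (Nat.one_lt_pow (by have := A.n_pos i; omega) (Fact.out : p.Prime).one_lt).ne this

/-! Vertices and edges. -/

variable {e e' : Γ} {v : Γ × I}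

/-- The representative of a vertex on an edge. -/
theorem exists_frame (h : Mem0 S X e v) : ∃ c : Γ, cj c S = cj e S ∧ cj c (S ⊓ ℭ S) = cj e (S ⊓ ℭ S) ∧
    c⁻¹ * v.1 ∈ X v.2 ∧ (∀ R : I → Subgroup Γ, (∀ g ∈ X v.2, cj g (R v.2) = R v.2) → vert R v = cj c (R v.2)) := by
  obtain ⟨h0, hh, hx⟩ := h
  refine ⟨e * h0, by rw [cj_mul, A.cj_S hh], by rw [cj_mul, A.cj_Z hh], hx, fun R hR => ?_⟩
  conv_lhs => rw [vert, show v.1 = e * h0 * ((e * h0)⁻¹ * v.1) by group, cj_mul, hR _ hx]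

theorem vert_eqs (h : Mem0 S X e v) : ∃ c : Γ, cj c S = cj e S ∧ cj c (S ⊓ ℭ S) = cj e (S ⊓ ℭ S) ∧
    vert X v = cj c (X v.2) ∧ vert Q v = cj c (Q v.2) ∧ vert V v = cj c (V v.2) := by
  obtain ⟨c, h1, h2, -, h3⟩ := A.exists_frame h
  exact ⟨c, h1, h2, h3 X fun g hg => A.norm_X _ hg, h3 Q (A.norm_Q _), h3 V (A.norm_V _)⟩

theorem S_le_vert (h : Mem0 S X e v) : cj e S ≤ vert X v := by
  obtain ⟨c, h1, -, h3, -, -⟩ := A.vert_eqs h
  rw [h3, ← h1]; exact cj_mono c (A.S_le _)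

theorem Q_le_edge (h : Mem0 S X e v) : vert Q v ≤ cj e S := by
  obtain ⟨c, h1, -, -, h4, -⟩ := A.vert_eqs h
  rw [h4, ← h1]; exact cj_mono c (A.Q_le _)

theorem vertV_le (v : Γ × I) : vert V v ≤ vert Q v := cj_mono _ (A.V_le _)

theorem V_le_edge (h : Mem0 S X e v) : vert V v ≤ cj e S := (A.vertV_le v).trans (A.Q_le_edge h)

theorem Z_le_vert (h : Mem0 S X e v) : cj e (S ⊓ ℭ S) ≤ vert V v := by
  obtain ⟨c, -, h2, -, -, h5⟩ := A.vert_eqs h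
  rw [h5, ← h2]; exact cj_mono c (A.Z_le _)

theorem vertQ_le_X (v : Γ × I) : vert Q v ≤ vert X v := cj_mono _ ((A.Q_le _).trans (A.S_le _))

theorem vertV_le_X (v : Γ × I) : vert V v ≤ vert X v := (A.vertV_le v).trans (A.vertQ_le_X v)

theorem isPGroup_edge (e : Γ) : IsPGroup p (cj e S) := A.isPGroup.map _

theorem pgroup_of_mem {x : Γ} (hx : x ∈ cj e S) : IsPGroup p (Subgroup.zpowers x) :=
  (A.isPGroup_edge e).to_le (Subgroup.zpowers_le.2 hx)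

theorem pgroup_Q {x : Γ} (v : Γ × I) (hx : x ∈ vert Q v) : IsPGroup p (Subgroup.zpowers x) :=
  A.pgroup_of_mem (e := v.1) (cj_mono _ (A.Q_le _) hx)

theorem mem_Q_vert {x : Γ} (hx : x ∈ vert X v) (hp : IsPGroup p (Subgroup.zpowers x))
    (hc : ∀ a ∈ vert V v, x * a = a * x) : x ∈ vert Q v := by
  refine mem_cj.2 (A.mem_Q _ _ (mem_cj.1 hx) (zpowers_cj hp) fun a ha => ?_)
  have h := hc _ (conj_mem_cj ha)
  calc v.1⁻¹ * x * v.1 * a = v.1⁻¹ * (x * (v.1 * a * v.1⁻¹)) * v.1 := by group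
    _ = _ := by rw [h]; group

theorem edge_cent_le (h : Mem0 S X e v) : cj e S ⊓ ℭ (vert V v) ≤ vert Q v := fun _ hx =>
  A.mem_Q_vert (A.S_le_vert h hx.1) (A.pgroup_of_mem hx.1) fun a ha => (hx.2 a ha).symm

theorem QV_vert {q a : Γ} (hq : q ∈ vert Q v) (ha : a ∈ vert V v) : q * a = a * q := by
  obtain ⟨q, hq, rfl⟩ := hq
  obtain ⟨a, ha, rfl⟩ := ha
  exact (show Commute q a from A.QV _ q hq a ha).map (MulAut.conj v.1).toMonoidHom

theorem V_comm {a c : Γ} (ha : a ∈ vert V v) (hc : c ∈ vert V v) : a * c = c * a :=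
  A.QV_vert (A.vertV_le v ha) hc

theorem V_pow_vert {a : Γ} (ha : a ∈ vert V v) : a ^ p = 1 := by
  obtain ⟨a, ha, rfl⟩ := ha
  rw [← map_pow, A.V_pow _ a ha, map_one]

theorem norm_vert {R : I → Subgroup Γ} (hR : ∀ i, ∀ g ∈ X i, cj g (R i) = R i) {x : Γ} (hx : x ∈ vert X v) :
    cj x (vert R v) = vert R v := by
  obtain ⟨y, hy, rfl⟩ := hx
  show cj (v.1 * y * v.1⁻¹) (cj v.1 (R v.2)) = _
  rw [← cj_mul, show v.1 * y * v.1⁻¹ * v.1 = v.1 * y by group, cj_mul, hR _ y hy]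
  rfl

theorem norm_vertV {x : Γ} (hx : x ∈ vert X v) : cj x (vert V v) = vert V v := A.norm_vert A.norm_V hx
theorem norm_vertQ {x : Γ} (hx : x ∈ vert X v) : cj x (vert Q v) = vert Q v := A.norm_vert A.norm_Q hx
theorem norm_vertX {x : Γ} (hx : x ∈ vert X v) : cj x (vert X v) = vert X v :=
  A.norm_vert (fun i _ hg => A.norm_X i hg) hx

theorem conj_V {x a : Γ} (hx : x ∈ vert X v) (ha : a ∈ vert V v) : x * a * x⁻¹ ∈ vert V v :=
  (A.norm_vertV hx).le (conj_mem_cj ha)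

theorem comm_mem_V {x a : Γ} (hx : x ∈ vert X v) (ha : a ∈ vert V v) : x * a * x⁻¹ * a⁻¹ ∈ vert V v :=
  mul_mem (A.conj_V hx ha) (inv_mem ha)

theorem into_edge (h : Mem0 S X e v) {s a : Γ} (hs : s ∈ cj e S) (ha : a ∈ vert V v) :
    s * a * s⁻¹ * a⁻¹ ∈ cj e (S ⊓ ℭ S) := by
  obtain ⟨c, h1, h2, -, -, h5⟩ := A.vert_eqs h
  rw [← h1] at hs
  rw [h5] at ha
  rw [← h2, mem_cj, ← conj_comm]
  exact A.into _ _ (mem_cj.1 hs) _ (mem_cj.1 ha)

theorem fixed_edge (h : Mem0 S X e v) {s a : Γ} (hs : s ∈ cj e S) (hsQ : s ∉ vert Q v) (ha : a ∈ vert V v)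
    (hc : s * a = a * s) : a ∈ cj e (S ⊓ ℭ S) := by
  obtain ⟨c, h1, h2, -, h4, h5⟩ := A.vert_eqs h
  rw [← h1] at hs
  rw [h4] at hsQ
  rw [h5] at ha
  rw [← h2, mem_cj]
  refine A.fixed_eq _ _ (mem_cj.1 hs) (fun hQ => hsQ (mem_cj.2 hQ)) _ (mem_cj.1 ha) ?_
  calc c⁻¹ * s * c * (c⁻¹ * a * c) = c⁻¹ * (s * a) * c := by group
    _ = _ := by rw [hc]; group

theorem Z_edge_comm {z s : Γ} (hz : z ∈ cj e (S ⊓ ℭ S)) (hs : s ∈ cj e S) : s * z = z * s := by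
  obtain ⟨z, hz, rfl⟩ := hz
  obtain ⟨s, hs, rfl⟩ := hs
  exact (show Commute s z from hz.2 s hs).map (MulAut.conj e).toMonoidHom

/-- The fixed points at a vertex. -/
theorem mem_C {a : Γ} : a ∈ vert (fun i => V i ⊓ ℭ (X i)) v ↔ a ∈ vert V v ∧ a ∈ ℭ (vert X v) := by
  rw [vert, cj_inf, ← centralizer_cj]
  rfl

theorem fpf_vert {x a : Γ} (hx : x ∈ vert X v) (hp : IsPGroup p (Subgroup.zpowers x)) (ha : a ∈ vert V v)
    (h : x * a * x⁻¹ * a⁻¹ ∈ ℭ (vert X v)) : x * a = a * x := by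
  have h1 := A.fpf _ _ (mem_cj.1 hx) (zpowers_cj hp) _ (mem_cj.1 ha) (by
    rw [conj_comm]
    rw [vert, centralizer_cj] at h
    exact mem_cj.1 h)
  calc x * a = v.1 * ((v.1⁻¹ * x * v.1) * (v.1⁻¹ * a * v.1)) * v.1⁻¹ := by group
    _ = _ := by rw [h1]; group

/-- An element fixed by two opposite edges is fixed by the whole group of the vertex. -/
theorem opp_cent (h : Opp S X v e e') {a : Γ} (h1 : ∀ s ∈ cj e S, s * a = a * s)
    (h2 : ∀ s ∈ cj e' S, s * a = a * s) : a ∈ ℭ (vert X v) := by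
  intro x hx
  have hle : vert X v ≤ Subgroup.centralizer {a} := by
    rw [← h]
    exact sup_le (fun s hs => Subgroup.mem_centralizer_singleton_iff.2 (h1 s hs))
      (fun s hs => Subgroup.mem_centralizer_singleton_iff.2 (h2 s hs))
  exact Subgroup.mem_centralizer_singleton_iff.1 (hle hx)

theorem good_inf (h : Opp S X v e e') {a : Γ} (h1 : a ∈ cj e (S ⊓ ℭ S)) (h2 : a ∈ cj e' (S ⊓ ℭ S)) :
    a ∈ ℭ (vert X v) :=
  A.opp_cent h (fun _ hs => A.Z_edge_comm h1 hs) (fun _ hs => A.Z_edge_comm h2 hs)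

theorem C_le_edge (h : Mem0 S X e v) {a : Γ} (ha : a ∈ vert V v) (hc : a ∈ ℭ (vert X v)) :
    a ∈ cj e (S ⊓ ℭ S) := by
  rw [cj_inf, ← centralizer_cj]
  exact ⟨A.V_le_edge h ha, fun s hs => hc s (A.S_le_vert h hs)⟩

omit A in
theorem mem0_self (v : Γ × I) : Mem0 S X v.1 v := ⟨1, one_mem _, by simp⟩

theorem mem0_conj (h : Mem0 S X e v) {x : Γ} (hx : x ∈ vert X v) : Mem0 S X (x * e) v := by
  obtain ⟨h0, hh, hh'⟩ := h
  refine ⟨h0, hh, ?_⟩
  have hx' : v.1⁻¹ * x * v.1 ∈ X v.2 := mem_cj.1 hx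
  have := mul_mem hh' (inv_mem hx')
  convert this using 1
  group

theorem exists_opp (h : Mem0 S X e v) : ∃ e', Mem0 S X e' v ∧ Opp S X v e e' ∧
    ∃ x ∈ vert X v, e' = x * e := by
  obtain ⟨c, h1, h2, h3, -, -⟩ := A.vert_eqs h
  obtain ⟨g, hg, hgood⟩ := A.good v.2
  have hx : c * g * c⁻¹ ∈ vert X v := h3 ▸ conj_mem_cj hg
  refine ⟨_, A.mem0_conj h hx, ?_, _, hx, rfl⟩
  show cj e S ⊔ cj (c * g * c⁻¹ * e) S = _
  rw [cj_mul _ e, ← h1, ← cj_mul, inv_mul_cancel_right, cj_mul, ← cj_sup, hgood, h3]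

/-- Either two edges at a vertex are opposite or they have the same opposite edges. -/
theorem dich_vert (h : Mem0 S X e v) (h' : Mem0 S X e' v) :
    Opp S X v e e' ∨ ∀ x ∈ vert X v, Opp S X v e (x * e) → Opp S X v e (x * e') := by
  obtain ⟨c, h1, h2, hc, -⟩ := A.exists_frame h
  obtain ⟨c', h1', h2', hc', -⟩ := A.exists_frame h'
  have hX : vert X v = cj c (X v.2) := by
    show cj v.1 (X v.2) = _
    conv_lhs => rw [show v.1 = c * (c⁻¹ * v.1) by group, cj_mul, A.norm_X _ hc]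
  have hg : c⁻¹ * c' ∈ X v.2 := by
    have := mul_mem hc (inv_mem hc')
    convert this using 1
    group
  rcases A.dich _ _ hg with hd | hd
  · left
    have := congrArg (cj c) hd
    rwa [cj_sup, ← cj_mul, mul_inv_cancel_left, h1, h1', ← hX] at this
  · right
    intro x hx hop
    rw [hX] at hx
    have hx' : c⁻¹ * x * c ∈ X v.2 := mem_cj.1 hx
    have hop' : S ⊔ cj (c⁻¹ * x * c) S = X v.2 := by
      have h0 : cj e S ⊔ cj (x * e) S = cj c (X v.2) := hop.trans hX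
      rw [cj_mul x e, ← h1, ← cj_mul] at h0
      have := congrArg (cj c⁻¹) h0
      rwa [cj_sup, ← cj_mul, ← cj_mul, ← cj_mul, inv_mul_cancel, cj_one, cj_one, ← mul_assoc] at this
    have := congrArg (cj c) (hd _ hx' hop')
    rw [cj_sup, ← cj_mul, show c * (c⁻¹ * x * c * (c⁻¹ * c')) = x * c' by group, cj_mul x c', h1, h1',
      ← cj_mul, ← hX] at this
    exact this

theorem relIndex_Q_edge (h : Mem0 S X e v) : (vert Q v).relIndex (cj e S) = p ^ n v.2 := by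
  obtain ⟨c, h1, -, -, h4, -⟩ := A.vert_eqs h
  rw [h4, ← h1, cj_relIndex, A.relQ]

theorem relIndex_Z_edge (h : Mem0 S X e v) : (cj e (S ⊓ ℭ S)).relIndex (vert V v) = p ^ n v.2 := by
  obtain ⟨c, -, h2, -, -, h5⟩ := A.vert_eqs h
  rw [h5, ← h2, cj_relIndex, A.relV]

/-! Pairs of vertices with noncommuting modules. -/

theorem pair_cent {a c : Γ × I} (hne : ¬ Comm V a c) (h : Mem0 S X e a) (hle : vert V c ≤ cj e S) {u : Γ}
    (hu : u ∈ vert V a) (hcom : ∀ w ∈ vert V c, w * u = u * w) : u ∈ cj e (S ⊓ ℭ S) := by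
  obtain ⟨x, hx, w, hw, hne'⟩ : ∃ x ∈ vert V a, ∃ w ∈ vert V c, x * w ≠ w * x := by simpa [Comm] using hne
  exact A.fixed_edge h (hle hw) (fun hQ => hne' (A.QV_vert hQ hx).symm) hu (hcom w hw)

theorem pair_inf {a c : Γ × I} (hne : ¬ Comm V a c) (h : Mem0 S X e a) (h' : Mem0 S X e' c)
    (hle : vert V c ≤ cj e S) (hle' : vert V a ≤ cj e' S) : vert Q a ⊓ vert V c = cj e' (S ⊓ ℭ S) := by
  refine le_antisymm (fun u hu => A.pair_cent (fun hh => hne hh.symm) h' hle' hu.2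
    fun w hw => (A.QV_vert hu.1 hw).symm) fun u hu => ?_
  have huV := A.Z_le_vert h' hu
  exact ⟨A.mem_Q_vert (A.S_le_vert h (hle huV)) (A.pgroup_of_mem (hle huV)) fun w hw =>
    (A.Z_edge_comm hu (hle' hw)).symm, huV⟩

theorem pair_le [Fact p.Prime] {a c : Γ × I} (hne : ¬ Comm V a c) (h : Mem0 S X e a) (h' : Mem0 S X e' c)
    (hle : vert V c ≤ cj e S) (hle' : vert V a ≤ cj e' S) : n c.2 ≤ n a.2 := by
  have h1 : (vert Q a).relIndex (vert V c) = p ^ n c.2 := by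
    rw [← Subgroup.inf_relIndex_right, A.pair_inf hne h h' hle hle', A.relIndex_Z_edge h']
  have h2 := Subgroup.relIndex_le_of_le_right (H := vert Q a) hle Subgroup.index_ne_zero_of_finite
  rw [h1, A.relIndex_Q_edge h] at h2
  exact (Nat.pow_le_pow_iff_right (Fact.out : p.Prime).one_lt).1 h2

theorem pair_n [Fact p.Prime] {a c : Γ × I} (hne : ¬ Comm V a c) (h : Mem0 S X e a) (h' : Mem0 S X e' c)
    (hle : vert V c ≤ cj e S) (hle' : vert V a ≤ cj e' S) : n a.2 = n c.2 :=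
  le_antisymm (A.pair_le (fun hh => hne hh.symm) h' h hle' hle) (A.pair_le hne h h' hle hle')

/-- The edge is covered by the far module and the near `Q`. -/
theorem pair_mul [Fact p.Prime] {a c : Γ × I} (hne : ¬ Comm V a c) (h : Mem0 S X e a) (h' : Mem0 S X e' c)
    (hle : vert V c ≤ cj e S) (hle' : vert V a ≤ cj e' S) {s : Γ} (hs : s ∈ cj e S) :
    ∃ t ∈ vert V c, ∃ q ∈ vert Q a, s = t * q := by
  set R := vert V c ⊔ vert Q a
  have hRS : R ≤ cj e S := sup_le hle (A.Q_le_edge h)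
  have h1 : (vert Q a).relIndex (vert V c) = p ^ n a.2 := by
    rw [← Subgroup.inf_relIndex_right, A.pair_inf hne h h' hle hle', A.relIndex_Z_edge h', A.pair_n hne h h' hle hle']
  have h2 := Subgroup.relIndex_mul_relIndex (vert Q a) R (cj e S) le_sup_right hRS
  rw [A.relIndex_Q_edge h] at h2
  have h3 : p ^ n a.2 ≤ (vert Q a).relIndex R :=
    h1 ▸ Subgroup.relIndex_le_of_le_right le_sup_left Subgroup.index_ne_zero_of_finite
  have hpos := pow_pos (Fact.out : p.Prime).pos (n a.2)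
  have h4 : R.relIndex (cj e S) = 1 := by
    have : R.relIndex (cj e S) ≠ 0 := Subgroup.index_ne_zero_of_finite
    nlinarith
  have hsR : s ∈ R := Subgroup.relIndex_eq_one.1 h4 hs
  rw [← SetLike.mem_coe, Subgroup.coe_mul_of_left_le_normalizer_right _ _ (fun x hx =>
    cj_eq_iff.1 (A.norm_vertQ (A.S_le_vert h (hle hx))))] at hsR
  obtain ⟨t, ht, q, hq, he⟩ := hsR
  exact ⟨t, ht, q, hq, he.symm⟩

end Geo

end CfsgLib.PushingUpFamily
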