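/-
The graph of the amalgam when the modules attached to one edge commute: vertices, edges and windows.
-/
import Cfsg.Agent.Lib.PushingUpFamily.Geo
import Cfsg.Agent.Lib.PushingUpRankOne.Graph

set_option autoImplicit false
set_option linter.unusedSectionVars false
set_option linter.style.haveILetI false

open scoped Pointwise commutatorElement

namespace CfsgLib.PushingUpFamily

open CfsgLib.LocalEven.PushingUpClosure CfsgLib.PushingUpRankOne

variable {Γ : Type*} [Group Γ] [Finite Γ] {I : Type*}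

local notation "ℭ" X:max => Subgroup.centralizer (SetLike.coe X)

/-- As `Geo`, and the modules on the edge of `S` commute. -/
structure Geo2 (p : ℕ) (S : Subgroup Γ) (X Q V : I → Subgroup Γ) (n : I → ℕ) : Prop
    extends geo : Geo p S X Q V n where
  comm_one : ∀ h ∈ Subgroup.normalizer (S : Set Γ), ∀ i j, Comm V ((1 : Γ), i) (h, j)

/-- The join of the modules on the edge of `S`. -/
def edgeW (S : Subgroup Γ) (V : I → Subgroup Γ) : Subgroup Γ :=
  ⨆ x : Subgroup.normalizer (S : Set Γ) × I, cj (x.1 : Γ) (V x.2)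

/-- The centraliser in `S` of the join. -/
def edgeQ (S : Subgroup Γ) (V : I → Subgroup Γ) : Subgroup Γ := S ⊓ ℭ (edgeW S V)

/-- A type of vertex is stuck if its group normalises the join. -/
def Stuck (S : Subgroup Γ) (X V : I → Subgroup Γ) (i : I) : Prop :=
  X i ≤ Subgroup.normalizer (edgeW S V : Set Γ)

/-- The stabiliser of the edge of `S`. -/
def edgeN (S : Subgroup Γ) (X V : I → Subgroup Γ) : Subgroup Γ :=
  Subgroup.normalizer (S : Set Γ) ⊔ ⨆ i : {i : I // Stuck S X V i}, X i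

/-- `v` lies on the edge `e`. -/
def Mem (S : Subgroup Γ) (X V : I → Subgroup Γ) (e : Γ) (v : Γ × I) : Prop :=
  ∃ h ∈ edgeN S X V, (e * h)⁻¹ * v.1 ∈ X v.2

/-- Two names of one vertex. -/
def Same (X : I → Subgroup Γ) (v w : Γ × I) : Prop := v.2 = w.2 ∧ v.1⁻¹ * w.1 ∈ X v.2

/-- Two vertices at distance at most `k`. -/
def Dist (S : Subgroup Γ) (X V : I → Subgroup Γ) : ℕ → Γ × I → Γ × I → Prop
  | 0, v, w => Same X v w
  | k + 1, v, w => ∃ e v', Mem S X V e v ∧ Mem S X V e v' ∧ Dist S X V k v' w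

/-- `b` is the least distance of vertices with noncommuting modules. -/
def Critical (S : Subgroup Γ) (X V : I → Subgroup Γ) (b : ℕ) : Prop :=
  (∃ v w, Dist S X V b v w ∧ ¬ Comm V v w) ∧ ∀ k < b, ∀ v w, Dist S X V k v w → Comm V v w

/-- A pair at the critical distance whose outer edges are the given ones. -/
structure Win (S : Subgroup Γ) (X V : I → Subgroup Γ) (b : ℕ) (a : Γ × I) (e : Γ) (x y : Γ × I) (f : Γ)
    (c : Γ × I) : Prop where
  ne : ¬ Comm V a c
  left : Mem0 S X e a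
  left' : Mem0 S X e x
  mid : Dist S X V (b - 2) x y
  right' : Mem0 S X f y
  right : Mem0 S X f c

section Basic

variable {S : Subgroup Γ} {X V : I → Subgroup Γ}

theorem Mem0.mem {e : Γ} {v : Γ × I} (h : Mem0 S X e v) : Mem S X V e v := by
  obtain ⟨h0, hh, hx⟩ := h
  exact ⟨h0, Subgroup.mem_sup_left hh, hx⟩

theorem mem_self (v : Γ × I) : Mem S X V v.1 v := ⟨1, one_mem _, by simp⟩

theorem Same.refl (v : Γ × I) : Same X v v := ⟨rfl, by simp⟩

theorem Same.symm {v w : Γ × I} (h : Same X v w) : Same X w v := by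
  obtain ⟨h1, h2⟩ := h
  refine ⟨h1.symm, ?_⟩
  rw [← h1]
  have := inv_mem h2
  rwa [_root_.mul_inv_rev, inv_inv] at this

theorem Same.trans {u v w : Γ × I} (h : Same X u v) (h' : Same X v w) : Same X u w := by
  obtain ⟨h1, h2⟩ := h
  obtain ⟨h3, h4⟩ := h'
  refine ⟨h1.trans h3, ?_⟩
  rw [← h1] at h4
  have := mul_mem h2 h4
  convert this using 1
  group

theorem Mem.same {e : Γ} {v w : Γ × I} (h : Mem S X V e v) (hs : Same X v w) : Mem S X V e w := by
  obtain ⟨h0, hh, hx⟩ := h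
  refine ⟨h0, hh, ?_⟩
  rw [← hs.1]
  have := mul_mem hx hs.2
  convert this using 1
  group

theorem Mem0.same {e : Γ} {v w : Γ × I} (h : Mem0 S X e v) (hs : Same X v w) : Mem0 S X e w := by
  obtain ⟨h0, hh, hx⟩ := h
  refine ⟨h0, hh, ?_⟩
  rw [← hs.1]
  have := mul_mem hx hs.2
  convert this using 1
  group

theorem Mem.tr {e : Γ} {v : Γ × I} (h : Mem S X V e v) (d : Γ) : Mem S X V (d * e) (PushingUpFamily.tr d v) := by
  obtain ⟨h0, hh, hx⟩ := h
  refine ⟨h0, hh, ?_⟩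
  show (d * e * h0)⁻¹ * (d * v.1) ∈ X v.2
  convert hx using 1
  group

theorem Mem.edge_mul {e h : Γ} {v : Γ × I} (hv : Mem S X V e v) (hh : h ∈ edgeN S X V) : Mem S X V (e * h) v := by
  obtain ⟨h0, hh0, hx⟩ := hv
  refine ⟨h⁻¹ * h0, mul_mem (inv_mem hh) hh0, ?_⟩
  convert hx using 1
  group

theorem Mem0.edge_mul {e h : Γ} {v : Γ × I} (hv : Mem0 S X e v) (hh : h ∈ Subgroup.normalizer (S : Set Γ)) :
    Mem0 S X (e * h) v := by
  obtain ⟨h0, hh0, hx⟩ := hv
  refine ⟨h⁻¹ * h0, mul_mem (inv_mem hh) hh0, ?_⟩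
  convert hx using 1
  group

/-- An edge can be named so that a given vertex on it is reached inside the normaliser. -/
theorem Mem.rename {e : Γ} {v : Γ × I} (h : Mem S X V e v) :
    ∃ e', e⁻¹ * e' ∈ edgeN S X V ∧ Mem0 S X e' v := by
  obtain ⟨h0, hh, hx⟩ := h
  exact ⟨e * h0, by rwa [inv_mul_cancel_left], 1, one_mem _, by rwa [mul_one]⟩

theorem Mem.of_rename {e e' : Γ} {v : Γ × I} (he : e⁻¹ * e' ∈ edgeN S X V) (h : Mem S X V e v) :
    Mem S X V e' v := by
  have := h.edge_mul he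
  rwa [mul_inv_cancel_left] at this

theorem dist_refl : ∀ (k : ℕ) (v : Γ × I), Dist S X V k v v
  | 0, v => Same.refl v
  | k + 1, v => ⟨v.1, v, mem_self v, mem_self v, dist_refl k v⟩

theorem dist_mono_succ {k : ℕ} {v w : Γ × I} (h : Dist S X V k v w) : Dist S X V (k + 1) v w :=
  ⟨v.1, v, mem_self v, mem_self v, h⟩

theorem dist_mono {k l : ℕ} (h : k ≤ l) {v w : Γ × I} (hd : Dist S X V k v w) : Dist S X V l v w := by
  induction h with
  | refl => exact hd
  | step _ ih => exact dist_mono_succ ih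

theorem dist_same_left : ∀ {k : ℕ} {u v w : Γ × I}, Same X u v → Dist S X V k v w → Dist S X V k u w
  | 0, _, _, _, h, h' => h.trans h'
  | _ + 1, _, _, _, h, ⟨e, v', h1, h2, h3⟩ => ⟨e, v', h1.same h.symm, h2, h3⟩

theorem dist_trans : ∀ {a c : ℕ} {u v w : Γ × I}, Dist S X V a u v → Dist S X V c v w → Dist S X V (a + c) u w
  | 0, c, _, _, _, h, h' => (Nat.zero_add c).symm ▸ dist_same_left h h'
  | a + 1, c, _, _, _, ⟨e, v', h1, h2, h3⟩, h' => by
    rw [Nat.add_right_comm]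
    exact ⟨e, v', h1, h2, dist_trans h3 h'⟩

theorem dist_one {e : Γ} {v w : Γ × I} (h : Mem S X V e v) (h' : Mem S X V e w) : Dist S X V 1 v w :=
  ⟨e, w, h, h', Same.refl w⟩

theorem dist_symm : ∀ {k : ℕ} {v w : Γ × I}, Dist S X V k v w → Dist S X V k w v
  | 0, _, _, h => Same.symm h
  | _ + 1, _, _, ⟨_, _, h1, h2, h3⟩ => dist_trans (dist_symm h3) (dist_one h2 h1)

/-- The last step of a path. -/
theorem dist_back {k : ℕ} {v w : Γ × I} (h : Dist S X V (k + 1) v w) :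
    ∃ e w', Dist S X V k v w' ∧ Mem S X V e w' ∧ Mem S X V e w := by
  obtain ⟨e, w', h1, h2, h3⟩ := dist_symm h
  exact ⟨e, w', dist_symm h3, h2, h1⟩

theorem dist_tr (d : Γ) : ∀ {k : ℕ} {v w : Γ × I}, Dist S X V k v w → Dist S X V k (tr d v) (tr d w)
  | 0, v, w, ⟨h1, h2⟩ => ⟨h1, by
    show (d * v.1)⁻¹ * (d * w.1) ∈ X v.2
    convert h2 using 1
    group⟩
  | _ + 1, _, _, ⟨e, v', h1, h2, h3⟩ => ⟨d * e, tr d v', h1.tr d, h2.tr d, dist_tr d h3⟩

theorem comm_tr {d : Γ} {v w : Γ × I} (h : Comm V v w) : Comm V (tr d v) (tr d w) := by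
  intro a ha c hc
  rw [vert_tr] at ha hc
  obtain ⟨a, ha, rfl⟩ := ha
  obtain ⟨c, hc, rfl⟩ := hc
  exact (show Commute a c from h a ha c hc).map (MulAut.conj d).toMonoidHom

theorem comm_tr_iff {d : Γ} {v w : Γ × I} : Comm V (tr d v) (tr d w) ↔ Comm V v w := by
  refine ⟨fun h => ?_, comm_tr⟩
  have := comm_tr (d := d⁻¹) h
  simpa [tr] using this

theorem Win.swap {b : ℕ} {a x y c : Γ × I} {e f : Γ} (w : Win S X V b a e x y f c) :
    Win S X V b c f y x e a :=
  ⟨fun h => w.ne h.symm, w.right, w.right', dist_symm w.mid, w.left', w.left⟩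

theorem Win.translate {b : ℕ} {a x y c : Γ × I} {e f : Γ} (w : Win S X V b a e x y f c) (d : Γ) :
    Win S X V b (tr d a) (d * e) (tr d x) (tr d y) (d * f) (tr d c) :=
  ⟨fun h => w.ne (comm_tr_iff.1 h), w.left.tr d, w.left'.tr d, dist_tr d w.mid, w.right'.tr d, w.right.tr d⟩

theorem edgeW_member {e h : Γ} (hh : h ∈ Subgroup.normalizer (S : Set Γ)) (i : I) :
    vert V (e * h, i) ≤ cj e (edgeW S V) := by
  rw [vert, cj_mul]
  exact cj_mono e (le_iSup (fun x : Subgroup.normalizer (S : Set Γ) × I => cj (x.1 : Γ) (V x.2)) (⟨h, hh⟩, i))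

theorem edgeW_le_iff {e : Γ} {R : Subgroup Γ} :
    cj e (edgeW S V) ≤ R ↔ ∀ h ∈ Subgroup.normalizer (S : Set Γ), ∀ i, vert V (e * h, i) ≤ R := by
  refine ⟨fun h h0 hh i => (edgeW_member hh i).trans h, fun h => ?_⟩
  rw [edgeW, cj, Subgroup.map_iSup]
  refine iSup_le fun x => ?_
  have := h x.1 x.1.2 x.2
  rw [vert, cj_mul] at this
  exact this

theorem mem0_member {e h : Γ} (hh : h ∈ Subgroup.normalizer (S : Set Γ)) (i : I) : Mem0 S X e (e * h, i) :=
  ⟨h, hh, by simp⟩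

end Basic

namespace Geo2

variable {p : ℕ} {S : Subgroup Γ} {X Q V : I → Subgroup Γ} {n : I → ℕ} (A : Geo2 p S X Q V n)
include A

theorem edgeW_le_Q (i : I) : edgeW S V ≤ Q i := iSup_le fun ⟨⟨h, hh⟩, j⟩ => by
  intro u hu
  have huS : u ∈ S := (A.cj_S hh) ▸ cj_mono h (A.V_le_S j) hu
  rw [← A.inf_cent i]
  refine ⟨huS, fun v hv => ?_⟩
  exact A.comm_one h hh i j v (by rw [vert_one]; exact hv) u hu

theorem edgeW_comm : edgeW S V ≤ ℭ (edgeW S V) := by
  refine iSup_le fun ⟨⟨h, hh⟩, i⟩ => ?_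
  intro u hu x hx
  have hle : edgeW S V ≤ Subgroup.centralizer {u} := by
    refine iSup_le fun ⟨⟨h', hh'⟩, j⟩ w hw => ?_
    rw [Subgroup.mem_centralizer_singleton_iff]
    have h1 := comm_tr (d := h) (A.comm_one (h⁻¹ * h') (mul_mem (inv_mem hh) hh') i j)
    refine (h1 u ?_ w ?_).symm
    · rw [vert_tr, vert_one]; exact hu
    · rw [vert_tr, vert, ← cj_mul, mul_inv_cancel_left]; exact hw
  exact Subgroup.mem_centralizer_singleton_iff.1 (hle hx)

theorem edgeQ_le (i : I) : edgeQ S V ≤ Q i := fun x hx => by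
  rw [← A.inf_cent i]
  refine ⟨hx.1, fun v hv => hx.2 v ?_⟩
  have := le_iSup (fun x : Subgroup.normalizer (S : Set Γ) × I => cj (x.1 : Γ) (V x.2)) (1, i)
  rw [OneMemClass.coe_one, cj_one] at this
  exact this hv

theorem edgeW_le [Nonempty I] : edgeW S V ≤ S :=
  (A.edgeW_le_Q (Classical.arbitrary I)).trans (A.Q_le _)

theorem edgeW_le_edgeQ [Nonempty I] : edgeW S V ≤ edgeQ S V := le_inf A.edgeW_le A.edgeW_comm

theorem lat_edgeW [Finite I] [Nonempty I] : Lat S (edgeW S V) :=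
  Lat.iSup A.bal fun x => (A.lat_V x.2).conjugate (A.cj_S x.1.2)

theorem cent_edgeQ [Finite I] [Nonempty I] : S ⊓ ℭ (edgeQ S V) = edgeW S V := A.lat_edgeW.double A.bal

theorem normalizer_le_W : Subgroup.normalizer (S : Set Γ) ≤ Subgroup.normalizer (edgeW S V : Set Γ) := fun h hh => by
  refine mem_normalizer_of_map_le ?_
  rw [edgeW, Subgroup.map_iSup]
  refine iSup_le fun x => ?_
  show cj h (cj (x.1 : Γ) (V x.2)) ≤ _
  rw [← cj_mul]
  exact le_iSup (fun x : Subgroup.normalizer (S : Set Γ) × I => cj (x.1 : Γ) (V x.2)) (⟨h, hh⟩ * x.1, x.2)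

theorem edgeN_le_W : edgeN S X V ≤ Subgroup.normalizer (edgeW S V : Set Γ) :=
  sup_le A.normalizer_le_W (iSup_le fun i => i.2)

theorem edgeN_le_Q : edgeN S X V ≤ Subgroup.normalizer (edgeQ S V : Set Γ) := by
  refine sup_le (fun h hh => ?_) (iSup_le fun ⟨i, hi⟩ g hg => ?_)
  · rw [← cj_eq_iff, edgeQ, cj_inf, A.cj_S hh, ← centralizer_cj, cj_eq_of_mem (A.normalizer_le_W hh)]
  · refine mem_normalizer_of_map_le ?_
    show cj g (edgeQ S V) ≤ _
    intro x hx
    refine ⟨A.Q_le i ((A.norm_Q i g hg) ▸ cj_mono g (A.edgeQ_le i) hx), ?_⟩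
    have := cj_mono g (inf_le_right : edgeQ S V ≤ ℭ (edgeW S V)) hx
    rwa [← centralizer_cj, cj_eq_of_mem (hi hg)] at this

variable {e : Γ} {v : Γ × I}

theorem edgeW_eq {e' : Γ} (h : e⁻¹ * e' ∈ edgeN S X V) : cj e' (edgeW S V) = cj e (edgeW S V) := by
  conv_lhs => rw [← mul_inv_cancel_left e e', cj_mul, cj_eq_of_mem (A.edgeN_le_W h)]

theorem edgeQ_eq {e' : Γ} (h : e⁻¹ * e' ∈ edgeN S X V) : cj e' (edgeQ S V) = cj e (edgeQ S V) := by
  conv_lhs => rw [← mul_inv_cancel_left e e', cj_mul, cj_eq_of_mem (A.edgeN_le_Q h)]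

theorem vert_le_W (h : Mem S X V e v) : vert V v ≤ cj e (edgeW S V) := by
  obtain ⟨e', he, hm⟩ := h.rename
  rw [← A.edgeW_eq he]
  obtain ⟨h0, hh, hx⟩ := hm
  have h1 : vert V v = vert V (e' * h0, v.2) := by
    rw [vert, vert, show v.1 = e' * h0 * ((e' * h0)⁻¹ * v.1) by group, cj_mul, A.norm_V _ _ hx]
  rw [h1]
  exact edgeW_member hh _

theorem edgeQ_le_vert (h : Mem S X V e v) : cj e (edgeQ S V) ≤ vert Q v := by
  obtain ⟨e', he, hm⟩ := h.rename
  rw [← A.edgeQ_eq he]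
  obtain ⟨c, h1, -, hc, hQ⟩ := A.exists_frame hm
  intro x hx
  refine A.edge_cent_le hm ⟨cj_mono e' inf_le_left hx, fun a ha => ?_⟩
  obtain ⟨x, hx, rfl⟩ := hx
  obtain ⟨a, ha', rfl⟩ := A.vert_le_W hm.mem ha
  exact (show Commute a x from hx.2 a ha').map (MulAut.conj e').toMonoidHom

/-- A subgroup of the edge's Sylow subgroup commuting with all modules on the edge. -/
theorem le_edgeQ {R : Subgroup Γ} (hS : R ≤ cj e S)
    (hc : ∀ h ∈ Subgroup.normalizer (S : Set Γ), ∀ i, ∀ a ∈ vert V (e * h, i), ∀ r ∈ R, a * r = r * a) :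
    R ≤ cj e (edgeQ S V) := by
  rw [edgeQ, cj_inf, ← centralizer_cj]
  refine le_inf hS fun r hr x hx => ?_
  have hle : cj e (edgeW S V) ≤ Subgroup.centralizer {r} := edgeW_le_iff.2 fun h hh i a ha =>
    Subgroup.mem_centralizer_singleton_iff.2 (hc h hh i a ha r hr)
  exact Subgroup.mem_centralizer_singleton_iff.1 (hle hx)

/-- Commuting with all vertices of an edge at a vertex `v` puts a subgroup of `Q` into the edge's centraliser. -/
theorem le_edgeQ' (h : Mem S X V e v) {R : Subgroup Γ} (hQ : R ≤ vert Q v)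
    (hc : ∀ w, Mem S X V e w → ∀ a ∈ vert V w, ∀ r ∈ R, a * r = r * a) : R ≤ cj e (edgeQ S V) := by
  obtain ⟨e', he, hm⟩ := h.rename
  rw [← A.edgeQ_eq he]
  refine A.le_edgeQ (hQ.trans (A.Q_le_edge hm)) fun h0 hh i => hc _ ?_
  have := ((mem0_member (X := X) (e := e') hh i).mem (V := V)).edge_mul (inv_mem he)
  rwa [_root_.mul_inv_rev, inv_inv, mul_inv_cancel_left] at this

/-- The modules of one edge commute. -/
theorem comm_edge {w : Γ × I} (h : Mem S X V e v) (h' : Mem S X V e w) : Comm V v w := by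
  intro a ha c hc
  obtain ⟨a, ha', rfl⟩ := A.vert_le_W h ha
  obtain ⟨c, hc', rfl⟩ := A.vert_le_W h' hc
  exact (show Commute a c from (A.edgeW_comm ha' c hc').symm).map (MulAut.conj e).toMonoidHom

theorem comm_same {w : Γ × I} (h : Same X v w) : Comm V v w :=
  A.comm_edge (mem_self v) ((mem_self v).same h)

theorem critical_two {b : ℕ} (hb : Critical S X V b) : 2 ≤ b := by
  obtain ⟨⟨v, w, hd, hne⟩, -⟩ := hb
  by_contra hlt
  rcases (show b = 0 ∨ b = 1 by omega) with rfl | rfl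
  · exact hne (A.comm_same hd)
  · obtain ⟨e, v', h1, h2, h3⟩ := hd
    exact hne (A.comm_edge h1 (h2.same h3))

theorem near_Q : ∀ {k : ℕ}, (∀ k' ≤ k, ∀ v w, Dist S X V k' v w → Comm V v w) →
    ∀ {v w : Γ × I}, Dist S X V k v w → vert V w ≤ vert Q v
  | 0, _, v, w, ⟨h1, h2⟩ => by
    have : vert V w = vert V v := by
      rw [vert, vert, show w.1 = v.1 * (v.1⁻¹ * w.1) by group, cj_mul, ← h1, A.norm_V _ _ h2]
    rw [this]
    exact A.vertV_le v
  | k + 1, hc, v, w, ⟨e, v', h1, h2, h3⟩ => by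
    refine le_trans ?_ (A.edgeQ_le_vert h1)
    refine A.le_edgeQ' h2 (near_Q (fun k' hk' => hc k' (by omega)) h3) fun u hu a ha r hr => ?_
    exact hc (k + 1) le_rfl u w ⟨e, v', hu, h2, h3⟩ a ha r hr

section Crit

variable {b : ℕ} (hb : Critical S X V b)
include hb

theorem near {k : ℕ} (hk : k < b) {v w : Γ × I} (h : Dist S X V k v w) :
    Comm V v w ∧ vert V w ≤ vert Q v :=
  ⟨hb.2 k hk v w h, A.near_Q (fun k' hk' => hb.2 k' (by omega)) h⟩

theorem near_edge {k : ℕ} (hk : k + 1 < b) {v w : Γ × I} (h : Mem S X V e v) (hd : Dist S X V k v w) :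
    vert V w ≤ cj e (edgeQ S V) :=
  A.le_edgeQ' h (A.near hb (by omega) hd).2 fun u hu a ha r hr =>
    hb.2 (k + 1) hk u w ⟨e, v, hu, h, hd⟩ a ha r hr

/-- A vertex of an edge whose module fails to commute can be taken inside the normaliser. -/
theorem exists_member {u : Γ × I} (h : Mem S X V e v) (hne : ¬ Comm V v u) {e' : Γ}
    (he : e⁻¹ * e' ∈ edgeN S X V) : ∃ v', Mem0 S X e' v' ∧ Mem S X V e v' ∧ ¬ Comm V v' u := by
  by_contra! hall
  apply hne
  intro a ha c hc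
  have hle : cj e' (edgeW S V) ≤ Subgroup.centralizer {c} := edgeW_le_iff.2 fun h0 hh i x hx =>
    Subgroup.mem_centralizer_singleton_iff.2 (hall _ (mem0_member hh i) (by
      have := ((mem0_member (X := X) (e := e') hh i).mem (V := V)).edge_mul (inv_mem he)
      rwa [_root_.mul_inv_rev, inv_inv, mul_inv_cancel_left] at this) x hx c hc)
  exact Subgroup.mem_centralizer_singleton_iff.1 (hle (A.edgeW_eq he ▸ A.vert_le_W h ha))

theorem exists_win : ∃ a e x y f c, Win S X V b a e x y f c := by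
  obtain ⟨v, w, hd, hne⟩ := hb.1
  obtain ⟨k, rfl⟩ : ∃ k, b = k + 2 := ⟨b - 2, by have := A.critical_two hb; omega⟩
  obtain ⟨e, x, h1, h2, h3⟩ := hd
  obtain ⟨f, y, h4, h5, h6⟩ := dist_back h3
  obtain ⟨e', he, hx⟩ := h2.rename
  obtain ⟨a, ha, -, hne'⟩ := A.exists_member hb h1 hne he
  obtain ⟨f', hf, hy⟩ := h5.rename
  obtain ⟨c, hc, -, hne''⟩ := A.exists_member hb h6 (fun h => hne' h.symm) hf
  exact ⟨a, e', x, y, f', c, fun h => hne'' h.symm, ha, hx, by simpa using h4, hy, hc⟩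

variable {a x y c : Γ × I} {f : Γ}

theorem win_dist (w : Win S X V b a e x y f c) : Dist S X V (b - 1) x c ∧ Dist S X V (b - 1) a y := by
  have hb2 := A.critical_two hb
  refine ⟨?_, ?_⟩
  · have := dist_trans w.mid (dist_one (w.right'.mem (V := V)) w.right.mem)
    rwa [show b - 2 + 1 = b - 1 by omega] at this
  · have := dist_trans (dist_one (w.left.mem (V := V)) w.left'.mem) w.mid
    rwa [show 1 + (b - 2) = b - 1 by omega] at this

theorem win_le (w : Win S X V b a e x y f c) : vert V c ≤ cj e S ∧ vert V a ≤ cj f S := by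
  have hb2 := A.critical_two hb
  obtain ⟨h1, h2⟩ := A.win_dist hb w
  exact ⟨(A.near hb (by omega) h1).2.trans (A.Q_le_edge w.left'),
    (A.near hb (by omega) (dist_symm h2)).2.trans (A.Q_le_edge w.right')⟩

theorem win_cent (w : Win S X V b a e x y f c) {u : Γ} (hu : u ∈ vert V a)
    (hcom : ∀ t ∈ vert V c, t * u = u * t) : u ∈ cj e (S ⊓ ℭ S) :=
  A.pair_cent w.ne w.left (A.win_le hb w).1 hu hcom

theorem win_mul [Fact p.Prime] (w : Win S X V b a e x y f c) {s : Γ} (hs : s ∈ cj e S) :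
    ∃ t ∈ vert V c, ∃ q ∈ vert Q a, s = t * q :=
  A.pair_mul w.ne w.left w.right (A.win_le hb w).1 (A.win_le hb w).2 hs

theorem win_n [Fact p.Prime] (w : Win S X V b a e x y f c) : n a.2 = n c.2 :=
  A.pair_n w.ne w.left w.right (A.win_le hb w).1 (A.win_le hb w).2

/-- What commutes with the far edge is moved into the near module by the far module. -/
theorem win_move [Fact p.Prime] (w : Win S X V b a e x y f c) {u t : Γ} (hu : u ∈ cj f S) (ht : t ∈ vert V c) :
    u * t * u⁻¹ * t⁻¹ ∈ vert V a ⊓ cj f (S ⊓ ℭ S) ∧ t * u * t⁻¹ * u⁻¹ ∈ vert V a := by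
  obtain ⟨v, hv, q, hq, rfl⟩ := A.win_mul hb w.swap hu
  have hqt := A.QV_vert hq ht
  have e1 : v * q * t * (v * q)⁻¹ * t⁻¹ = v * t * v⁻¹ * t⁻¹ := by
    calc v * q * t * (v * q)⁻¹ * t⁻¹ = v * (q * t) * q⁻¹ * v⁻¹ * t⁻¹ := by group
      _ = v * (t * q) * q⁻¹ * v⁻¹ * t⁻¹ := by rw [hqt]
      _ = _ := by group
  have h1 : t * v * t⁻¹ * v⁻¹ ∈ vert V a :=
    A.comm_mem_V (A.S_le_vert w.left ((A.win_le hb w).1 ht)) hv
  have h2 : v * t * v⁻¹ * t⁻¹ ∈ cj f (S ⊓ ℭ S) := A.into_edge w.right ((A.win_le hb w).2 hv) ht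
  have h3 : v * t * v⁻¹ * t⁻¹ = (t * v * t⁻¹ * v⁻¹)⁻¹ := by group
  refine ⟨⟨by rw [e1, h3]; exact Subgroup.inv_mem _ h1, by rw [e1]; exact h2⟩, ?_⟩
  rw [show t * (v * q) * t⁻¹ * (v * q)⁻¹ = (v * q * t * (v * q)⁻¹ * t⁻¹)⁻¹ by group, e1, h3, inv_inv]
  exact h1

end Crit

end Geo2

end CfsgLib.PushingUpFamily
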