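/-
The key lemma: in a window some commutator of the two modules is a nontrivial fixed point of the inner vertex.
-/
import Cfsg.Agent.Lib.PushingUpFamily.Graph

set_option autoImplicit false
set_option linter.unusedSectionVars false
set_option linter.style.haveILetI false

open scoped Pointwise commutatorElement

namespace CfsgLib.PushingUpFamily

open CfsgLib.LocalEven.PushingUpClosure CfsgLib.PushingUpRankOne

variable {Γ : Type*} [Group Γ] [Finite Γ] {I : Type*}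

local notation "ℭ" X:max => Subgroup.centralizer (SetLike.coe X)

/-- An abelian member of the lattice can be put into an abelian subgroup of largest order. -/
theorem maxAb_swap {S : Subgroup Γ} (hS : Balanced S) {A H : Subgroup Γ} (hA : IsMaxAb S A) (hH : Lat S H)
    (hHab : H ≤ ℭ H) : IsMaxAb S ((A ⊓ (S ⊓ ℭ H)) ⊔ H) := by
  have hAl := hS.maxAb A hA
  have hK := hH.cent hS
  refine maxAb_of_lat hS ((hAl.inf hS hK).sup hS hH) ?_
  rw [Lat.cent_sup, hAl.cent_inf hS hK, hH.double hS, maxAb_cent hA]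
  refine le_antisymm (fun x hx => ?_) (le_inf (sup_le (inf_le_left.trans le_sup_left) le_sup_right)
    (sup_le inf_le_right (le_inf hH.le hHab)))
  obtain ⟨a, ha, u, hu, rfl⟩ := hAl.mul hS hH hx.1
  have hu' : u ∈ S ⊓ ℭ H := ⟨hH.le hu, hHab hu⟩
  have := Subgroup.mul_mem _ hx.2 (Subgroup.inv_mem _ hu')
  rw [mul_inv_cancel_right] at this
  exact mul_mem (Subgroup.mem_sup_left ⟨ha, this⟩) (Subgroup.mem_sup_right hu)

/-- In a `p`-group, a normalising element moves some element outside `R` into `R`. -/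
theorem exists_fixed_coset {p : ℕ} [Fact p.Prime] {P E R : Subgroup Γ} (hP : IsPGroup p P) (hE : E ≤ P)
    (hne : ¬ E ≤ R) : ∃ e ∈ E, e ∉ R ∧ ∀ η ∈ P, η * e * η⁻¹ * e⁻¹ ∈ E → η * e * η⁻¹ * e⁻¹ ∈ R := by
  classical
  haveI : Group.IsNilpotent ↥P := hP.isNilpotent
  obtain ⟨k, hk⟩ := (Subgroup.nilpotent_iff_lowerCentralSeries (G := ↥P)).1 inferInstance
  have hbot : P.lowerCentralSeries k = ⊥ := by
    have := congrArg (Subgroup.map P.subtype) hk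
    rwa [Subgroup.map_lowerCentralSeries, ← MonoidHom.range_eq_map, Subgroup.range_subtype, Subgroup.map_bot] at this
  obtain ⟨e₀, he₀, he₀R⟩ := SetLike.not_le_iff_exists.1 hne
  set good := fun i : ℕ => ∀ e ∈ E, e ∈ P.lowerCentralSeries i → e ∈ R
  have hex : ∃ i, good i := ⟨k, fun e _ he => by
    rw [hbot, Subgroup.mem_bot] at he
    rw [he]; exact one_mem R⟩
  obtain ⟨j, hj⟩ : ∃ j, Nat.find hex = j + 1 := Nat.exists_eq_succ_of_ne_zero fun h0 => by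
    have := Nat.find_spec hex
    rw [h0] at this
    exact he₀R (this e₀ he₀ (by rw [Subgroup.lowerCentralSeries_zero]; exact hE he₀))
  have hmin := Nat.find_min hex (m := j) (by omega)
  simp only [good, not_forall] at hmin
  obtain ⟨e, he, hej, heR⟩ := hmin
  refine ⟨e, he, heR, fun η hη hηE => ?_⟩
  have hspec := Nat.find_spec hex
  rw [hj] at hspec
  refine hspec _ hηE ?_
  have h1 := inv_mem (Subgroup.commutator_mem_commutator hej hη)
  rw [← Subgroup.lowerCentralSeries_succ, commutatorElement_def] at h1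
  convert h1 using 1
  group

namespace Geo

variable {p : ℕ} [Fact p.Prime] {S : Subgroup Γ} {X Q V : I → Subgroup Γ} {n : I → ℕ} (A : Geo p S X Q V n)
include A

/-- A conjugate of a member of the lattice between `V` and `Q` is a member. -/
theorem lat_conj (j : I) {H : Subgroup Γ} (hV : V j ≤ H) (hH : Lat S H) (hQ : H ≤ Q j) {g : Γ} (hg : g ∈ X j) :
    Lat S (cj g H) ∧ S ⊓ ℭ (cj g H) = cj g (S ⊓ ℭ H) := by
  have hc : ∀ {R : Subgroup Γ}, V j ≤ R → S ⊓ ℭ R ≤ Q j := fun hR =>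
    (inf_le_inf_left _ (Subgroup.centralizer_le hR)).trans (A.inf_cent j).le
  have hgV : V j ≤ cj g H := (A.norm_V j g hg) ▸ cj_mono g hV
  have e : S ⊓ ℭ (cj g H) = cj g (S ⊓ ℭ H) := by
    refine le_antisymm ?_ ?_
    · rw [cj_inf, ← centralizer_cj]
      refine le_inf ?_ inf_le_right
      exact (hc hgV).trans ((A.norm_Q j g hg).ge.trans (cj_mono g (A.Q_le j)))
    · rw [centralizer_cj]
      exact le_inf ((cj_mono g (hc hV)).trans ((A.norm_Q j g hg).le.trans (A.Q_le j))) (cj_mono g inf_le_right)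
  refine ⟨⟨(cj_mono g hQ).trans ((A.norm_Q j g hg).le.trans (A.Q_le j)), ?_⟩, e⟩
  rw [cdIn, e, cj, cj, Subgroup.card_map_of_injective (MulAut.conj g).injective,
    Subgroup.card_map_of_injective (MulAut.conj g).injective]
  exact hH.eq

theorem fixed_pair (j : I) {g : Γ} (h : S ⊔ cj g S = X j) {z : Γ} (h1 : z ∈ S ⊓ ℭ S)
    (h2 : z ∈ cj g (S ⊓ ℭ S)) : z ∈ ℭ (X j) := by
  intro x hx
  have hle : X j ≤ Subgroup.centralizer {z} := h ▸ sup_le
    (fun s hs => Subgroup.mem_centralizer_singleton_iff.2 (h1.2 s hs)) (fun s hs =>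
      Subgroup.mem_centralizer_singleton_iff.2 (A.Z_edge_comm h2 hs))
  exact Subgroup.mem_centralizer_singleton_iff.1 (hle hx)

/-- An offender and `Q` generate the Sylow subgroup. -/
theorem sup_Q (j : I) {B : Subgroup Γ} (hB : IsMaxAb S B) (hBQ : ¬ B ≤ Q j) : B ⊔ Q j = S := by
  have hBl := A.bal.maxAb B hB
  obtain ⟨a, ha, haQ⟩ := SetLike.not_le_iff_exists.1 hBQ
  have hc : S ⊓ ℭ (B ⊔ Q j) = S ⊓ ℭ S := by
    refine le_antisymm ?_ (inf_le_inf_left _ (Subgroup.centralizer_le (sup_le hB.1 (A.Q_le j))))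
    rw [Lat.cent_sup, maxAb_cent hB]
    conv_lhs => rw [← A.inf_cent j, (A.lat_V j).double A.bal]
    rintro v ⟨hvB, hvV⟩
    exact A.fixed_eq j a (hB.1 ha) haQ v hvV (hB.2.1 hvB a ha)
  rw [← (hBl.sup A.bal (A.lat_Q j)).double A.bal, hc]
  exact le_antisymm inf_le_left (le_inf le_rfl fun s hs z hz => (hz.2 s hs).symm)

/-- The key lemma, for an abelian member `P` of the lattice inside `Q j` whose centraliser covers `S` modulo
`Q j`. -/
theorem neighbour_normal (j : I) {P : Subgroup Γ} (hP : Lat S P) (hPQ : P ≤ Q j) (hPab : P ≤ ℭ P)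
    (hPS : ∀ s ∈ S, ∀ u ∈ P, s * u * s⁻¹ * u⁻¹ ∈ S ⊓ ℭ S)
    (hsup : ∀ s ∈ S, ∃ t ∈ Q j, ∃ q ∈ S ⊓ ℭ P, s = t * q) (hPZ : ∃ u ∈ P, u ∉ S ⊓ ℭ S)
    (hfix : ∀ u ∈ P, u ∉ S ⊓ ℭ S → ∀ t ∈ Q j, t * u = u * t → t ∈ S ⊓ ℭ P)
    (hinj : ∀ u ∈ P, ∀ t ∈ Q j, u * t * u⁻¹ * t⁻¹ ∈ ℭ (X j) → u * t = t * u) :
    ∀ g ∈ X j, cj g P ≤ P ⊔ V j := by
  classical
  have hS := A.bal
  set Qc := S ⊓ ℭ P with hQcd
  have hQc : Lat S Qc := hP.cent hS
  have hQS := A.Q_le j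
  have hVQ := A.V_le j
  have hVS := A.V_le_S j
  have hSX := A.S_le j
  -- the index of `Qc`
  have hidx : Qc.relIndex S ≤ p ^ n j := by
    obtain ⟨u, hu, huZ⟩ := hPZ
    have h1 : Qc.relIndex S ≤ Qc.relIndex (Q j) := by
      refine Nat.card_le_card_of_surjective
        (fun x : ↥(Q j) ⧸ Qc.subgroupOf (Q j) =>
          (QuotientGroup.mk (⟨(x.out : Γ), hQS x.out.2⟩ : ↥S) : ↥S ⧸ Qc.subgroupOf S)) fun y => ?_
      obtain ⟨⟨s, hs⟩, rfl⟩ := QuotientGroup.mk_surjective y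
      obtain ⟨t, ht, q, hq, rfl⟩ := hsup s hs
      refine ⟨QuotientGroup.mk ⟨t, ht⟩, QuotientGroup.eq.2 ?_⟩
      have ho := QuotientGroup.eq.1 (QuotientGroup.out_eq' (QuotientGroup.mk (⟨t, ht⟩ : ↥(Q j)) :
        ↥(Q j) ⧸ Qc.subgroupOf (Q j)))
      have ho' : ((QuotientGroup.mk (⟨t, ht⟩ : ↥(Q j)) : ↥(Q j) ⧸ Qc.subgroupOf (Q j)).out : Γ)⁻¹ * t ∈ Qc := ho
      show _⁻¹ * (t * q) ∈ Qc
      rw [← mul_assoc]
      exact mul_mem ho' hq
    refine h1.trans ?_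
    have hm : ∀ t ∈ Q j, t * u * t⁻¹ * u⁻¹ ∈ S ⊓ ℭ S := fun t ht => hPS t (hQS ht) u hu
    rw [← A.relC j]
    refine Nat.card_le_card_of_injective
      (fun x : ↥(Q j) ⧸ Qc.subgroupOf (Q j) =>
        (QuotientGroup.mk (⟨_, hm _ x.out.2⟩ : ↥(S ⊓ ℭ S)) :
          ↥(S ⊓ ℭ S) ⧸ (V j ⊓ ℭ (X j)).subgroupOf (S ⊓ ℭ S))) fun x y hxy => ?_
    have h2 := QuotientGroup.eq.1 hxy
    rw [← QuotientGroup.out_eq' x, ← QuotientGroup.out_eq' y, QuotientGroup.eq]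
    set t := (x.out : Γ)
    set t' := (y.out : Γ)
    have ht : t ∈ Q j := x.out.2
    have ht' : t' ∈ Q j := y.out.2
    show t⁻¹ * t' ∈ Qc
    set d := t⁻¹ * t'
    have hd : d ∈ Q j := mul_mem (inv_mem ht) ht'
    refine hfix u hu huZ d hd ?_
    have hdz : d * u * d⁻¹ * u⁻¹ ∈ S ⊓ ℭ S := hm d hd
    have e1 : t' * u * t'⁻¹ * u⁻¹ = (d * u * d⁻¹ * u⁻¹) * (t * u * t⁻¹ * u⁻¹) := by
      rw [show t' * u * t'⁻¹ * u⁻¹ = t * (d * u * d⁻¹ * u⁻¹) * (u * t⁻¹ * u⁻¹) by simp only [d]; group,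
        hdz.2 t (hQS ht)]
      group
    have h3 : (t * u * t⁻¹ * u⁻¹)⁻¹ * (t' * u * t'⁻¹ * u⁻¹) ∈ ℭ (X j) :=
      (show _ ∈ V j ⊓ ℭ (X j) from h2).2
    have h4 : d * u * d⁻¹ * u⁻¹ ∈ ℭ (X j) := by
      rw [e1] at h3
      have h5 : Commute (d * u * d⁻¹ * u⁻¹) (t * u * t⁻¹ * u⁻¹) := (hdz.2 _ (hm t ht).1).symm
      rwa [h5.eq, inv_mul_cancel_left] at h3
    refine (hinj u hu d hd ?_).symm
    have h6 := inv_mem h4
    convert h6 using 1
    group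
  -- an offender meeting `Q` inside `Qc`
  obtain ⟨B, hB, hBQ, hBc⟩ : ∃ B, IsMaxAb S B ∧ ¬ B ≤ Q j ∧ B ⊓ Q j ≤ Qc := by
    obtain ⟨A₀, hA₀, hA₀Q⟩ : ∃ B, IsMaxAb S B ∧ ¬ B ≤ Q j := by
      by_contra! hh
      obtain ⟨s, hs, hsQ⟩ := A.exists_notQ j
      exact hsQ (hS.gen _ hh hs)
    by_cases h1 : (A₀ ⊓ Qc) ⊔ P ≤ Q j
    · refine ⟨A₀, hA₀, hA₀Q, ?_⟩
      have hle : A₀ ⊓ Qc ≤ A₀ ⊓ Q j := le_inf inf_le_left (le_sup_left.trans h1)
      have hAl := hS.maxAb A₀ hA₀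
      have c1 := ((hAl.maxCD hS).product ((A.lat_Q j).maxCD hS)).1
      have c2 := CfsgLib.LocalEvenB.CDMeasure.card_mul_card_le A₀ Qc
      rw [← Subgroup.subgroupOf_sup hA₀.1 hQS, A.sup_Q j hA₀ hA₀Q, card_subgroupOf hA₀.1, card_subgroupOf hQS,
        card_subgroupOf le_rfl, show A₀.subgroupOf S ⊓ (Q j).subgroupOf S = (A₀ ⊓ Q j).subgroupOf S by
          rw [Subgroup.subgroupOf, Subgroup.subgroupOf, Subgroup.subgroupOf, Subgroup.comap_inf],
        card_subgroupOf (inf_le_left.trans hA₀.1)] at c1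
      have c3 := Subgroup.relIndex_mul_relIndex ⊥ (Q j) S bot_le hQS
      have c4 := Subgroup.relIndex_mul_relIndex ⊥ Qc S bot_le hQc.le
      rw [Subgroup.relIndex_bot_left, Subgroup.relIndex_bot_left, A.relQ] at c3
      rw [Subgroup.relIndex_bot_left, Subgroup.relIndex_bot_left] at c4
      have c5 : Nat.card ↥(A₀ ⊔ Qc) ≤ Nat.card S := Subgroup.card_le_of_le (sup_le hA₀.1 hQc.le)
      have c6 : Nat.card ↥(A₀ ⊓ Q j) ≤ Nat.card ↥(A₀ ⊓ Qc) := by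
        have hpos : 0 < Nat.card ↥(Q j) * Nat.card Qc := Nat.mul_pos Nat.card_pos Nat.card_pos
        refine Nat.le_of_mul_le_mul_left ?_ hpos
        have hqpos : 0 < p ^ n j := pow_pos (Fact.out : p.Prime).pos _
        refine Nat.le_of_mul_le_mul_left ?_ hqpos
        calc p ^ n j * (Nat.card ↥(Q j) * Nat.card Qc * Nat.card ↥(A₀ ⊓ Q j))
            = Nat.card Qc * (Nat.card S * Nat.card ↥(A₀ ⊓ Q j)) := by rw [← c3]; ring
          _ = Nat.card ↥(Q j) * (Nat.card A₀ * Nat.card Qc) := by rw [← c1]; ring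
          _ ≤ Nat.card ↥(Q j) * (Nat.card S * Nat.card ↥(A₀ ⊓ Qc)) :=
              Nat.mul_le_mul_left _ (c2.trans (Nat.mul_le_mul_right _ c5))
          _ = Nat.card ↥(Q j) * (Nat.card Qc * Qc.relIndex S * Nat.card ↥(A₀ ⊓ Qc)) := by rw [c4]
          _ ≤ Nat.card ↥(Q j) * (Nat.card Qc * p ^ n j * Nat.card ↥(A₀ ⊓ Qc)) :=
              Nat.mul_le_mul_left _ (Nat.mul_le_mul_right _ (Nat.mul_le_mul_left _ hidx))
          _ = _ := by ring
      exact (Subgroup.eq_of_le_of_card_ge hle c6).ge.trans inf_le_right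
    · exact ⟨_, maxAb_swap hS hA₀ hP hPab, h1,
        inf_le_left.trans (sup_le inf_le_right (le_inf hP.le hPab))⟩
  obtain ⟨b₀, hb₀, hb₀Q⟩ := SetLike.not_le_iff_exists.1 hBQ
  set B' := (B ⊓ (S ⊓ ℭ (V j))) ⊔ V j with hB'd
  have hVab : V j ≤ ℭ (V j) := fun v hv w hw => A.QV j w (hVQ hw) v hv
  have hB' : IsMaxAb S B' := maxAb_swap hS hB (A.lat_V j) hVab
  have hB'l := hS.maxAb B' hB'
  have hB'c := maxAb_cent hB'
  have hB'Q : B' ≤ Q j := sup_le (inf_le_right.trans (A.inf_cent j).le) hVQ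
  have hPB' : P ≤ B' := fun u hu => hB'.mem (hP.le hu) fun a ha => by
    have hle : B' ≤ Subgroup.centralizer {u} := sup_le (fun x hx => by
        have hxc : x ∈ Qc := hBc ⟨hx.1, (A.inf_cent j).le hx.2⟩
        exact Subgroup.mem_centralizer_singleton_iff.2 (hxc.2 u hu).symm)
      fun x hx => Subgroup.mem_centralizer_singleton_iff.2 (A.QV j u (hPQ hu) x hx).symm
    exact Subgroup.mem_centralizer_singleton_iff.1 (hle ha)
  have hBB' : ∀ b ∈ B, ∀ x ∈ B', b * x * b⁻¹ * x⁻¹ ∈ S ⊓ ℭ S := by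
    intro b hb x hx
    obtain ⟨a, ha, v, hv, rfl⟩ :=
      ((hS.maxAb B hB).inf hS ((A.lat_V j).cent hS)).mul hS (A.lat_V j) hx
    have h0 : b * a * b⁻¹ = a := by rw [(hB.2.1 ha.1 b hb : b * a = a * b), mul_inv_cancel_right]
    have h1 := A.into j b (hB.1 hb) v hv
    have h2 : a * (b * v * b⁻¹ * v⁻¹) = b * v * b⁻¹ * v⁻¹ * a := h1.2 a (hB.1 ha.1)
    rw [show b * (a * v) * b⁻¹ * (a * v)⁻¹ = (b * a * b⁻¹) * (b * v * b⁻¹ * v⁻¹) * a⁻¹ by group, h0, h2,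
      mul_inv_cancel_right]
    exact h1
  have hBQS : ∀ s ∈ S, ∃ b ∈ B, ∃ q ∈ Q j, s = b * q := fun s hs =>
    (hS.maxAb B hB).mul hS (A.lat_Q j) ((A.sup_Q j hB hBQ).ge hs)
  -- the normal subgroup generated by the conjugates of `P`
  haveI : Nonempty (X j) := ⟨1⟩
  set Mn := ⨆ g : X j, cj (g : Γ) (P ⊔ V j) with hMnd
  have hPV : Lat S (P ⊔ V j) := hP.sup hS (A.lat_V j)
  have hMnl : Lat S Mn := Lat.iSup hS fun g : X j => (A.lat_conj j le_sup_right hPV (sup_le hPQ hVQ) g.2).1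
  have hgMn : ∀ {g : Γ}, g ∈ X j → cj g (P ⊔ V j) ≤ Mn := fun {g} hg =>
    le_iSup (fun g : X j => cj (g : Γ) (P ⊔ V j)) ⟨g, hg⟩
  have hPMn : P ≤ Mn := by
    have := hgMn (one_mem (X j)); rw [cj_one] at this; exact le_sup_left.trans this
  have hVMn : V j ≤ Mn := by
    have := hgMn (one_mem (X j)); rw [cj_one] at this; exact le_sup_right.trans this
  have hMnQ : Mn ≤ Q j := iSup_le fun g => (cj_mono _ (sup_le hPQ hVQ)).trans (A.norm_Q j _ g.2).le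
  have hMnX : ∀ g ∈ X j, ∀ m ∈ Mn, g * m * g⁻¹ ∈ Mn := fun g hg m hm => by
    have hle : cj g Mn ≤ Mn := by
      rw [hMnd, cj, Subgroup.map_iSup]
      refine iSup_le fun x => ?_
      show cj g (cj (x : Γ) (P ⊔ V j)) ≤ _
      rw [← cj_mul]
      exact hgMn (mul_mem hg x.2)
    exact hle (conj_mem_cj hm)
  have hMnV : ∀ m ∈ Mn, ∀ t ∈ Q j, m * t * m⁻¹ * t⁻¹ ∈ V j := by
    let D : Subgroup Γ :=
      { carrier := {m | m ∈ Q j ∧ ∀ t ∈ Q j, m * t * m⁻¹ * t⁻¹ ∈ V j}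
        one_mem' := ⟨one_mem _, fun t _ => by simp⟩
        mul_mem' := fun {a c} ha hc => ⟨mul_mem ha.1 hc.1, fun t ht => by
          rw [show a * c * t * (a * c)⁻¹ * t⁻¹ = a * (c * t * c⁻¹ * t⁻¹) * a⁻¹ * (a * t * a⁻¹ * t⁻¹) by group,
            A.QV j a ha.1 _ (hc.2 t ht), mul_inv_cancel_right]
          exact mul_mem (hc.2 t ht) (ha.2 t ht)⟩
        inv_mem' := fun {a} ha => ⟨inv_mem ha.1, fun t ht => by
          have h1 := ha.2 t ht
          rw [show a⁻¹ * t * a⁻¹⁻¹ * t⁻¹ = a⁻¹ * (a * t * a⁻¹ * t⁻¹)⁻¹ * a by group,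
            A.QV j a⁻¹ (inv_mem ha.1) _ (inv_mem h1), inv_mul_cancel_right]
          exact inv_mem h1⟩ }
    suffices h : Mn ≤ D from fun m hm => (h hm).2
    refine iSup_le fun ⟨g, hg⟩ => ?_
    rw [cj_sup]
    refine sup_le ?_ ?_
    · rintro _ ⟨u, hu, rfl⟩
      refine ⟨(A.norm_Q j g hg).le (conj_mem_cj (hPQ hu)), fun t ht => ?_⟩
      have ht' : g⁻¹ * t * g ∈ Q j := by
        have := (A.norm_Q j g⁻¹ (inv_mem hg)).le (conj_mem_cj (x := g⁻¹) ht)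
        simpa using this
      have h1 := inv_mem (A.Z_le j (hPS _ (hQS ht') u hu))
      have h2 := (A.norm_V j g hg).le (conj_mem_cj (x := g) h1)
      convert h2 using 1
      show g * u * g⁻¹ * t * (g * u * g⁻¹)⁻¹ * t⁻¹ = _
      group
    · rw [A.norm_V j g hg]
      exact fun v hv => ⟨hVQ hv, fun t ht => by
        rw [← A.QV j t ht v hv, mul_inv_cancel_right, mul_inv_cancel]; exact one_mem _⟩
  set K := S ⊓ ℭ Mn with hKd
  have hKl : Lat S K := hMnl.cent hS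
  have hKQ : K ≤ Q j := (inf_le_inf_left _ (Subgroup.centralizer_le hVMn)).trans (A.inf_cent j).le
  have hKX : ∀ g ∈ X j, ∀ x ∈ K, g * x * g⁻¹ ∈ K := fun g hg x hx => by
    refine ⟨hQS ((A.norm_Q j g hg).le (conj_mem_cj (hKQ hx))), fun m hm => ?_⟩
    have hm' : g⁻¹ * m * g ∈ Mn := by simpa using hMnX g⁻¹ (inv_mem hg) m hm
    calc m * (g * x * g⁻¹) = g * ((g⁻¹ * m * g) * x) * g⁻¹ := by group
      _ = _ := by rw [hx.2 _ hm']; group
  have hQQ : ∀ t ∈ Q j, ∀ t' ∈ Q j, t * t' * t⁻¹ * t'⁻¹ ∈ K := by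
    intro t ht t' ht'
    refine ⟨hQS (mul_mem (mul_mem (mul_mem ht ht') (inv_mem ht)) (inv_mem ht')), fun m hm => ?_⟩
    obtain ⟨c, hc⟩ : ∃ c, c = t * m * t⁻¹ * m⁻¹ := ⟨_, rfl⟩
    obtain ⟨c', hc'⟩ : ∃ c', c' = t' * m * t'⁻¹ * m⁻¹ := ⟨_, rfl⟩
    have hcV : c ∈ V j := by
      have := inv_mem (hMnV m hm t ht)
      rw [hc]; convert this using 1; group
    have hcV' : c' ∈ V j := by
      have := inv_mem (hMnV m hm t' ht')
      rw [hc']; convert this using 1; group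
    have e1 : t * m = c * m * t := by rw [hc]; group
    have e2 : t' * m = c' * m * t' := by rw [hc']; group
    have key : (t * t') * m = (c * c') * m * (t * t') := by
      calc (t * t') * m = t * (t' * m) := mul_assoc _ _ _
        _ = (t * c') * m * t' := by rw [e2]; group
        _ = c' * (t * m) * t' := by rw [A.QV j t ht c' hcV']; group
        _ = c' * c * m * (t * t') := by rw [e1]; group
        _ = _ := by rw [A.QV j c' (hVQ hcV') c hcV]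
    have key' : (t' * t) * m = (c * c') * m * (t' * t) := by
      calc (t' * t) * m = t' * (t * m) := mul_assoc _ _ _
        _ = (t' * c) * m * t := by rw [e1]; group
        _ = c * (t' * m) * t := by rw [A.QV j t' ht' c hcV]; group
        _ = _ := by rw [e2]; group
    symm
    calc t * t' * t⁻¹ * t'⁻¹ * m = (t * t') * (t' * t)⁻¹ * m := by group
      _ = (t * t') * m * ((t' * t) * m)⁻¹ * m := by group
      _ = (c * c') * m * (t * t') * ((c * c') * m * (t' * t))⁻¹ * m := by rw [key, key']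
      _ = (c * c') * (m * (t * t' * t⁻¹ * t'⁻¹) * m⁻¹) * (c * c')⁻¹ * m := by group
      _ = (m * (t * t' * t⁻¹ * t'⁻¹) * m⁻¹) * m := by
          have hx : m * (t * t' * t⁻¹ * t'⁻¹) * m⁻¹ ∈ Q j :=
            mul_mem (mul_mem (hMnQ hm) (mul_mem (mul_mem (mul_mem ht ht') (inv_mem ht)) (inv_mem ht')))
              (inv_mem (hMnQ hm))
          rw [← A.QV j _ hx _ (mul_mem hcV hcV'), mul_inv_cancel_right]
      _ = _ := by group
  have hZK : S ⊓ ℭ S ≤ K := fun z hz => ⟨hz.1, fun m hm => hz.2 m (hQS (hMnQ hm))⟩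
  -- `S` fixes `B'` modulo `K`
  have hSfix : ∀ e ∈ K ⊔ B', ∀ s ∈ S, s * e * s⁻¹ * e⁻¹ ∈ K := by
    intro e he s hs
    have heQ : e ∈ Q j := (sup_le hKQ hB'Q) he
    obtain ⟨b, hb, q, hq, rfl⟩ := hBQS s hs
    obtain ⟨k, hk, x, hx, rfl⟩ := hKl.mul hS hB'l he
    have hbX := hSX (hB.1 hb)
    have h1 : b * (k * x) * b⁻¹ * (k * x)⁻¹ ∈ K := by
      rw [show b * (k * x) * b⁻¹ * (k * x)⁻¹ = (b * k * b⁻¹) * (b * x * b⁻¹ * x⁻¹) * k⁻¹ by group]
      exact mul_mem (mul_mem (hKX b hbX k hk) (hZK (hBB' b hb x hx))) (inv_mem hk)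
    rw [show b * q * (k * x) * (b * q)⁻¹ * (k * x)⁻¹ =
      (b * (q * (k * x) * q⁻¹ * (k * x)⁻¹) * b⁻¹) * (b * (k * x) * b⁻¹ * (k * x)⁻¹) by group]
    exact mul_mem (hKX b hbX _ (hQQ q hq _ heQ)) h1
  -- an opposite edge
  obtain ⟨h, hh, hgen⟩ := A.good j
  set hB'' := cj h B' with hhB
  obtain ⟨hhl, hhc⟩ := A.lat_conj j le_sup_right hB'l hB'Q hh
  rw [← hB'd, ← hhB] at hhl hhc
  rw [hB'c, ← hhB] at hhc
  have hhQ : hB'' ≤ Q j := (cj_mono h hB'Q).trans (A.norm_Q j h hh).le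
  have hRconj : K ⊔ hB'' = cj h (K ⊔ B') := by
    rw [cj_sup]
    congr 1
    refine le_antisymm (fun x hx => mem_cj.2 ?_) ?_
    · simpa using hKX h⁻¹ (inv_mem hh) x hx
    · rintro _ ⟨x, hx, rfl⟩; exact hKX h hh x hx
  have hcentK : ∀ e ∈ Q j, (∀ g ∈ X j, ∀ u ∈ P, (g * u * g⁻¹) * e = e * (g * u * g⁻¹)) → e ∈ K := by
    intro e he hc
    refine ⟨hQS he, fun m hm => ?_⟩
    have hle : Mn ≤ Subgroup.centralizer {e} := by
      refine iSup_le fun ⟨g, hg⟩ => ?_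
      rw [cj_sup, A.norm_V j g hg]
      refine sup_le ?_ fun v hv => Subgroup.mem_centralizer_singleton_iff.2 (A.QV j e he v hv).symm
      rintro _ ⟨u, hu, rfl⟩
      exact Subgroup.mem_centralizer_singleton_iff.2 (hc g hg u hu)
    exact Subgroup.mem_centralizer_singleton_iff.1 (hle hm)
  have hcut : (K ⊔ B') ⊓ (K ⊔ hB'') = K := by
    refine le_antisymm (fun e he => ?_) (le_inf le_sup_left le_sup_left)
    have heQ : e ∈ Q j := sup_le hKQ hB'Q he.1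
    let D : Subgroup Γ :=
      { carrier := {x | x ∈ X j ∧ x * e * x⁻¹ * e⁻¹ ∈ K}
        one_mem' := ⟨one_mem _, by simp⟩
        mul_mem' := fun {a c} ha hc => ⟨mul_mem ha.1 hc.1, by
          rw [show a * c * e * (a * c)⁻¹ * e⁻¹ = (a * (c * e * c⁻¹ * e⁻¹) * a⁻¹) * (a * e * a⁻¹ * e⁻¹) by group]
          exact mul_mem (hKX a ha.1 _ hc.2) ha.2⟩
        inv_mem' := fun {a} ha => ⟨inv_mem ha.1, by
          rw [show a⁻¹ * e * a⁻¹⁻¹ * e⁻¹ = a⁻¹ * (a * e * a⁻¹ * e⁻¹)⁻¹ * a⁻¹⁻¹ by group]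
          exact hKX _ (inv_mem ha.1) _ (inv_mem ha.2)⟩ }
    have hle : X j ≤ D := by
      rw [← hgen]
      refine sup_le (fun s hs => ⟨hSX hs, hSfix e he.1 s hs⟩) ?_
      rintro _ ⟨s, hs, rfl⟩
      have he' : h⁻¹ * e * h ∈ K ⊔ B' := mem_cj.1 (hRconj ▸ he.2)
      refine ⟨(A.norm_X j hh).le (conj_mem_cj (hSX hs)), ?_⟩
      have := hKX h hh _ (hSfix _ he' s hs)
      convert this using 1
      show h * s * h⁻¹ * e * (h * s * h⁻¹)⁻¹ * e⁻¹ = _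
      group
    refine hcentK e heQ fun g hg u hu => ?_
    have h1 := (hle (inv_mem hg)).2
    have hce : Commute u e := by
      obtain ⟨k, hk, x, hx, rfl⟩ := hKl.mul hS hB'l he.1
      exact (show Commute u k from hk.2 u (hPMn hu)).mul_right (hB'.2.1 hx u (hPB' hu))
    have h2 : Commute u (g⁻¹ * e * g⁻¹⁻¹) := by
      have hk : Commute u (g⁻¹ * e * g⁻¹⁻¹ * e⁻¹) := h1.2 u (hPMn hu)
      have := hk.mul_right hce
      rwa [inv_mul_cancel_right] at this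
    rw [inv_inv] at h2
    calc g * u * g⁻¹ * e = g * (u * (g⁻¹ * e * g)) * g⁻¹ := by group
      _ = _ := by rw [h2.eq]; group
  have hcB' : S ⊓ ℭ (Mn ⊓ B') = K ⊔ B' := by rw [hMnl.cent_inf hS hB'l, hB'c]
  have hsplit : ∀ m ∈ Mn, ∃ m1 ∈ Mn ⊓ B', ∃ m2 ∈ Mn ⊓ hB'', m = m1 * m2 := by
    intro m hm
    have hl1 := hMnl.inf hS hB'l
    have hl2 := hMnl.inf hS hhl
    refine hl1.mul hS hl2 ?_
    rwa [← (hl1.sup hS hl2).double hS, Lat.cent_sup, hcB', hMnl.cent_inf hS hhl, hhc, hcut, hKd,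
      hMnl.double hS]
  by_cases hBK : B' ≤ K
  · -- everything moves `Mn` into `V`
    have hMnB : Mn ≤ B' := fun m hm => by
      rw [← hB'c]
      exact ⟨hMnl.le hm, fun x hx => ((hBK hx).2 m hm).symm⟩
    have hSV : ∀ s ∈ S, ∀ m ∈ Mn, s * m * s⁻¹ * m⁻¹ ∈ V j := by
      intro s hs m hm
      obtain ⟨b, hb, q, hq, rfl⟩ := hBQS s hs
      have h1 : q * m * q⁻¹ * m⁻¹ ∈ V j := by
        have := inv_mem (hMnV m hm q hq)
        convert this using 1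
        group
      rw [show b * q * m * (b * q)⁻¹ * m⁻¹ = (b * (q * m * q⁻¹ * m⁻¹) * b⁻¹) * (b * m * b⁻¹ * m⁻¹) by group]
      exact mul_mem ((A.norm_V j b (hSX (hB.1 hb))).le (conj_mem_cj h1)) (A.Z_le j (hBB' b hb m (hMnB hm)))
    let D : Subgroup Γ :=
      { carrier := {x | x ∈ X j ∧ ∀ m ∈ Mn, x * m * x⁻¹ * m⁻¹ ∈ V j}
        one_mem' := ⟨one_mem _, fun m _ => by simp⟩
        mul_mem' := fun {a c} ha hc => ⟨mul_mem ha.1 hc.1, fun m hm => by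
          rw [show a * c * m * (a * c)⁻¹ * m⁻¹ = (a * (c * m * c⁻¹ * m⁻¹) * a⁻¹) * (a * m * a⁻¹ * m⁻¹) by group]
          exact mul_mem ((A.norm_V j a ha.1).le (conj_mem_cj (hc.2 m hm))) (ha.2 m hm)⟩
        inv_mem' := fun {a} ha => ⟨inv_mem ha.1, fun m hm => by
          have h1 := inv_mem (ha.2 _ (hMnX a⁻¹ (inv_mem ha.1) m hm))
          rw [show (a * (a⁻¹ * m * a⁻¹⁻¹) * a⁻¹ * (a⁻¹ * m * a⁻¹⁻¹)⁻¹)⁻¹ = a⁻¹ * m * a⁻¹⁻¹ * m⁻¹ by group] at h1
          exact h1⟩ }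
    have hle : X j ≤ D := by
      rw [← hgen]
      refine sup_le (fun s hs => ⟨hSX hs, hSV s hs⟩) ?_
      rintro _ ⟨s, hs, rfl⟩
      refine ⟨(A.norm_X j hh).le (conj_mem_cj (hSX hs)), fun m hm => ?_⟩
      have hm' : h⁻¹ * m * h ∈ Mn := by simpa using hMnX h⁻¹ (inv_mem hh) m hm
      have := (A.norm_V j h hh).le (conj_mem_cj (x := h) (hSV s hs _ hm'))
      convert this using 1
      show h * s * h⁻¹ * m * (h * s * h⁻¹)⁻¹ * m⁻¹ = _
      group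
    rintro g hg _ ⟨u, hu, rfl⟩
    have h1 := mul_mem (Subgroup.mem_sup_right ((hle hg).2 u (hPMn hu)) : _ ∈ P ⊔ V j)
      (Subgroup.mem_sup_left hu : u ∈ P ⊔ V j)
    rwa [inv_mul_cancel_right] at h1
  -- otherwise some coset outside is fixed
  exfalso
  set R := K ⊔ hB'' with hRd
  set I0 := Mn ⊓ B' ⊓ hB'' with hI0
  set E2 := S ⊓ ℭ I0 with hE2d
  have hVI : V j ≤ I0 := le_inf (le_inf hVMn le_sup_right) ((A.norm_V j h hh).ge.trans (cj_mono h le_sup_right))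
  have hE2 : E2 = (K ⊔ B') ⊔ hB'' := by rw [hE2d, hI0, (hMnl.inf hS hB'l).cent_inf hS hhl, hhc, hcB']
  have hE2Q : E2 ≤ Q j := (inf_le_inf_left _ (Subgroup.centralizer_le hVI)).trans (A.inf_cent j).le
  have hne : ¬ E2 ≤ R := fun hle => hBK (by
    have : B' ≤ (K ⊔ B') ⊓ R := le_inf le_sup_right
      ((le_sup_right.trans le_sup_left).trans (hE2.ge.trans hle))
    rwa [hcut] at this)
  have hQhS : Q j ≤ cj h S := (A.norm_Q j h hh).ge.trans (cj_mono h hQS)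
  obtain ⟨e0, he0, he0R, hmove⟩ := exists_fixed_coset (A.isPGroup_edge h) (hE2Q.trans hQhS) hne
  obtain ⟨η, hηd⟩ : ∃ η, η = h * b₀ * h⁻¹ := ⟨_, rfl⟩
  have hηS : η ∈ cj h S := hηd ▸ conj_mem_cj (hB.1 hb₀)
  have hηX : η ∈ X j := (A.norm_X j hh).le (cj_mono h hSX hηS)
  have hηY : ∀ y ∈ hB'', η * y * η⁻¹ * y⁻¹ ∈ cj h (S ⊓ ℭ S) := fun y hy => by
    have := conj_mem_cj (x := h) (hBB' b₀ hb₀ _ (mem_cj.1 hy))
    convert this using 1
    rw [hηd]; group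
  have hhZV : cj h (S ⊓ ℭ S) ≤ V j := (cj_mono h (A.Z_le j)).trans (A.norm_V j h hh).le
  have hηI : ∀ y ∈ I0, η * y * η⁻¹ ∈ I0 := fun y hy => by
    have := mul_mem (hVI (hhZV (hηY y hy.2))) hy
    rwa [inv_mul_cancel_right] at this
  have hηE : ∀ {e}, e ∈ E2 → η * e * η⁻¹ ∈ E2 := fun {e} he => by
    refine ⟨hQS ((A.norm_Q j η hηX).le (conj_mem_cj (hE2Q he))), fun y hy => ?_⟩
    have hη' : η⁻¹ * y * η ∈ I0 := by
      have hn : η ∈ Subgroup.normalizer (I0 : Set Γ) := mem_normalizer_of_map_le (by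
        rintro _ ⟨x, hx, rfl⟩; exact hηI x hx)
      have := (Subgroup.mem_normalizer_iff.1 (inv_mem hn) y).1 hy
      simpa using this
    calc y * (η * e * η⁻¹) = η * ((η⁻¹ * y * η) * e) * η⁻¹ := by group
      _ = _ := by rw [he.2 _ hη']; group
  have hmem0 : η * e0 * η⁻¹ * e0⁻¹ ∈ R := hmove η hηS (mul_mem (hηE he0) (inv_mem he0))
  obtain ⟨e, he, r, hr, he0d⟩ := (hKl.sup hS hB'l).mul hS hhl (hE2 ▸ he0)
  have heR : e ∉ R := fun hh' => he0R (he0d ▸ mul_mem hh' (Subgroup.mem_sup_right hr))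
  have heQ : e ∈ Q j := sup_le hKQ hB'Q he
  have hrR : r ∈ R := Subgroup.mem_sup_right hr
  have hRQ : R ≤ Q j := sup_le hKQ hhQ
  have hQR : ∀ t ∈ Q j, ∀ x ∈ R, t * x * t⁻¹ ∈ R := fun t ht x hx => by
    have := mul_mem (Subgroup.mem_sup_left (hQQ t ht x (hRQ hx)) : _ ∈ R) hx
    rwa [inv_mul_cancel_right] at this
  obtain ⟨f, hfd⟩ : ∃ f, f = η * e * η⁻¹ * e⁻¹ := ⟨_, rfl⟩
  have hfR : f ∈ R := by
    have h1 : η * r * η⁻¹ ∈ R := by
      have h2 := hSfix _ (show h⁻¹ * r * h ∈ K ⊔ B' from mem_cj.1 (hRconj ▸ hrR)) b₀ (hB.1 hb₀)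
      have h3 := mul_mem (Subgroup.mem_sup_left (hKX h hh _ h2) : _ ∈ R) hrR
      convert h3 using 1
      rw [hηd]; group
    have h4 := mul_mem hmem0 (hQR e heQ _ (mul_mem hrR (inv_mem h1)))
    rw [hfd]
    convert h4 using 1
    rw [he0d]; group
  have key : ∀ y ∈ Mn ⊓ hB'', y * e * y⁻¹ * e⁻¹ ∈ cj h (S ⊓ ℭ S) := by
    intro y hy
    obtain ⟨c, hc⟩ : ∃ c, c = y * e * y⁻¹ * e⁻¹ := ⟨_, rfl⟩
    have hcV : c ∈ V j := hc ▸ hMnV y hy.1 e heQ
    obtain ⟨z, hz⟩ : ∃ z, z = η * y * η⁻¹ * y⁻¹ := ⟨_, rfl⟩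
    have hzV : z ∈ V j := hz ▸ hhZV (hηY y hy.2)
    have hyQ := hMnQ hy.1
    have hfy : Commute y f := by
      have hle : R ≤ Subgroup.centralizer {y} := sup_le
        (fun k hk => Subgroup.mem_centralizer_singleton_iff.2 (hk.2 y hy.1).symm)
        (fun k hk => Subgroup.mem_centralizer_singleton_iff.2
          (((hhc.ge hk).2 y hy.2)).symm)
      exact (Subgroup.mem_centralizer_singleton_iff.1 (hle hfR)).symm
    have e1 : η * c * η⁻¹ = (z * y) * (f * e) * (z * y)⁻¹ * (f * e)⁻¹ := by rw [hc, hz, hfd]; group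
    have hfe : f * e ∈ Q j := mul_mem (hRQ hfR) heQ
    have hzc : Commute z (y * (f * e) * y⁻¹) :=
      (A.QV j _ (mul_mem (mul_mem hyQ hfe) (inv_mem hyQ)) z hzV).symm
    have e2 : η * c * η⁻¹ = c := by
      calc η * c * η⁻¹ = z * (y * (f * e) * y⁻¹) * z⁻¹ * (f * e)⁻¹ := by rw [e1]; group
        _ = (y * f * y⁻¹) * (y * e * y⁻¹ * e⁻¹) * f⁻¹ := by rw [hzc.eq]; group
        _ = f * c * f⁻¹ := by rw [hfy.eq, hc]; group
        _ = c := by rw [A.QV j f (hRQ hfR) c hcV, mul_inv_cancel_right]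
    rw [← hc]
    refine mem_cj.2 (A.fixed_eq j b₀ (hB.1 hb₀) hb₀Q _ ?_ ?_)
    · have := (A.norm_V j h⁻¹ (inv_mem hh)).le (conj_mem_cj (x := h⁻¹) hcV)
      simpa using this
    · have e3 : η * c = c * η := mul_inv_eq_iff_eq_mul.1 e2
      rw [hηd] at e3
      calc b₀ * (h⁻¹ * c * h) = h⁻¹ * (h * b₀ * h⁻¹ * c) * h := by group
        _ = _ := by rw [e3]; group
  have hB1 : ∀ m ∈ Mn ⊓ B', Commute m e := fun m hm => by
    obtain ⟨k, hk, x, hx, rfl⟩ := hKl.mul hS hB'l he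
    exact (show Commute m k from hk.2 m hm.1).mul_right (hB'.2.1 hx m hm.2)
  have hx2 : ∀ m ∈ Mn, ∃ m2 ∈ Mn ⊓ hB'', m * e * m⁻¹ * e⁻¹ = m2 * e * m2⁻¹ * e⁻¹ := fun m hm => by
    obtain ⟨m1, hm1, m2, hm2, rfl⟩ := hsplit m hm
    refine ⟨m2, hm2, ?_⟩
    have hcV : m2 * e * m2⁻¹ * e⁻¹ ∈ V j := hMnV m2 hm2.1 e heQ
    calc m1 * m2 * e * (m1 * m2)⁻¹ * e⁻¹ = m1 * (m2 * e * m2⁻¹ * e⁻¹) * (e * m1⁻¹ * e⁻¹) := by group
      _ = (m2 * e * m2⁻¹ * e⁻¹) * m1 * m1⁻¹ := by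
          rw [A.QV j m1 (hMnQ hm1.1) _ hcV, (hB1 m1 hm1).symm.inv_right.eq, mul_inv_cancel_right]
      _ = _ := mul_inv_cancel_right _ _
  have hC : ∀ m ∈ Mn, m * e * m⁻¹ * e⁻¹ ∈ ℭ (X j) := by
    intro m hm
    obtain ⟨y, hy, heq⟩ := hx2 m hm
    rw [heq]
    obtain ⟨c, hc⟩ : ∃ c, c = y * e * y⁻¹ * e⁻¹ := ⟨_, rfl⟩
    have hcV : c ∈ V j := hc ▸ hMnV y hy.1 e heQ
    obtain ⟨x, hx⟩ : ∃ x, x = b₀ * y * b₀⁻¹ * y⁻¹ := ⟨_, rfl⟩
    have hbX := hSX (hB.1 hb₀)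
    have hxM : x ∈ Mn := hx ▸ mul_mem (hMnX b₀ hbX y hy.1) (inv_mem hy.1)
    obtain ⟨k, hk⟩ : ∃ k, k = b₀ * e * b₀⁻¹ * e⁻¹ := ⟨_, rfl⟩
    have hkK : k ∈ K := hk ▸ hSfix e he b₀ (hB.1 hb₀)
    obtain ⟨x2, hx2', hxe⟩ := hx2 x hxM
    have h1 : x * e * x⁻¹ * e⁻¹ ∈ cj h (S ⊓ ℭ S) := hxe ▸ key x2 hx2'
    have hxyk : Commute (x * y) k := hkK.2 _ (mul_mem hxM hy.1)
    have e2 : b₀ * c * b₀⁻¹ = c * (x * e * x⁻¹ * e⁻¹) := by
      calc b₀ * c * b₀⁻¹ = (x * y) * k * e * (x * y)⁻¹ * e⁻¹ * k⁻¹ := by rw [hc, hx, hk]; group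
        _ = k * ((x * y) * e * (x * y)⁻¹ * e⁻¹) * k⁻¹ := by rw [hxyk.eq]; group
        _ = (x * y) * e * (x * y)⁻¹ * e⁻¹ := by
            rw [A.QV j k (hKQ hkK) _ (hMnV _ (mul_mem hxM hy.1) e heQ), mul_inv_cancel_right]
        _ = (x * c * x⁻¹) * (x * e * x⁻¹ * e⁻¹) := by rw [hc]; group
        _ = _ := by rw [A.QV j x (hMnQ hxM) c hcV, mul_inv_cancel_right]
    have h2 : x * e * x⁻¹ * e⁻¹ = b₀ * c * b₀⁻¹ * c⁻¹ := by
      rw [e2, A.QV j c (hVQ hcV) _ (hMnV x hxM e heQ), mul_inv_cancel_right]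
    have h3 := A.fixed_pair j hgen (h2 ▸ A.into j b₀ (hB.1 hb₀) c hcV) h1
    rw [h2] at h3
    have h4 := A.fpf j b₀ hbX (A.isPGroup.to_le (Subgroup.zpowers_le.2 (hB.1 hb₀))) c hcV h3
    rw [← hc]
    exact A.fixed_pair j hgen (A.fixed_eq j b₀ (hB.1 hb₀) hb₀Q c hcV h4) (hc ▸ key y hy)
  apply heR
  refine Subgroup.mem_sup_left (hcentK e heQ fun g hg u hu => ?_)
  have h1 := hC _ (hgMn hg (conj_mem_cj (Subgroup.mem_sup_left hu)))
  have hge : g⁻¹ * e * g ∈ Q j := by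
    have := (A.norm_Q j g⁻¹ (inv_mem hg)).le (conj_mem_cj (x := g⁻¹) heQ)
    simpa using this
  have h2 := hinj u hu _ hge (fun z hz => by
    have h3 := h1 (g * z * g⁻¹) (mul_mem (mul_mem hg hz) (inv_mem hg))
    calc z * (u * (g⁻¹ * e * g) * u⁻¹ * (g⁻¹ * e * g)⁻¹)
        = g⁻¹ * ((g * z * g⁻¹) * ((g * u * g⁻¹) * e * (g * u * g⁻¹)⁻¹ * e⁻¹)) * g := by group
      _ = g⁻¹ * (((g * u * g⁻¹) * e * (g * u * g⁻¹)⁻¹ * e⁻¹) * (g * z * g⁻¹)) * g := by rw [h3]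
      _ = _ := by group)
  calc g * u * g⁻¹ * e = g * (u * (g⁻¹ * e * g)) * g⁻¹ := by group
    _ = _ := by rw [h2]; group

end Geo

section Frame

variable {S : Subgroup Γ} {X V : I → Subgroup Γ} {b : ℕ} {a x y c : Γ × I} {e f : Γ}

/-- A window can be moved so that its inner vertex is the one of the edge of `S`. -/
theorem Win.frame (w : Win S X V b a e x y f c) : ∃ d, d * e ∈ Subgroup.normalizer (S : Set Γ) ∧
    Same X (tr d x) ((1 : Γ), x.2) ∧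
    Win S X V b (tr d a) (d * e) ((1 : Γ), x.2) (tr d y) (d * f) (tr d c) := by
  obtain ⟨h, hh, hx⟩ := w.left'
  have hs : Same X (tr (e * h)⁻¹ x) ((1 : Γ), x.2) :=
    ⟨rfl, by show ((e * h)⁻¹ * x.1)⁻¹ * 1 ∈ X x.2; rw [mul_one]; exact inv_mem hx⟩
  refine ⟨(e * h)⁻¹, ?_, hs, ?_⟩
  · rw [show (e * h)⁻¹ * e = h⁻¹ by group]; exact inv_mem hh
  have w' := w.translate (e * h)⁻¹
  exact ⟨w'.ne, w'.left, w'.left'.same hs, dist_same_left hs.symm w'.mid, w'.right', w'.right⟩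

/-- The edge after the inner vertex. -/
theorem Win.next (w : Win S X V b a e x y f c) (hb : 2 ≤ b) :
    ∃ e2, Mem S X V e2 x ∧ ∀ v, Mem S X V e2 v → Dist S X V (b - 1) v c := by
  rcases (show b = 2 ∨ ∃ k, b = k + 3 from (eq_or_lt_of_le hb).elim (fun h => .inl h.symm)
      fun h => .inr ⟨b - 3, by omega⟩) with rfl | ⟨k, rfl⟩
  · exact ⟨f, w.right'.mem.same (Same.symm w.mid), fun v hv => dist_one hv w.right.mem⟩
  · obtain ⟨e2, x2, h1, h2, h3⟩ := (show Dist S X V (k + 1) x y from w.mid)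
    refine ⟨e2, h1, fun v hv => ?_⟩
    have := dist_trans (dist_trans (dist_one hv h2) h3) (dist_one (w.right'.mem (V := V)) w.right.mem)
    rwa [show 1 + k + 1 = k + 3 - 1 by omega] at this

end Frame

namespace Geo2

variable {p : ℕ} [Fact p.Prime] {S : Subgroup Γ} {X Q V : I → Subgroup Γ} {n : I → ℕ} (A : Geo2 p S X Q V n)
include A

/-- In a window some commutator is a nontrivial fixed point of the inner vertex. -/
theorem win_fixed {b : ℕ} (hb : Critical S X V b) {a x y c : Γ × I} {e f : Γ} (w : Win S X V b a e x y f c) :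
    ∃ u ∈ vert V a, ∃ t ∈ vert V c, u * t * u⁻¹ * t⁻¹ ≠ 1 ∧ u * t * u⁻¹ * t⁻¹ ∈ ℭ (vert X x) := by
  by_contra! hall
  have hb2 := A.critical_two hb
  obtain ⟨d, hd, hsx, w'⟩ := w.frame
  set e' := d * e
  set j := x.2
  set a' := tr d a with ha'
  set c' := tr d c with hc'
  obtain ⟨cc, hcc, -, -, -, hVa⟩ := A.vert_eqs w'.left
  rw [A.cj_S hd] at hcc
  have hle := A.win_le hb w'
  rw [A.cj_S hd] at hle
  have hall' : ∀ u ∈ vert V a', ∀ t ∈ vert V c', u * t * u⁻¹ * t⁻¹ ∈ ℭ (X j) → u * t = t * u := by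
    intro u hu t ht hC
    rw [vert_tr] at hu ht
    obtain ⟨u, hu, rfl⟩ := hu
    obtain ⟨t, ht, rfl⟩ := ht
    have hX : X j = cj d (vert X x) := by
      rw [← vert_tr, vert]
      show X j = cj (d * x.1) (X x.2)
      have h2 : (d * x.1)⁻¹ * 1 ∈ X j := hsx.2
      rw [mul_one] at h2
      exact (A.norm_X j (inv_mem_iff.1 h2)).symm
    rw [hX, centralizer_cj, ← map_inv, ← map_inv, ← map_mul, ← map_mul, ← map_mul] at hC
    obtain ⟨z, hz, hze⟩ := hC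
    have hzz := (MulAut.conj d).injective hze
    by_contra hne
    exact hall u hu t ht (fun h1 => hne (by
      have : Commute u t := by
        show u * t = t * u
        rwa [mul_inv_eq_one, mul_inv_eq_iff_eq_mul] at h1
      exact this.map (MulAut.conj d).toMonoidHom)) (hzz ▸ hz)
  have hPQ : vert V a' ≤ Q j := by
    have h1 := (A.near hb (k := 1) (by omega) (dist_one w'.left'.mem w'.left.mem)).2
    rwa [vert_one] at h1
  have hcQ : vert V c' ≤ Q j := by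
    have h1 := (A.near hb (k := b - 1) (by omega) (A.win_dist hb w').1).2
    rwa [vert_one] at h1
  have hQa : ∀ q ∈ vert Q a', q ∈ S ⊓ ℭ (vert V a') := fun q hq =>
    ⟨A.cj_S hd ▸ A.Q_le_edge w'.left hq, fun v hv => (A.QV_vert hq hv).symm⟩
  have key := A.neighbour_normal j (P := vert V a') (hVa ▸ (A.lat_V a'.2).conjugate hcc) hPQ
    (fun u hu v hv => A.V_comm hv hu)
    (fun s hs u hu => by
      have := A.into_edge w'.left (s := s) (by rwa [A.cj_S hd]) hu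
      rwa [A.cj_Z hd] at this)
    (fun s hs => by
      obtain ⟨t, ht, q, hq, rfl⟩ := A.win_mul hb w' (s := s) (by rwa [A.cj_S hd])
      exact ⟨t, hcQ ht, q, hQa q hq, rfl⟩)
    (by
      by_contra! hh
      have h1 := A.relIndex_Z_edge w'.left
      rw [A.cj_Z hd, Subgroup.relIndex_eq_one.2 hh] at h1
      exact (Nat.one_lt_pow (by have := A.n_pos a'.2; omega) (Fact.out : p.Prime).one_lt).ne h1)
    (fun u hu huZ t ht htu => hQa t (by
      by_contra hQ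
      have := A.fixed_edge w'.left (s := t) (by rw [A.cj_S hd]; exact A.Q_le j ht) hQ hu htu
      rw [A.cj_Z hd] at this
      exact huZ this))
    (fun u hu t ht hC => by
      obtain ⟨t', ht', q, hq, rfl⟩ := A.win_mul hb w' (s := t) (by rw [A.cj_S hd]; exact A.Q_le j ht)
      have hqu : q * u⁻¹ = u⁻¹ * q := A.QV_vert hq (inv_mem hu)
      have e1 : u * (t' * q) * u⁻¹ * (t' * q)⁻¹ = u * t' * u⁻¹ * t'⁻¹ := by
        calc u * (t' * q) * u⁻¹ * (t' * q)⁻¹ = u * t' * (q * u⁻¹) * q⁻¹ * t'⁻¹ := by group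
          _ = _ := by rw [hqu]; group
      rw [e1] at hC
      calc u * (t' * q) = u * t' * q := by group
        _ = t' * (u * q) := by rw [hall' u hu t' ht' hC]; group
        _ = _ := by rw [← A.QV_vert hq hu]; group)
  obtain ⟨e2, h1, h2⟩ := w'.next hb2
  obtain ⟨e2', he2, h, hh, hmem⟩ := h1.rename
  have hg : e2' * h ∈ X j := by
    have := inv_mem hmem
    rwa [show ((e2' * h)⁻¹ * (1 : Γ))⁻¹ = e2' * h by group] at this
  have hm : Mem S X V e2 (tr (e2' * h) a') := by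
    have h3 := ((w'.left.tr (e2' * h)).mem (V := V)).edge_mul (inv_mem (Subgroup.mem_sup_left (mul_mem hh hd)))
    rw [show e2' * h * e' * (h * e')⁻¹ = e2' by group] at h3
    have h4 := h3.edge_mul (inv_mem he2)
    rwa [show e2' * (e2⁻¹ * e2')⁻¹ = e2 by group] at h4
  have hkey := key _ (inv_mem hg)
  apply w'.ne
  intro u hu t ht
  have hu' : u ∈ cj (e2' * h) (vert V a') ⊔ V j := by
    have h3 := cj_mono (e2' * h) hkey
    rw [← cj_mul, mul_inv_cancel, cj_one, cj_sup, A.norm_V j _ hg] at h3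
    exact h3 hu
  have hle' : cj (e2' * h) (vert V a') ⊔ V j ≤ Subgroup.centralizer {t} := by
    refine sup_le (fun z hz => ?_) fun z hz => ?_
    · rw [← vert_tr] at hz
      exact Subgroup.mem_centralizer_singleton_iff.2
        ((A.near hb (by omega) (h2 _ hm)).1 z hz t ht)
    · exact Subgroup.mem_centralizer_singleton_iff.2
        ((A.near hb (k := b - 1) (by omega) (A.win_dist hb w').1).1 z (by rwa [vert_one]) t ht)
  exact Subgroup.mem_centralizer_singleton_iff.1 (hle' hu')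

end Geo2

end CfsgLib.PushingUpFamily
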