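/-
At critical distance at least three no endpoint of a window is of stuck type.
-/
import Cfsg.Agent.Lib.PushingUpFamily.LemmaB

set_option autoImplicit false
set_option linter.unusedSectionVars false
set_option linter.style.haveILetI false

open scoped Pointwise commutatorElement

namespace CfsgLib.PushingUpFamily

open CfsgLib.LocalEven.PushingUpClosure CfsgLib.PushingUpRankOne

variable {Γ : Type*} [Group Γ] [Finite Γ] {I : Type*}

local notation "ℭ" X:max => Subgroup.centralizer (SetLike.coe X)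

theorem same_tr {X : I → Subgroup Γ} {v : Γ × I} {k : Γ} (hk : k ∈ vert X v) : Same X (tr k v) v := by
  refine ⟨rfl, ?_⟩
  have h := inv_mem (mem_cj.1 hk)
  show (k * v.1)⁻¹ * v.1 ∈ X v.2
  convert h using 1
  group

theorem vert_same {R X : I → Subgroup Γ} {v w : Γ × I} (hR : ∀ i, ∀ g ∈ X i, cj g (R i) = R i)
    (h : Same X v w) : vert R w = vert R v := by
  obtain ⟨h1, h2⟩ := h
  rw [vert, vert, show w.1 = v.1 * (v.1⁻¹ * w.1) by group, cj_mul, ← h1, hR _ _ h2]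

/-- Two edges at a vertex differ by an element of its group. -/
theorem exists_map {S : Subgroup Γ} {X : I → Subgroup Γ} {v : Γ × I} {e e' : Γ} (h : Mem0 S X e v)
    (h' : Mem0 S X e' v) : ∃ k ∈ vert X v, e'⁻¹ * (k * e) ∈ Subgroup.normalizer (S : Set Γ) := by
  obtain ⟨h1, hh1, hx1⟩ := h
  obtain ⟨h2, hh2, hx2⟩ := h'
  refine ⟨(e' * h2) * (e * h1)⁻¹, mem_cj.2 ?_, ?_⟩
  · have := mul_mem (inv_mem hx2) hx1
    convert this using 1
    group
  · have := mul_mem hh2 (inv_mem hh1)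
    convert this using 1
    group

theorem Mem0.of_rename {S : Subgroup Γ} {X : I → Subgroup Γ} {e e' : Γ} {v : Γ × I}
    (he : e⁻¹ * e' ∈ Subgroup.normalizer (S : Set Γ)) (h : Mem0 S X e v) : Mem0 S X e' v := by
  have := h.edge_mul he
  rwa [mul_inv_cancel_left] at this

theorem eq_of_commutator {a c : Γ} (h : a * c * a⁻¹ * c⁻¹ = 1) : a * c = c * a := by
  rwa [mul_inv_eq_one, mul_inv_eq_iff_eq_mul] at h

theorem commutator_of_eq {a c : Γ} (h : a * c = c * a) : a * c * a⁻¹ * c⁻¹ = 1 := by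
  rw [h, mul_inv_cancel_right, mul_inv_cancel]

namespace Geo

variable {p : ℕ} {S : Subgroup Γ} {X Q V : I → Subgroup Γ} {n : I → ℕ} (A : Geo p S X Q V n)
include A

theorem normX (i : I) : ∀ g ∈ X i, cj g (X i) = X i := fun _ hg => A.norm_X i hg

/-- A commutator inside `ℭ` of the group of `a` of a module element and an element of the edge is trivial. -/
theorem fixed_triv {e : Γ} {a : Γ × I} (h : Mem0 S X e a) {u t : Γ} (hu : u ∈ vert V a) (ht : t ∈ cj e S)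
    (hC : u * t * u⁻¹ * t⁻¹ ∈ ℭ (vert X a)) : u * t * u⁻¹ * t⁻¹ = 1 := by
  refine commutator_of_eq (A.fpf_vert (A.S_le_vert h ht) (A.pgroup_of_mem ht) hu ?_).symm
  rw [show t * u * t⁻¹ * u⁻¹ = (u * t * u⁻¹ * t⁻¹)⁻¹ by group]
  exact Subgroup.inv_mem _ hC

/-- The commutator of a module element and an element of its edge lies in the module and in the edge's centre. -/
theorem comm_both {e : Γ} {a : Γ × I} (h : Mem0 S X e a) {u t : Γ} (hu : u ∈ vert V a) (ht : t ∈ cj e S) :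
    u * t * u⁻¹ * t⁻¹ ∈ vert V a ∧ u * t * u⁻¹ * t⁻¹ ∈ cj e (S ⊓ ℭ S) := by
  rw [show u * t * u⁻¹ * t⁻¹ = (t * u * t⁻¹ * u⁻¹)⁻¹ by group]
  exact ⟨inv_mem (A.comm_mem_V (A.S_le_vert h ht) hu), inv_mem (A.into_edge h ht hu)⟩

end Geo

namespace Geo2

variable {p : ℕ} {S : Subgroup Γ} {X Q V : I → Subgroup Γ} {n : I → ℕ} (A : Geo2 p S X Q V n)
include A

theorem edgeQ_comm {e q a : Γ} (hq : q ∈ cj e (edgeQ S V)) (ha : a ∈ cj e (edgeW S V)) : a * q = q * a := by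
  obtain ⟨q, hq, rfl⟩ := hq
  obtain ⟨a, ha, rfl⟩ := ha
  exact (show Commute a q from hq.2 a ha).map (MulAut.conj e).toMonoidHom

theorem edgeW_abelian {e a c : Γ} (ha : a ∈ cj e (edgeW S V)) (hc : c ∈ cj e (edgeW S V)) : a * c = c * a := by
  obtain ⟨a, ha, rfl⟩ := ha
  obtain ⟨c, hc, rfl⟩ := hc
  exact (show Commute a c from (A.edgeW_comm ha c hc).symm).map (MulAut.conj e).toMonoidHom

/-- The group of a stuck vertex stabilises each edge through it. -/
theorem stuck_edge {e : Γ} {v : Γ × I} (h : Mem0 S X e v) (hs : Stuck S X V v.2) {g : Γ} (hg : g ∈ vert X v) :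
    e⁻¹ * (g * e) ∈ edgeN S X V := by
  obtain ⟨h0, hh, hx⟩ := h
  have hN : X v.2 ≤ edgeN S X V :=
    (le_iSup (fun i : {i : I // Stuck S X V i} => X (i : I)) ⟨v.2, hs⟩).trans le_sup_right
  have h1 : (e * h0)⁻¹ * g * (e * h0) ∈ X v.2 := by
    have := mul_mem (mul_mem hx (mem_cj.1 hg : v.1⁻¹ * g * v.1 ∈ X v.2)) (inv_mem hx)
    convert this using 1
    group
  have h2 := mul_mem (mul_mem (Subgroup.mem_sup_left hh : h0 ∈ edgeN S X V) (hN h1))
    (inv_mem (Subgroup.mem_sup_left hh))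
  rw [show e⁻¹ * (g * e) = h0 * ((e * h0)⁻¹ * g * (e * h0)) * h0⁻¹ by group]
  exact h2

theorem stuck_W {e : Γ} {v : Γ × I} (h : Mem0 S X e v) (hs : Stuck S X V v.2) {g : Γ} (hg : g ∈ vert X v) :
    cj g (cj e (edgeW S V)) = cj e (edgeW S V) := by
  rw [← cj_mul]; exact A.edgeW_eq (A.stuck_edge h hs hg)

theorem stuck_Q {e : Γ} {v : Γ × I} (h : Mem0 S X e v) (hs : Stuck S X V v.2) {g : Γ} (hg : g ∈ vert X v) :
    cj g (cj e (edgeQ S V)) = cj e (edgeQ S V) := by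
  rw [← cj_mul]; exact A.edgeQ_eq (A.stuck_edge h hs hg)

/-- The far module and the `Q` of the near vertex generate its group together with an opposite translate. -/
theorem win_gen [Fact p.Prime] {b : ℕ} (hb : Critical S X V b) {a x y c : Γ × I} {e f : Γ}
    (w : Win S X V b a e x y f c) {l : Γ} (hl : l ∈ vert X a) (hop : Opp S X a e (l * e)) {g : Γ}
    (hg : g ∈ vert X a) : ∃ g' ∈ vert V c ⊔ cj l (vert V c), ∃ q ∈ vert Q a, g = g' * q := by
  have hcX : vert V c ≤ vert X a := (A.win_le hb w).1.trans (A.S_le_vert w.left)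
  have hLX : vert V c ⊔ cj l (vert V c) ≤ vert X a :=
    sup_le hcX ((cj_mono l hcX).trans (A.norm_vertX hl).le)
  have he : cj e S ≤ vert V c ⊔ vert Q a := fun s hs => by
    obtain ⟨t, ht, q, hq, rfl⟩ := A.win_mul hb w hs
    exact mul_mem (Subgroup.mem_sup_left ht) (Subgroup.mem_sup_right hq)
  have hall : vert X a ≤ vert V c ⊔ cj l (vert V c) ⊔ vert Q a := by
    rw [← (show cj e S ⊔ cj (l * e) S = vert X a from hop)]
    refine sup_le (he.trans (sup_le_sup_right le_sup_left _)) ?_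
    rw [cj_mul]
    refine (cj_mono l he).trans ?_
    rw [cj_sup, A.norm_vertQ hl]
    exact sup_le_sup_right le_sup_right _
  have hm := hall hg
  rw [← SetLike.mem_coe, Subgroup.coe_mul_of_left_le_normalizer_right _ _ (fun z hz =>
    cj_eq_iff.1 (A.norm_vertQ (hLX hz)))] at hm
  obtain ⟨g', hg', q, hq, he'⟩ := hm
  exact ⟨g', hg', q, hq, he'.symm⟩

variable [Fact p.Prime]

/-- At critical distance at least three no endpoint of a window is stuck. -/
theorem win_not_stuck {b : ℕ} (hb : Critical S X V b) (h3 : 3 ≤ b) {a x y c : Γ × I} {e f : Γ}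
    (w : Win S X V b a e x y f c) : ¬ Stuck S X V a.2 := by
  intro hs
  obtain ⟨k0, rfl⟩ : ∃ k0, b = k0 + 3 := ⟨b - 3, by omega⟩
  haveI : Nonempty I := ⟨x.2⟩
  obtain ⟨e2, x2, h21, h22, h23⟩ := (show Dist S X V (k0 + 1) x y from w.mid)
  obtain ⟨f2, xb, h31, h32, h33⟩ := dist_back (show Dist S X V (k0 + 1) x y from w.mid)
  -- move the edge after `x` to the first edge
  obtain ⟨e2', he2, hm2⟩ := h21.rename
  obtain ⟨k, hk, hke⟩ := exists_map hm2 w.left'
  have hVz : vert V c ≤ cj e2' (edgeQ S V) := by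
    rw [A.edgeQ_eq he2]
    exact A.near_edge hb (k := k0 + 1) (by omega) h22
      (dist_trans h23 (dist_one (w.right'.mem (V := V)) w.right.mem))
  obtain ⟨u, hu, t, ht, hne, hC⟩ := A.win_fixed hb w
  set r := u * t * u⁻¹ * t⁻¹
  have htS : t ∈ cj e S := (A.win_le hb w).1 ht
  obtain ⟨hrV, hrZ⟩ := A.comm_both w.left hu htS
  have hku : k * r * k⁻¹ = r := by rw [hC k hk, mul_inv_cancel_right]
  obtain ⟨u', hu'd⟩ : ∃ u', u' = k * u * k⁻¹ := ⟨_, rfl⟩
  obtain ⟨t', ht'd⟩ : ∃ t', t' = k * t * k⁻¹ := ⟨_, rfl⟩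
  have hr' : r = u' * t' * u'⁻¹ * t'⁻¹ := by rw [hu'd, ht'd, ← hku]; simp only [r]; group
  have hu' : u' ∈ vert V (tr k a) := by rw [vert_tr, hu'd]; exact conj_mem_cj hu
  have ht' : t' ∈ cj e (edgeQ S V) := by
    rw [← A.edgeQ_eq (Subgroup.mem_sup_left hke : e⁻¹ * (k * e2') ∈ edgeN S X V), cj_mul, ht'd]
    exact conj_mem_cj (hVz ht)
  have hka : Mem0 S X (k * e) (tr k a) := w.left.tr k
  have hkx : Mem0 S X (k * e) x := (w.left'.tr k).same (same_tr hk)
  set W1 := cj e (edgeW S V)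
  have hVxW : vert V x ≤ W1 := A.vert_le_W w.left'.mem
  have hVaW : vert V a ≤ W1 := A.vert_le_W w.left.mem
  have hmove : ∀ s ∈ vert Q x, u' * s * u'⁻¹ * s⁻¹ ∈ vert V x := fun s hs =>
    A.Z_le_vert hkx (A.comm_both hka hu' (A.Q_le_edge hkx hs)).2
  -- the second edge at `a`
  obtain ⟨e', hm', hop', l, hl, rfl⟩ := A.exists_opp w.left
  have hl' : l⁻¹ ∈ vert X a := inv_mem hl
  have hla : Same X (tr l⁻¹ a) a := same_tr hl'
  have hlx : Mem S X V e (tr l⁻¹ x) := by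
    have := ((w.left'.tr l⁻¹).mem (V := V)).edge_mul
      (inv_mem (A.stuck_edge w.left hs hl'))
    rwa [show l⁻¹ * e * (e⁻¹ * (l⁻¹ * e))⁻¹ = e by group] at this
  set v := tr l⁻¹ (tr k a)
  have hv : Mem0 S X (l⁻¹ * (k * e)) v := hka.tr l⁻¹
  have hvx : Mem0 S X (l⁻¹ * (k * e)) (tr l⁻¹ x) := hkx.tr l⁻¹
  have hvd : Dist S X V (k0 + 2) v xb := by
    have := dist_trans (dist_one (hv.mem (V := V)) hvx.mem) (dist_trans (dist_one hlx w.left'.mem) h31)
    rwa [show 1 + (1 + k0) = k0 + 2 by omega] at this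
  have hvQ : vert V v ≤ vert Q xb := (A.near hb (by omega) (dist_symm hvd)).2
  by_cases hall : ∀ m, Mem S X V f2 m → Comm V m v
  · -- no shift: two modules generate a group moving the translate into the join
    have hvf : vert V v ≤ cj f S :=
      (A.le_edgeQ' h32 hvQ fun m hm z hz q hq => hall m hm z hz q hq).trans
        ((A.edgeQ_le_vert h33).trans (A.Q_le_edge w.right'))
    have hcQ : vert V c ≤ vert Q x := (A.near hb (by omega) (A.win_dist hb w).1).2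
    let D : Subgroup Γ :=
      { carrier := {g | g ∈ vert X a ∧ g * u' * g⁻¹ * u'⁻¹ ∈ W1}
        one_mem' := ⟨one_mem _, by simp⟩
        mul_mem' := fun {g g'} hg hg' => ⟨mul_mem hg.1 hg'.1, by
          rw [show g * g' * u' * (g * g')⁻¹ * u'⁻¹ = (g * (g' * u' * g'⁻¹ * u'⁻¹) * g⁻¹) * (g * u' * g⁻¹ * u'⁻¹)
            by group]
          exact mul_mem ((A.stuck_W w.left hs hg.1).le (conj_mem_cj hg'.2)) hg.2⟩
        inv_mem' := fun {g} hg => ⟨inv_mem hg.1, by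
          have h1 := inv_mem ((A.stuck_W w.left hs (inv_mem hg.1)).le (conj_mem_cj (x := g⁻¹) hg.2))
          convert h1 using 1
          group⟩ }
    have hD : vert V c ⊔ cj l (vert V c) ≤ D := by
      refine sup_le (fun z hz => ⟨A.S_le_vert w.left ((A.win_le hb w).1 hz), ?_⟩) ?_
      · rw [show z * u' * z⁻¹ * u'⁻¹ = (u' * z * u'⁻¹ * z⁻¹)⁻¹ by group]
        exact inv_mem (hVxW (hmove z (hcQ hz)))
      · rintro _ ⟨z, hz, rfl⟩
        refine ⟨(A.norm_vertX hl).le (conj_mem_cj (A.S_le_vert w.left ((A.win_le hb w).1 hz))), ?_⟩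
        have hz' : l⁻¹ * u' * l ∈ vert V v := by
          rw [vert_tr]
          have := conj_mem_cj (x := l⁻¹) hu'
          rwa [inv_inv] at this
        have h1 := (A.stuck_W w.left hs hl).le
          (conj_mem_cj (x := l) (hVaW (A.win_move hb w (hvf hz') hz).1.1))
        rw [← Subgroup.inv_mem_iff] at h1
        convert h1 using 1
        show l * z * l⁻¹ * u' * (l * z * l⁻¹)⁻¹ * u'⁻¹ = _
        group
    obtain ⟨g, hg, q, hq, hlg⟩ := A.win_gen hb w hl hop' hl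
    obtain ⟨hgX, hgW⟩ := hD hg
    obtain ⟨hgi, hgu⟩ := D.inv_mem ⟨hgX, hgW⟩
    obtain ⟨ω, hω⟩ : ∃ ω, ω = g⁻¹ * u' * g⁻¹⁻¹ * u'⁻¹ := ⟨_, rfl⟩
    rw [← hω] at hgu
    obtain ⟨t'', ht''d⟩ : ∃ t'', t'' = g⁻¹ * t' * g := ⟨_, rfl⟩
    have ht'' : t'' ∈ cj e (edgeQ S V) := by
      have := (A.stuck_Q w.left hs hgi).le (conj_mem_cj (x := g⁻¹) ht')
      rwa [inv_inv, ← ht''d] at this
    have h1 : u' * t'' * u'⁻¹ * t''⁻¹ ∈ vert V x := hmove _ (A.edgeQ_le_vert w.left'.mem ht'')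
    have hr1 : g⁻¹ * r * g = u' * t'' * u'⁻¹ * t''⁻¹ := by
      have e1 : g⁻¹ * u' * g = ω * u' := by rw [hω]; group
      calc g⁻¹ * r * g = (g⁻¹ * u' * g) * t'' * (g⁻¹ * u' * g)⁻¹ * t''⁻¹ := by rw [hr', ht''d]; group
        _ = ω * (u' * t'' * u'⁻¹ * t''⁻¹) * (t'' * ω⁻¹ * t''⁻¹) := by rw [e1]; group
        _ = ω * (u' * t'' * u'⁻¹ * t''⁻¹) * ω⁻¹ := by
            rw [← A.edgeQ_comm ht'' (inv_mem hgu), mul_inv_cancel_right]
        _ = _ := by rw [A.edgeW_abelian hgu (hVxW h1), mul_inv_cancel_right]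
    have hr1V : g⁻¹ * r * g ∈ vert V a := by
      have := A.conj_V hgi hrV
      rwa [inv_inv] at this
    have hr1Z : g⁻¹ * r * g ∈ cj e (S ⊓ ℭ S) := A.win_cent hb w hr1V fun z hz =>
      ((A.near hb (by omega) (A.win_dist hb w).1).1 _ (hr1 ▸ h1) z hz).symm
    have hfix : ∀ s ∈ cj (l * e) S, s * r = r * s := by
      rw [cj_mul]
      rintro _ ⟨s, hs', rfl⟩
      have e1 : l⁻¹ * r * l = g⁻¹ * r * g := by
        calc l⁻¹ * r * l = q⁻¹ * ((g⁻¹ * r * g) * q) := by rw [hlg]; group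
          _ = _ := by rw [← A.QV_vert hq hr1V]; group
      have h2 := A.Z_edge_comm (e1 ▸ hr1Z) hs'
      show l * s * l⁻¹ * r = r * (l * s * l⁻¹)
      calc l * s * l⁻¹ * r = l * (s * (l⁻¹ * r * l)) * l⁻¹ := by group
        _ = _ := by rw [h2]; group
    exact hne (A.fixed_triv w.left hu htS (A.opp_cent hop' (fun s hs' => A.Z_edge_comm hrZ hs') hfix))
  · -- shift: a window beside the given one
    push Not at hall
    obtain ⟨m, hm, hmne⟩ := hall
    obtain ⟨f2', hf2, hxb⟩ := h32.rename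
    obtain ⟨m', hm', hmm, hmne'⟩ := A.exists_member hb hm hmne hf2
    have w2 : Win S X V (k0 + 3) v (l⁻¹ * (k * e)) (tr l⁻¹ x) xb f2' m' :=
      ⟨fun h => hmne' h.symm, hv, hvx, by
        have := dist_trans (dist_one hlx w.left'.mem) h31
        rwa [show 1 + k0 = k0 + 3 - 2 by omega] at this, hxb, hm'⟩
    obtain ⟨u2, hu2, t2, ht2, hne2, hC2⟩ := A.win_fixed hb w2
    set r2 := u2 * t2 * u2⁻¹ * t2⁻¹
    have ht2S := (A.win_le hb w2).1 ht2
    obtain ⟨hr2V, hr2Z⟩ := A.comm_both hv hu2 ht2S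
    have hr2m : r2 ∈ vert V m' := A.comm_mem_V (A.S_le_vert hm' ((A.win_le hb w2).2 hu2)) ht2
    have hle : Mem0 S X (l⁻¹ * e) (tr l⁻¹ x) := w.left'.tr l⁻¹
    have hle' : Mem0 S X (l⁻¹ * e) a := (w.left.tr l⁻¹).same hla
    have hZ' : r2 ∈ cj (l⁻¹ * e) (S ⊓ ℭ S) := A.C_le_edge hle (A.Z_le_vert hvx hr2Z) hC2
    have hd2 : Dist S X V 2 m' c := dist_trans (dist_one hmm h33) (dist_one (w.right'.mem (V := V)) w.right.mem)
    have hZ : r2 ∈ cj e (S ⊓ ℭ S) := A.win_cent hb w (A.Z_le_vert hle' hZ') fun z hz =>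
      ((A.near hb (by omega) hd2).1 _ hr2m z hz).symm
    have hop2 : Opp S X a (l⁻¹ * e) e := by
      have h1 := congrArg (cj l⁻¹) (show cj e S ⊔ cj (l * e) S = vert X a from hop')
      rwa [cj_sup, A.norm_vertX hl', ← cj_mul, ← cj_mul, inv_mul_cancel_left] at h1
    have hCa := A.good_inf hop2 hZ' hZ
    have hlr : l * r2 * l⁻¹ = r2 := by rw [hCa l hl, mul_inv_cancel_right]
    have hkr : k * r2 * k⁻¹ = r2 := by
      rw [vert_tr, centralizer_cj] at hC2
      have h1 : l⁻¹⁻¹ * r2 * l⁻¹ ∈ ℭ (vert X x) := mem_cj.1 hC2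
      rw [inv_inv, hlr] at h1
      rw [h1 k hk, mul_inv_cancel_right]
    refine hne2 (A.fixed_triv hv hu2 ht2S ?_)
    rw [vert_tr, vert_tr, ← cj_mul, centralizer_cj, mem_cj]
    have e1 : (l⁻¹ * k)⁻¹ * r2 * (l⁻¹ * k) = r2 := by
      calc (l⁻¹ * k)⁻¹ * r2 * (l⁻¹ * k) = k⁻¹ * (l * r2 * l⁻¹) * k := by group
        _ = k⁻¹ * (k * r2 * k⁻¹) * k := by rw [hlr, hkr]
        _ = r2 := by group
    rw [e1]
    exact hCa

end Geo2

end CfsgLib.PushingUpFamily
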