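/-
Sliding and turning windows; the critical distance is two.
-/
import Cfsg.Agent.Lib.PushingUpFamily.Stuck

set_option autoImplicit false
set_option linter.unusedSectionVars false
set_option linter.style.haveILetI false

open scoped Pointwise commutatorElement

namespace CfsgLib.PushingUpFamily

open CfsgLib.LocalEven.PushingUpClosure CfsgLib.PushingUpRankOne

variable {Γ : Type*} [Group Γ] [Finite Γ] {I : Type*}

local notation "ℭ" X:max => Subgroup.centralizer (SetLike.coe X)

namespace Geo2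

variable {p : ℕ} [Fact p.Prime] {S : Subgroup Γ} {X Q V : I → Subgroup Γ} {n : I → ℕ} (A : Geo2 p S X Q V n)
include A

section Step

variable {b : ℕ} (hb : Critical S X V b) {a x y c : Γ × I} {e f : Γ}
include hb

/-- An opposite edge with join inside the far edge makes the endpoint stuck. -/
theorem edge_stuck (w : Win S X V b a e x y f c) {e' : Γ} (hm : Mem0 S X e' a) (hop : Opp S X a e e')
    (hle : cj e' (edgeW S V) ≤ cj f S) : Stuck S X V a.2 := by
  set R := cj e' (edgeW S V)
  have hS' : cj e' S ≤ Subgroup.normalizer (R : Set Γ) := by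
    rintro _ ⟨s, hs, rfl⟩
    refine cj_eq_iff.1 ?_
    show cj (e' * s * e'⁻¹) R = R
    rw [← cj_mul, inv_mul_cancel_right, cj_mul, cj_eq_of_mem (A.normalizer_le_W (Subgroup.le_normalizer hs))]
  have hc : vert V c ≤ Subgroup.normalizer (R : Set Γ) := fun t ht => mem_normalizer_of_map_le (by
    rintro _ ⟨u, hu, rfl⟩
    have h1 := mul_mem (A.vert_le_W hm.mem (A.win_move hb w (hle hu) ht).2) hu
    rw [inv_mul_cancel_right] at h1
    exact h1)
  have hX : vert X a ≤ Subgroup.normalizer (R : Set Γ) := by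
    rw [← (show cj e S ⊔ cj e' S = vert X a from hop)]
    refine sup_le (fun s hs => ?_) hS'
    obtain ⟨t, ht, q, hq, rfl⟩ := A.win_mul hb w hs
    exact mul_mem (hc ht) (hS' (A.Q_le_edge hm hq))
  obtain ⟨h, hh, hx⟩ := hm
  intro g hg
  have hg' : e' * h * g * (e' * h)⁻¹ ∈ vert X a := by
    refine mem_cj.2 ?_
    have := mul_mem (mul_mem (inv_mem hx) hg) hx
    convert this using 1
    group
  have h2 := cj_eq_of_mem (hX hg')
  simp only [R] at h2
  rw [← cj_mul, show e' * h * g * (e' * h)⁻¹ * e' = e' * h * g * h⁻¹ by group, cj_mul, cj_mul, cj_mul,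
    cj_eq_of_mem (inv_mem (A.normalizer_le_W hh))] at h2
  have h3' := congrArg (cj (h⁻¹ * e'⁻¹)) h2
  rw [← cj_mul, ← cj_mul, ← cj_mul, show h⁻¹ * e'⁻¹ * e' * h * g = g by group] at h3'
  rw [← cj_mul, show h⁻¹ * e'⁻¹ * e' = h⁻¹ by group, cj_eq_of_mem (inv_mem (A.normalizer_le_W hh))] at h3'
  exact cj_eq_iff.1 h3'

/-- A member noncommuting with the turned endpoint exists. -/
theorem turn_member (w : Win S X V b a e x y f c) {e' : Γ} (he' : Mem0 S X e' a) (hop : Opp S X a e e') {k : Γ}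
    (hk : k ∈ vert X a) (hke : e'⁻¹ * (k * e) ∈ Subgroup.normalizer (S : Set Γ)) {κ : Γ × I}
    (hκ : ¬ Comm V κ x) (hd : ∀ v, Mem S X V e' v → Dist S X V (b - 1) v κ)
    (hle : vert V (tr k x) ≤ cj f S) : False := by
  have hb2 := A.critical_two hb
  set R := vert V (tr k x) ⊔ vert V a
  have hkx : Mem0 S X e' (tr k x) := by
    have := Mem0.of_rename (e := k * e) (e' := e') ?_ (w.left'.tr k)
    · exact this
    · have := inv_mem hke
      rwa [_root_.mul_inv_rev, inv_inv] at this
  have hnorm : ∀ g ∈ vert X a, (∀ u ∈ vert V (tr k x), g * u * g⁻¹ * u⁻¹ ∈ vert V a) →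
      g ∈ Subgroup.normalizer (R : Set Γ) := fun g hg h => mem_normalizer_of_map_le (by
    show cj g R ≤ R
    rw [cj_sup, A.norm_vertV hg]
    refine sup_le ?_ le_sup_right
    rintro _ ⟨u, hu, rfl⟩
    have h1 := mul_mem (Subgroup.mem_sup_right (h u hu) : _ ∈ R) (Subgroup.mem_sup_left hu : u ∈ R)
    rw [inv_mul_cancel_right] at h1
    exact h1)
  have hS' : cj e' S ≤ Subgroup.normalizer (R : Set Γ) := fun s hs =>
    hnorm s (A.S_le_vert he' hs) fun u hu => A.Z_le_vert he' (A.into_edge hkx hs hu)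
  have hX : vert X a ≤ Subgroup.normalizer (R : Set Γ) := by
    rw [← (show cj e S ⊔ cj e' S = vert X a from hop)]
    refine sup_le (fun s hs => ?_) hS'
    obtain ⟨t, ht, q, hq, rfl⟩ := A.win_mul hb w hs
    exact mul_mem (hnorm t (A.S_le_vert w.left ((A.win_le hb w).1 ht)) fun u hu =>
      (A.win_move hb w (hle hu) ht).2) (hS' (A.Q_le_edge he' hq))
  apply hκ
  intro z hz u hu
  have h1 : k * u * k⁻¹ ∈ R := Subgroup.mem_sup_left (by rw [vert_tr]; exact conj_mem_cj hu)
  have h2 := ((Subgroup.mem_normalizer_iff.1 (inv_mem (hX hk))) _).1 h1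
  rw [inv_inv, show k⁻¹ * (k * u * k⁻¹) * k = u by group] at h2
  have hR : R ≤ Subgroup.centralizer {z} := by
    refine sup_le (fun v hv => ?_) fun v hv => ?_
    · exact Subgroup.mem_centralizer_singleton_iff.2 ((A.near hb (by omega) (hd _ hkx.mem)).1 v hv z hz)
    · exact Subgroup.mem_centralizer_singleton_iff.2 ((A.near hb (by omega) (hd _ he'.mem)).1 v hv z hz)
  exact (Subgroup.mem_centralizer_singleton_iff.1 (hR h2)).symm

end Step

section Far

variable {b : ℕ} (hb : Critical S X V b) (h3 : 3 ≤ b) {a x y c : Γ × I} {e f : Γ}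
include hb h3

/-- An opposite edge at an endpoint keeps its join outside the far edge. -/
theorem slide_stuck (w : Win S X V b a e x y f c) {e' : Γ} (hm : Mem0 S X e' a) (hop : Opp S X a e e') :
    ¬ cj e' (edgeW S V) ≤ cj f S := fun hle => A.win_not_stuck hb h3 w (A.edge_stuck hb w hm hop hle)

/-- A window slides by one step along its path. -/
theorem slide (w : Win S X V b a e x y f c) {xb : Γ × I} {f2 : Γ} (hd : Dist S X V (b - 3) x xb)
    (h1 : Mem S X V f2 xb) (h2 : Mem S X V f2 y) :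
    ∃ e' a' f2' c', Opp S X a e e' ∧ Win S X V b a' e' a xb f2' c' ∧ Mem S X V f2 c' := by
  obtain ⟨e', hm, hop, -⟩ := A.exists_opp w.left
  by_cases hall : ∀ h ∈ Subgroup.normalizer (S : Set Γ), ∀ i, ∀ m, Mem S X V f2 m → Comm V (e' * h, i) m
  · refine absurd (edgeW_le_iff.2 fun h hh i => ?_) (A.slide_stuck hb h3 w hm hop)
    have hdd : Dist S X V (b - 1) (e' * h, i) xb := by
      have := dist_trans (dist_one ((mem0_member (X := X) (e := e') hh i).mem (V := V)) hm.mem)
        (dist_trans (dist_one w.left.mem w.left'.mem) hd)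
      rwa [show 1 + (1 + (b - 3)) = b - 1 by omega] at this
    exact (A.le_edgeQ' h1 (A.near hb (by omega) (dist_symm hdd)).2 fun m hm' z hz q hq =>
      (hall h hh i m hm' q hq z hz).symm).trans ((A.edgeQ_le_vert h2).trans (A.Q_le_edge w.right'))
  · push Not at hall
    obtain ⟨h, hh, i, m, hm', hne⟩ := hall
    obtain ⟨f2', hf, hxb⟩ := h1.rename
    obtain ⟨c', hc', hc2, hne'⟩ := A.exists_member hb hm' (fun h => hne h.symm) hf
    refine ⟨e', (e' * h, i), f2', c', hop, ⟨fun h => hne' h.symm, mem0_member hh i, hm, ?_, hxb, hc'⟩, hc2⟩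
    have := dist_trans (dist_one (w.left.mem (V := V)) w.left'.mem) hd
    rwa [show 1 + (b - 3) = b - 2 by omega] at this

/-- If the last step stays inside the normaliser, its old end serves as the new endpoint. -/
theorem slide_spec (w : Win S X V b a e x y f c) {xb : Γ × I} {f2 : Γ} (hd : Dist S X V (b - 3) x xb)
    (h1 : Mem0 S X f2 xb) (h2 : Mem0 S X f2 y) :
    ∃ e' a', Opp S X a e e' ∧ Win S X V b a' e' a xb f2 y := by
  obtain ⟨e', hm, hop, -⟩ := A.exists_opp w.left
  by_cases hall : ∀ h ∈ Subgroup.normalizer (S : Set Γ), ∀ i, Comm V (e' * h, i) y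
  · refine absurd (edgeW_le_iff.2 fun h hh i => ?_) (A.slide_stuck hb h3 w hm hop)
    have hdd : Dist S X V (b - 1) (e' * h, i) xb := by
      have := dist_trans (dist_one ((mem0_member (X := X) (e := e') hh i).mem (V := V)) hm.mem)
        (dist_trans (dist_one w.left.mem w.left'.mem) hd)
      rwa [show 1 + (1 + (b - 3)) = b - 1 by omega] at this
    intro q hq
    exact A.Q_le_edge w.right' (A.edge_cent_le h2 ⟨A.Q_le_edge h1
      ((A.near hb (by omega) (dist_symm hdd)).2 hq), fun z hz => (hall h hh i q hq z hz).symm⟩)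
  · push Not at hall
    obtain ⟨h, hh, i, hne⟩ := hall
    refine ⟨e', (e' * h, i), hop, hne, mem0_member hh i, hm, ?_, h1, h2⟩
    have := dist_trans (dist_one (w.left.mem (V := V)) w.left'.mem) hd
    rwa [show 1 + (b - 3) = b - 2 by omega] at this

/-- Sliding all the way back. -/
theorem slide_back (w : Win S X V b a e x y f c) :
    ∃ e', Mem0 S X e' a ∧ Opp S X a e e' ∧ ∃ κ g xκ, Win S X V b κ g xκ a e x ∧
      ∀ v, Mem S X V e' v → Dist S X V (b - 1) v κ := by
  obtain ⟨k0, hk0⟩ : ∃ k0, b = k0 + 3 := ⟨b - 3, by omega⟩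
  obtain ⟨f2, xb, hd1, h1, h2⟩ := dist_back (show Dist S X V (k0 + 1) x y by
    have := w.mid; rwa [show b - 2 = k0 + 1 by omega] at this)
  rw [show k0 = b - 3 by omega] at hd1
  obtain ⟨e', a', f2', c', hop, w1, -⟩ := A.slide hb h3 w hd1 h1 h2
  refine ⟨e', w1.left', hop, ?_⟩
  suffices H : ∀ i j, i + j + 2 = b → 1 ≤ j → ∀ κ g xκ y' h z, Win S X V b κ g xκ y' h z →
      Dist S X V (j - 1) xκ a → Dist S X V i x y' → (∀ v, Mem S X V e' v → Dist S X V j v κ) →
      ∃ κ g xκ, Win S X V b κ g xκ a e x ∧ ∀ v, Mem S X V e' v → Dist S X V (b - 1) v κ from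
    H (b - 3) 1 (by omega) le_rfl _ _ _ _ _ _ w1 (dist_refl _ _) hd1 fun v hv => dist_one hv w1.left.mem
  intro i
  induction i with
  | zero =>
    intro j hij hj κ g xκ y' h z W hxa hxy hv
    obtain ⟨g', κ', -, W'⟩ := A.slide_spec hb h3 W (xb := a) (f2 := e)
      (dist_mono (by omega) hxa) w.left (w.left'.same hxy)
    refine ⟨κ', g', κ, ⟨fun hc => W'.ne ?_, W'.left, W'.left', W'.mid, W'.right', w.left'⟩, fun v hv' => ?_⟩
    · intro u hu t ht
      rw [vert_same A.norm_V hxy] at ht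
      exact hc u hu t ht
    · have := dist_trans (hv v hv') (dist_one (W'.left'.mem (V := V)) W'.left.mem)
      rwa [show j + 1 = b - 1 by omega] at this
  | succ i ih =>
    intro j hij hj κ g xκ y' h z W hxa hxy hv
    obtain ⟨g2, yb, hdb, hm1, hm2⟩ := dist_back hxy
    obtain ⟨g', κ', g2', z', -, W', -⟩ := A.slide hb h3 W (xb := yb) (f2 := g2) (by
      have := dist_trans hxa (dist_trans (dist_one (w.left.mem (V := V)) w.left'.mem) hdb)
      rwa [show j - 1 + (1 + i) = b - 3 by omega] at this) hm1 hm2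
    refine ih (j + 1) (by omega) (by omega) κ' g' κ yb g2' z' W' ?_ hdb fun v hv' =>
      dist_trans (hv v hv') (dist_one (W'.left'.mem (V := V)) W'.left.mem)
    have := dist_trans (dist_one (W.left.mem (V := V)) W.left'.mem) hxa
    rwa [show 1 + (j - 1) = j + 1 - 1 by omega] at this

/-- The turn. -/
theorem turn {a0 x0 y0 c0 : Γ × I} {e0 f0 : Γ} (w0 : Win S X V b a0 e0 x0 y0 f0 c0)
    (w : Win S X V b a e a0 y f c) (hop0 : Opp S X a0 e0 e)
    {xb m : Γ × I} {f2 : Γ} (hd : Dist S X V (b - 3) a0 xb) (h1 : Mem0 S X f2 xb) (h2 : Mem0 S X f2 m)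
    (hnear : Comm V m c0 ∨ ∃ k < b, Dist S X V k m c0) {e' : Γ} (he' : Mem0 S X e' a) {k : Γ}
    (hk : k ∈ vert X a) (hke : e'⁻¹ * (k * e) ∈ Subgroup.normalizer (S : Set Γ))
    (hne : ¬ Comm V (tr k a0) m) : False := by
  have hka : Mem0 S X e' (tr k a0) := by
    have := Mem0.of_rename (e := k * e) (e' := e') ?_ (w.left'.tr k)
    · exact this
    · have := inv_mem hke
      rwa [_root_.mul_inv_rev, inv_inv] at this
  have W : Win S X V b (tr k a0) e' a xb f2 m := ⟨hne, hka, he', by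
    have := dist_trans (dist_one (w.left.mem (V := V)) w.left'.mem) hd
    rwa [show 1 + (b - 3) = b - 2 by omega] at this, h1, h2⟩
  obtain ⟨u, hu, t, ht, hne', hC⟩ := A.win_fixed hb W
  set r := u * t * u⁻¹ * t⁻¹
  have htS := (A.win_le hb W).1 ht
  obtain ⟨-, hrZ⟩ := A.comm_both hka hu htS
  have hrm : r ∈ vert V m := A.comm_mem_V (A.S_le_vert h2 ((A.win_le hb W).2 hu)) ht
  have hrZe : r ∈ cj e (S ⊓ ℭ S) := A.C_le_edge w.left (A.Z_le_vert he' hrZ) hC
  have hra : r ∈ vert V a0 := A.Z_le_vert w.left' hrZe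
  have hZ0 : r ∈ cj e0 (S ⊓ ℭ S) := A.win_cent hb w0 hra fun z hz => by
    rcases hnear with h | ⟨l, hl, h⟩
    · exact (h r hrm z hz).symm
    · exact ((A.near hb hl h).1 r hrm z hz).symm
  have hC0 := A.good_inf hop0 hZ0 hrZe
  refine hne' (A.fixed_triv hka hu htS ?_)
  rw [vert_tr, centralizer_cj, mem_cj]
  rw [show k⁻¹ * r * k = r by rw [mul_assoc, ← hC k hk, inv_mul_cancel_left]]
  exact hC0

/-- No window is wider than two steps. -/
theorem far_false : False := by
  obtain ⟨a0, e0, x0, y0, f0, c0, w0⟩ := A.exists_win hb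
  obtain ⟨k0, hk0⟩ : ∃ k0, b = k0 + 3 := ⟨b - 3, by omega⟩
  obtain ⟨g0, xb0, hd0, hg0, hg0'⟩ := dist_back (show Dist S X V (k0 + 1) x0 y0 by
    have := w0.mid; rwa [show b - 2 = k0 + 1 by omega] at this)
  rw [show k0 = b - 3 by omega] at hd0
  obtain ⟨e, a, f, c, hop0, w, hc⟩ := A.slide hb h3 w0 hd0 hg0 hg0'
  obtain ⟨e', he', hop, κ, g, xκ, W, hd⟩ := A.slide_back hb h3 w
  obtain ⟨k, hk, hke⟩ := exists_map w.left he'
  have hkd : Dist S X V 1 (tr k a0) a := by
    refine dist_one (e := k * e) (w.left'.tr k).mem ?_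
    exact (w.left.tr k).mem.same (same_tr hk)
  rcases (show b = 3 ∨ 4 ≤ b by omega) with rfl | h4
  · -- the neighbour itself serves
    have hs : Same X x0 xb0 := hd0
    have hx0 : Mem0 S X e0 xb0 := w0.left'.same hs
    by_cases hcm : Comm V (tr k a0) xb0
    · refine A.turn_member hb w he' hop hk hke W.ne hd fun q hq => A.Q_le_edge w.right' ?_
      have h1 := (A.near hb (k := 2) (by omega)
        (dist_symm (dist_trans hkd (dist_one (w.left.mem (V := V)) w.left'.mem)))).2 hq
      exact A.edge_cent_le hx0 ⟨A.Q_le_edge w0.left h1, fun z hz => (hcm q hq z hz).symm⟩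
    · refine A.turn hb le_rfl w0 w hop0 (xb := a0) (f2 := e0) (dist_refl _ _) w0.left hx0
        (Or.inr ⟨2, by omega, ?_⟩) he' hk hke hcm
      exact dist_trans (dist_one hg0 hg0') (dist_one w0.right'.mem w0.right.mem)
  · obtain ⟨l0, rfl⟩ : ∃ l0, b = l0 + 4 := ⟨b - 4, by omega⟩
    obtain ⟨f2, xb, hdb, h1, h2⟩ := dist_back (show Dist S X V (l0 + 1 + 1) a0 xb0 from w.mid)
    have hkq : Dist S X V (l0 + 3) (tr k a0) xb := by
      have := dist_trans hkd (dist_trans (dist_one (w.left.mem (V := V)) w.left'.mem) hdb)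
      rwa [show 1 + (1 + (l0 + 1)) = l0 + 3 by omega] at this
    by_cases hall : ∀ m, Mem S X V f2 m → Comm V (tr k a0) m
    · refine A.turn_member hb w he' hop hk hke W.ne hd ?_
      exact (A.le_edgeQ' h1 (A.near hb (by omega) (dist_symm hkq)).2 fun m hm z hz q hq =>
        (hall m hm q hq z hz).symm).trans ((A.edgeQ_le_vert h2).trans (A.Q_le_edge w.right'))
    · push Not at hall
      obtain ⟨m, hm, hne⟩ := hall
      obtain ⟨f2', hf, hxb⟩ := h1.rename
      obtain ⟨m', hm', hm2, hne'⟩ := A.exists_member hb hm (fun h => hne h.symm) hf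
      refine A.turn hb h3 w0 w hop0 hdb hxb hm' (Or.inr ⟨3, by omega, ?_⟩) he' hk hke fun h => hne' h.symm
      exact dist_trans (dist_one hm2 h2) (dist_trans (dist_one hg0 hg0') (dist_one w0.right'.mem w0.right.mem))

end Far

/-- The critical distance is two. -/
theorem critical_eq {b : ℕ} (hb : Critical S X V b) : b = 2 := by
  rcases (A.critical_two hb).lt_or_eq with h | h
  · exact (A.far_false hb h).elim
  · exact h.symm

end Geo2

end CfsgLib.PushingUpFamily
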