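/-
At critical distance two no endpoint of a window is of stuck type.
-/
import Cfsg.Agent.Lib.PushingUpFamily.Stuck

set_option autoImplicit false
set_option linter.unusedSectionVars false
set_option linter.style.haveILetI false

open scoped Pointwise commutatorElement

namespace CfsgLib.PushingUpFamily

open CfsgLib.LocalEven.PushingUpClosure CfsgLib.PushingUpRankOne

variable {Γ : Type*} [Group Γ] [Finite Γ] {I : Type*}

local notation "ℭ" X:max => Subgroup.centralizer (SetLike.coe X)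

theorem cj_inv_mul {c : Γ} {R : Subgroup Γ} {x : Γ} : x ∈ cj c⁻¹ R ↔ c * x * c⁻¹ ∈ R := by
  rw [mem_cj, inv_inv]

/-- Moving by a generated group stays inside an invariant subgroup. -/
theorem gen_move {R L L' N : Subgroup Γ} {u l : Γ} (hl : l ∈ N) (hR : ∀ g ∈ N, cj g R = R) (hL : L ≤ N)
    (hL' : L' = L ⊔ cj l L) (h1 : ∀ t ∈ L, t * u * t⁻¹ * u⁻¹ ∈ R)
    (h2 : ∀ t ∈ L, t * (l⁻¹ * u * l) * t⁻¹ * (l⁻¹ * u * l)⁻¹ ∈ R) :
    ∀ g ∈ L', g * u * g⁻¹ * u⁻¹ ∈ R := by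
  let D : Subgroup Γ :=
    { carrier := {g | g ∈ N ∧ g * u * g⁻¹ * u⁻¹ ∈ R}
      one_mem' := ⟨one_mem _, by simp⟩
      mul_mem' := fun {g g'} hg hg' => ⟨mul_mem hg.1 hg'.1, by
        rw [show g * g' * u * (g * g')⁻¹ * u⁻¹ = (g * (g' * u * g'⁻¹ * u⁻¹) * g⁻¹) * (g * u * g⁻¹ * u⁻¹) by group]
        exact mul_mem ((hR g hg.1).le (conj_mem_cj hg'.2)) hg.2⟩
      inv_mem' := fun {g} hg => ⟨inv_mem hg.1, by
        have h := inv_mem ((hR _ (inv_mem hg.1)).le (conj_mem_cj (x := g⁻¹) hg.2))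
        convert h using 1
        group⟩ }
  have hD : L' ≤ D := by
    rw [hL']
    refine sup_le (fun t ht => ⟨hL ht, h1 t ht⟩) ?_
    rintro _ ⟨t, ht, rfl⟩
    refine ⟨mul_mem (mul_mem hl (hL ht)) (inv_mem hl), ?_⟩
    have h := (hR l hl).le (conj_mem_cj (x := l) (h2 t ht))
    convert h using 1
    show l * t * l⁻¹ * u * (l * t * l⁻¹)⁻¹ * u⁻¹ = _
    group
  exact fun g hg => (hD hg).2

namespace Geo

variable {p : ℕ} {S : Subgroup Γ} {X Q V : I → Subgroup Γ} {n : I → ℕ} (A : Geo p S X Q V n)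
include A

variable {e : Γ} {v : Γ × I}

theorem fix_vert (h : Mem0 S X e v) {R' R U : Subgroup Γ} (hR' : ∀ g ∈ vert X v, cj g R' = R')
    (hR : ∀ g ∈ vert X v, cj g R = R) (hRX : R ≤ vert X v) (hU : U ≤ cj e S) (hUQ : ¬ U ≤ vert Q v)
    (hc : ∀ u ∈ U, ∀ r ∈ R, u * r * u⁻¹ * r⁻¹ ∈ R') :
    ∀ x ∈ vert X v, (orderOf x).Coprime p → ∀ r ∈ R, x * r * x⁻¹ * r⁻¹ ∈ R' := by
  obtain ⟨c, h1, -, hX, hQ, -⟩ := A.vert_eqs h
  have hinv : ∀ {R0 : Subgroup Γ}, (∀ g ∈ vert X v, cj g R0 = R0) → ∀ g ∈ X v.2, cj g (cj c⁻¹ R0) = cj c⁻¹ R0 := by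
    intro R0 h0 g hg
    rw [← cj_mul, show g * c⁻¹ = c⁻¹ * (c * g * c⁻¹) by group, cj_mul, h0 _ (hX ▸ conj_mem_cj hg)]
  intro x hx hcop r hr
  rw [hX] at hx
  have h2 := A.fix v.2 (cj c⁻¹ R') (cj c⁻¹ R) (cj c⁻¹ U) (hinv hR') (hinv hR)
    (by rw [cj_le_iff, inv_inv, ← hX]; exact hRX)
    (by rw [cj_le_iff, inv_inv, h1]; exact hU)
    (by rw [cj_le_iff, inv_inv, ← hQ]; exact hUQ)
    (fun u hu r' hr' => by
      rw [cj_inv_mul] at hu hr' ⊢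
      convert hc _ hu _ hr' using 1
      group)
    (c⁻¹ * x * c) (mem_cj.1 hx) (by rwa [orderOf_cj]) (c⁻¹ * r * c)
    (by rw [cj_inv_mul]; simpa [mul_assoc] using hr)
  rw [cj_inv_mul] at h2
  convert h2 using 1
  group

theorem step_vert (h : Mem0 S X e v) {R : Subgroup Γ} (hR : ∀ g ∈ vert X v, cj g R = R) {x : Γ}
    (hx : x ∈ vert X v) (hcop : (orderOf x).Coprime p) {u : Γ} (hu : u ∈ vert Q v)
    (hd : x * (x * u * x⁻¹ * u⁻¹) * x⁻¹ * (x * u * x⁻¹ * u⁻¹)⁻¹ ∈ R) : x * u * x⁻¹ * u⁻¹ ∈ R := by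
  obtain ⟨c, -, -, hX, hQ, -⟩ := A.vert_eqs h
  rw [hX] at hx
  rw [hQ] at hu
  have h2 := A.step v.2 (cj c⁻¹ R) (fun g hg => by
    rw [← cj_mul, show g * c⁻¹ = c⁻¹ * (c * g * c⁻¹) by group, cj_mul, hR _ (hX ▸ conj_mem_cj hg)])
    (c⁻¹ * x * c) (mem_cj.1 hx) (by rwa [orderOf_cj]) (c⁻¹ * u * c) (mem_cj.1 hu) (by
      rw [cj_inv_mul]
      convert hd using 1
      group)
  rw [cj_inv_mul] at h2
  convert h2 using 1
  group

theorem tau_vert (h : Mem0 S X e v) (hp : p ≠ 2)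
    (hker : ∀ x ∈ vert X v, (orderOf x).Coprime p → (∀ a ∈ vert V v, x * a * x⁻¹ * a⁻¹ ∈ ℭ (vert X v)) →
      ∀ q ∈ vert Q v, x * q = q * x) :
    ∃ τ ∈ vert X v, (orderOf τ).Coprime p ∧ τ * τ = 1 ∧ (∀ a ∈ vert V v, τ * a * τ⁻¹ * a ∈ ℭ (vert X v)) ∧
      ∀ s ∈ cj e S, τ * s * τ⁻¹ * s⁻¹ ∈ vert Q v := by
  obtain ⟨c, h1, -, hX, hQ, hV⟩ := A.vert_eqs h
  rw [hX, hQ, hV, centralizer_cj] at hker
  obtain ⟨τ, hτ, hcop, h2, hneg, hS⟩ := A.tau v.2 hp fun x hx hc hC q hq => by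
    have h3 := hker (c * x * c⁻¹) (conj_mem_cj hx)
      (by rwa [show c * x * c⁻¹ = c⁻¹⁻¹ * x * c⁻¹ by group, orderOf_cj])
      (fun a ha => mem_cj.2 (by
        convert hC _ (mem_cj.1 ha) using 1
        group))
      (c * q * c⁻¹) (conj_mem_cj hq)
    calc x * q = c⁻¹ * (c * x * c⁻¹ * (c * q * c⁻¹)) * c := by group
      _ = _ := by rw [h3]; group
  rw [hX, hQ, hV, centralizer_cj, ← h1]
  refine ⟨c * τ * c⁻¹, conj_mem_cj hτ,
    by rwa [show c * τ * c⁻¹ = c⁻¹⁻¹ * τ * c⁻¹ by group, orderOf_cj],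
    by rw [show c * τ * c⁻¹ * (c * τ * c⁻¹) = c * (τ * τ) * c⁻¹ by group, h2]; group, ?_, ?_⟩
  · rintro _ ⟨a, ha, rfl⟩
    refine mem_cj.2 ?_
    convert hneg a ha using 1
    show c⁻¹ * (c * τ * c⁻¹ * (c * a * c⁻¹) * (c * τ * c⁻¹)⁻¹ * (c * a * c⁻¹)) * c = _
    group
  · rintro _ ⟨s, hs, rfl⟩
    refine mem_cj.2 ?_
    convert hS s hs using 1
    show c⁻¹ * (c * τ * c⁻¹ * (c * s * c⁻¹) * (c * τ * c⁻¹)⁻¹ * (c * s * c⁻¹)⁻¹) * c = _
    group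

end Geo

namespace Geo2

variable {p : ℕ} [Fact p.Prime] {S : Subgroup Γ} {X Q V : I → Subgroup Γ} {n : I → ℕ} (A : Geo2 p S X Q V n)
include A

/-- The join of an edge is the centraliser of its centraliser. -/
theorem edge_cent_Q [Finite I] [Nonempty I] (e : Γ) : cj e S ⊓ ℭ (cj e (edgeQ S V)) = cj e (edgeW S V) := by
  rw [centralizer_cj, ← cj_inf, A.cent_edgeQ]

theorem edgeQ_mem {e : Γ} {s : Γ} (hs : s ∈ cj e S) (hc : ∀ x ∈ cj e (edgeW S V), x * s = s * x) :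
    s ∈ cj e (edgeQ S V) := by
  rw [edgeQ, cj_inf, ← centralizer_cj]
  exact ⟨hs, hc⟩

section Two

variable (hb : Critical S X V 2) {a x z : Γ × I} {e f : Γ} (w : Win S X V 2 a e x x f z)
include hb w

theorem two_near : vert V z ≤ vert Q x ∧ vert V a ≤ vert Q x ∧ Comm V x z :=
  ⟨(A.near hb (by omega) (A.win_dist hb w).1).2, (A.near hb (by omega) (dist_symm (A.win_dist hb w).2)).2,
    (A.near hb (by omega) (A.win_dist hb w).1).1⟩

/-- A central element of the edge all whose translates by the moving group commute with the far module. -/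
theorem orbit {l : Γ} (hl : l ∈ vert X a) (hop : Opp S X a e (l * e)) {r : Γ} (hr : r ∈ cj e (S ⊓ ℭ S))
    (hall : ∀ g ∈ vert V z ⊔ cj l (vert V z), ∀ t ∈ vert V z, t * (g * r * g⁻¹) = g * r * g⁻¹ * t) :
    r ∈ ℭ (vert X a) := by
  have hra : r ∈ vert V a := A.Z_le_vert w.left hr
  obtain ⟨g, hg, q, hq, hlg⟩ := A.win_gen hb w hl hop hl
  have hLX : vert V z ⊔ cj l (vert V z) ≤ vert X a :=
    sup_le ((A.win_le hb w).1.trans (A.S_le_vert w.left))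
      ((cj_mono l ((A.win_le hb w).1.trans (A.S_le_vert w.left))).trans (A.norm_vertX hl).le)
  have h1 : g⁻¹ * r * g ∈ vert V a := by
    have := A.conj_V (inv_mem (hLX hg)) hra
    rwa [inv_inv] at this
  have h2 : g⁻¹ * r * g ∈ cj e (S ⊓ ℭ S) := A.win_cent hb w h1 fun t ht => by
    have := hall g⁻¹ (inv_mem hg) t ht
    rwa [inv_inv] at this
  have h3 : r ∈ cj (l * e) (S ⊓ ℭ S) := by
    rw [cj_mul, mem_cj]
    have e1 : l⁻¹ * r * l = g⁻¹ * r * g := by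
      calc l⁻¹ * r * l = q⁻¹ * ((g⁻¹ * r * g) * q) := by rw [hlg]; group
        _ = _ := by rw [← A.QV_vert hq h1]; group
    rw [e1]; exact h2
  exact A.good_inf hop hr h3

variable (hs : Stuck S X V a.2)
include hs

theorem stuck_norm {g : Γ} (hg : g ∈ vert X a) :
    cj g (cj e (edgeW S V)) = cj e (edgeW S V) ∧ cj g (cj e (edgeQ S V)) = cj e (edgeQ S V) :=
  ⟨A.stuck_W w.left hs hg, A.stuck_Q w.left hs hg⟩

/-- The join commutes with `Q` into the fixed points. -/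
theorem stuck_WQ {q u : Γ} (hq : q ∈ vert Q a) (hu : u ∈ cj e (edgeW S V)) :
    q * u * q⁻¹ * u⁻¹ ∈ ℭ (vert X a) ∧ q * u * q⁻¹ * u⁻¹ ∈ cj e (S ⊓ ℭ S) := by
  have key : ∀ e', Mem0 S X e' a → cj e' (edgeW S V) = cj e (edgeW S V) →
      q * u * q⁻¹ * u⁻¹ ∈ cj e' (S ⊓ ℭ S) := by
    intro e' he' heW
    let D : Subgroup Γ :=
      { carrier := {x | x ∈ cj e' S ∧ q * x * q⁻¹ * x⁻¹ ∈ cj e' (S ⊓ ℭ S)}
        one_mem' := ⟨one_mem _, by simp⟩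
        mul_mem' := fun {x y} hx hy => ⟨mul_mem hx.1 hy.1, by
          rw [show q * (x * y) * q⁻¹ * (x * y)⁻¹ = (q * x * q⁻¹ * x⁻¹) * (x * (q * y * q⁻¹ * y⁻¹) * x⁻¹) by group,
            A.Z_edge_comm hy.2 hx.1, mul_inv_cancel_right]
          exact mul_mem hx.2 hy.2⟩
        inv_mem' := fun {x} hx => ⟨inv_mem hx.1, by
          rw [show q * x⁻¹ * q⁻¹ * x⁻¹⁻¹ = x⁻¹ * (q * x * q⁻¹ * x⁻¹)⁻¹ * x by group,
            A.Z_edge_comm (inv_mem hx.2) (inv_mem hx.1), inv_mul_cancel_right]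
          exact inv_mem hx.2⟩ }
    have hle : cj e' (edgeW S V) ≤ D := edgeW_le_iff.2 fun h hh i v hv =>
      ⟨A.V_le_edge (mem0_member hh i) hv, A.into_edge (mem0_member hh i) (A.Q_le_edge he' hq) hv⟩
    exact (hle (heW ▸ hu)).2
  refine ⟨?_, key e w.left rfl⟩
  obtain ⟨e', hm, hop, l, hl, rfl⟩ := A.exists_opp w.left
  exact A.good_inf hop (key e w.left rfl) (key _ hm (A.edgeW_eq (A.stuck_edge w.left hs hl)))

/-- The far module moves the centraliser of the edge into its join. -/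
theorem stuck_QsV {q t : Γ} (hq : q ∈ cj e (edgeQ S V)) (ht : t ∈ vert V z) :
    t * q * t⁻¹ * q⁻¹ ∈ vert V x ∧ t * q * t⁻¹ * q⁻¹ ∈ cj e (edgeW S V) := by
  have h1 : t * q * t⁻¹ * q⁻¹ ∈ vert V x :=
    A.Z_le_vert w.right' (A.comm_both w.right ht (A.Q_le_edge w.right' (A.edgeQ_le_vert w.left'.mem hq))).2
  exact ⟨h1, A.vert_le_W w.left'.mem h1⟩

theorem stuck_QV {q t : Γ} (hq : q ∈ vert Q a) (ht : t ∈ vert V z) :
    t * q * t⁻¹ * q⁻¹ ∈ cj e (edgeQ S V) := by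
  haveI : Nonempty I := ⟨x.2⟩
  have htX := A.S_le_vert w.left ((A.win_le hb w).1 ht)
  have hd : t * q * t⁻¹ * q⁻¹ ∈ vert Q a :=
    mul_mem ((A.norm_vertQ htX).le (conj_mem_cj hq)) (inv_mem hq)
  refine A.edgeQ_mem (A.Q_le_edge w.left hd) fun u hu => ?_
  obtain ⟨v, hv⟩ : ∃ v, v = t⁻¹ * u * t * u⁻¹ := ⟨_, rfl⟩
  have hvV : v ∈ vert V a := by
    have h1 := (A.win_move hb w (A.Q_le_edge w.right' (A.edgeQ_le_vert w.left'.mem
      (cj_mono e A.edgeW_le_edgeQ hu))) (inv_mem ht)).2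
    rw [inv_inv] at h1
    rwa [hv]
  obtain ⟨c, hc⟩ : ∃ c, c = q⁻¹ * u * q * u⁻¹ := ⟨_, rfl⟩
  have hcC : c ∈ ℭ (vert X a) := by
    have := (A.stuck_WQ hb w hs (inv_mem hq) hu).1
    rwa [inv_inv, ← hc] at this
  have e1 : t⁻¹ * u * t = v * u := by rw [hv]; group
  have e2 : q⁻¹ * u * q = c * u := by rw [hc]; group
  have e4 : q⁻¹ * (v * u) * q = v * c * u := by
    calc q⁻¹ * (v * u) * q = (q⁻¹ * v) * (u * q) := by group
      _ = (v * q⁻¹) * (u * q) := by rw [A.QV_vert (inv_mem hq) hvV]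
      _ = _ := by rw [show v * q⁻¹ * (u * q) = v * (q⁻¹ * u * q) by group, e2]; group
  have htv : t * v * t⁻¹ ∈ vert V a := A.conj_V htX hvV
  have e5 : t * (v * c * u) * t⁻¹ = c * u := by
    have h5 : t * c = c * t := hcC t htX
    have h6 : t * u * t⁻¹ = (t * v * t⁻¹)⁻¹ * u := by
      calc t * u * t⁻¹ = (t * v * t⁻¹)⁻¹ * (t * (v * u) * t⁻¹) := by group
        _ = _ := by rw [← e1]; group
    have h7 : t * v * t⁻¹ * c = c * (t * v * t⁻¹) := hcC _ (A.vertV_le_X a htv)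
    calc t * (v * c * u) * t⁻¹ = t * v * t⁻¹ * (t * c) * u * t⁻¹ := by group
      _ = t * v * t⁻¹ * c * (t * u * t⁻¹) := by rw [h5]; group
      _ = c * (t * v * t⁻¹) * (t * u * t⁻¹) := by rw [h7]
      _ = _ := by rw [h6]; group
  have e6 : q * (c * u) * q⁻¹ = u := by rw [← e2]; group
  -- conjugating `u` by the inverse of the commutator
  have e7 : q * (t * (q⁻¹ * (t⁻¹ * u * t) * q) * t⁻¹) * q⁻¹ = u := by rw [e1, e4, e5, e6]
  calc u * (t * q * t⁻¹ * q⁻¹) = (t * q * t⁻¹ * q⁻¹) * (q * (t * (q⁻¹ * (t⁻¹ * u * t) * q) * t⁻¹) * q⁻¹) := by group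
    _ = _ := by rw [e7]

/-- Elements of order prime to `p` fix `Q` modulo the module. -/
theorem stuck_triv {g : Γ} (hg : g ∈ vert X a) (hcop : (orderOf g).Coprime p) {q : Γ} (hq : q ∈ vert Q a) :
    g * q * g⁻¹ * q⁻¹ ∈ vert V a := by
  haveI : Nonempty I := ⟨x.2⟩
  have hU : ¬ vert V z ≤ vert Q a := fun h => w.ne fun u hu t ht => (A.QV_vert (h ht) hu).symm
  have hRQ : cj e (edgeQ S V) ≤ vert Q a := A.edgeQ_le_vert w.left.mem
  have hRW : cj e (edgeW S V) ≤ cj e (edgeQ S V) := cj_mono e A.edgeW_le_edgeQ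
  have hQX := A.vertQ_le_X a
  have h1 : ∀ r ∈ vert Q a, g * r * g⁻¹ * r⁻¹ ∈ cj e (edgeQ S V) :=
    A.fix_vert w.left (fun h hh => (A.stuck_norm hb w hs hh).2) (fun h hh => A.norm_vertQ hh) hQX
      (A.win_le hb w).1 hU (fun t ht r hr => A.stuck_QV hb w hs hr ht) g hg hcop
  have h2 : ∀ r ∈ cj e (edgeQ S V), g * r * g⁻¹ * r⁻¹ ∈ cj e (edgeW S V) :=
    A.fix_vert w.left (fun h hh => (A.stuck_norm hb w hs hh).1) (fun h hh => (A.stuck_norm hb w hs hh).2)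
      (hRQ.trans hQX) (A.win_le hb w).1 hU (fun t ht r hr => (A.stuck_QsV hb w hs hr ht).2) g hg hcop
  have h3 : ∀ r ∈ cj e (edgeW S V), g * r * g⁻¹ * r⁻¹ ∈ vert V a :=
    A.fix_vert w.left (fun h hh => A.norm_vertV hh) (fun h hh => (A.stuck_norm hb w hs hh).1)
      (hRW.trans (hRQ.trans hQX)) (A.win_le hb w).1 hU
      (fun t ht r hr => (A.win_move hb w (A.Q_le_edge w.right' (A.edgeQ_le_vert w.left'.mem (hRW hr))) ht).2)
      g hg hcop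
  have h4 : g * q * g⁻¹ * q⁻¹ ∈ cj e (edgeW S V) :=
    A.step_vert w.left (fun h hh => (A.stuck_norm hb w hs hh).1) hg hcop hq (h2 _ (h1 q hq))
  exact A.step_vert w.left (fun h hh => A.norm_vertV hh) hg hcop hq (h3 _ h4)

theorem stuck_ker {g : Γ} (hg : g ∈ vert X a) (hcop : (orderOf g).Coprime p)
    (hC : ∀ v ∈ vert V a, g * v * g⁻¹ * v⁻¹ ∈ ℭ (vert X a)) {q : Γ} (hq : q ∈ vert Q a) : g * q = q * g := by
  set C := vert V a ⊓ ℭ (vert X a)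
  have hCn : ∀ h ∈ vert X a, cj h C = C := fun h hh => by
    rw [cj_inf, A.norm_vertV hh, ← centralizer_cj, A.norm_vertX hh]
  have h1 := A.stuck_triv hb w hs hg hcop hq
  have h2 : g * q * g⁻¹ * q⁻¹ ∈ C :=
    A.step_vert w.left hCn hg hcop hq ⟨A.comm_mem_V hg h1, hC _ h1⟩
  have h3 : g * q * g⁻¹ * q⁻¹ ∈ (⊥ : Subgroup Γ) := by
    refine A.step_vert w.left (fun h _ => Subgroup.map_bot _) hg hcop hq ?_
    rw [Subgroup.mem_bot, h2.2 g hg, mul_inv_cancel_right, mul_inv_cancel]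
  exact eq_of_commutator (Subgroup.mem_bot.1 h3)

/-- The subgroup of `Q` fixed by all elements of order prime to `p`. -/
theorem stuck_fixed : ∃ F : Subgroup Γ, F ≤ vert Q a ∧ (∀ h ∈ vert X a, cj h F = F) ∧
    (∀ m ∈ F, ∀ g ∈ vert X a, (orderOf g).Coprime p → g * m = m * g) ∧
    ∀ q ∈ vert Q a, ∀ q' ∈ vert Q a, q * q' * q⁻¹ * q'⁻¹ ∈ F := by
  let F : Subgroup Γ :=
    { carrier := {m | m ∈ vert Q a ∧ ∀ g ∈ vert X a, (orderOf g).Coprime p → g * m = m * g}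
      one_mem' := ⟨one_mem _, fun g _ _ => by simp⟩
      mul_mem' := fun {m m'} hm hm' => ⟨mul_mem hm.1 hm'.1, fun g hg hc =>
        (Commute.mul_right (show Commute g m from hm.2 g hg hc) (hm'.2 g hg hc))⟩
      inv_mem' := fun {m} hm => ⟨inv_mem hm.1, fun g hg hc =>
        (show Commute g m from hm.2 g hg hc).inv_right⟩ }
  have hle : ∀ h ∈ vert X a, cj h F ≤ F := by
    rintro h hh _ ⟨m, hm, rfl⟩
    refine ⟨(A.norm_vertQ hh).le (conj_mem_cj hm.1), fun g hg hc => ?_⟩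
    have h1 := hm.2 (h⁻¹ * g * h) (mul_mem (mul_mem (inv_mem hh) hg) hh) (by rwa [orderOf_cj])
    show g * (h * m * h⁻¹) = h * m * h⁻¹ * g
    calc g * (h * m * h⁻¹) = h * (h⁻¹ * g * h * m) * h⁻¹ := by group
      _ = _ := by rw [h1]; group
  refine ⟨F, fun m hm => hm.1, fun h hh => le_antisymm (hle h hh) fun m hm => ?_, fun m hm => hm.2,
    fun q hq q' hq' => ⟨mul_mem (mul_mem (mul_mem hq hq') (inv_mem hq)) (inv_mem hq'), fun g hg hc => ?_⟩⟩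
  · have := hle h⁻¹ (inv_mem hh) (conj_mem_cj (x := h⁻¹) hm)
    rw [mem_cj]
    simpa using this
  · obtain ⟨v, hv⟩ : ∃ v, v = g * q * g⁻¹ * q⁻¹ := ⟨_, rfl⟩
    obtain ⟨v', hv'⟩ : ∃ v', v' = g * q' * g⁻¹ * q'⁻¹ := ⟨_, rfl⟩
    have hvV : v ∈ vert V a := hv ▸ A.stuck_triv hb w hs hg hc hq
    have hvV' : v' ∈ vert V a := hv' ▸ A.stuck_triv hb w hs hg hc hq'
    have e1 : g * q * g⁻¹ = v * q := by rw [hv]; group
    have e2 : g * q' * g⁻¹ = v' * q' := by rw [hv']; group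
    have c1 : Commute q v' := A.QV_vert hq hvV'
    have c2 : Commute q' v := A.QV_vert hq' hvV
    have c3 : Commute v v' := A.V_comm hvV hvV'
    apply mul_inv_eq_iff_eq_mul.1
    calc g * (q * q' * q⁻¹ * q'⁻¹) * g⁻¹
        = (g * q * g⁻¹) * (g * q' * g⁻¹) * (g * q * g⁻¹)⁻¹ * (g * q' * g⁻¹)⁻¹ := by group
      _ = v * (q * v') * q' * q⁻¹ * v⁻¹ * q'⁻¹ * v'⁻¹ := by rw [e1, e2]; group
      _ = v * v' * q * q' * (q⁻¹ * v⁻¹) * q'⁻¹ * v'⁻¹ := by rw [c1.eq]; group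
      _ = v * v' * q * (q' * v⁻¹) * q⁻¹ * q'⁻¹ * v'⁻¹ := by
          rw [(A.QV_vert (inv_mem hq) (inv_mem hvV) : q⁻¹ * v⁻¹ = v⁻¹ * q⁻¹)]; group
      _ = v * v' * (q * v⁻¹) * q' * q⁻¹ * q'⁻¹ * v'⁻¹ := by rw [c2.inv_right.eq]; group
      _ = v * v' * v⁻¹ * ((q * q' * q⁻¹ * q'⁻¹) * v'⁻¹) := by
          rw [(A.QV_vert hq (inv_mem hvV) : q * v⁻¹ = v⁻¹ * q)]; group
      _ = v * v' * v⁻¹ * v'⁻¹ * (q * q' * q⁻¹ * q'⁻¹) := by
          rw [A.QV_vert (mul_mem (mul_mem (mul_mem hq hq') (inv_mem hq)) (inv_mem hq')) (inv_mem hvV')]; group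
      _ = _ := by rw [commutator_of_eq c3.eq, one_mul]

end Two

end Geo2

end CfsgLib.PushingUpFamily
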