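/-
At critical distance two a window with opposite edges at its middle has no endpoint of stuck type.
-/
import Cfsg.Agent.Lib.PushingUpFamily.NearStuck

set_option autoImplicit false
set_option linter.unusedSectionVars false
set_option linter.style.haveILetI false

open scoped Pointwise commutatorElement

namespace CfsgLib.PushingUpFamily

open CfsgLib.LocalEven.PushingUpClosure CfsgLib.PushingUpRankOne

variable {Γ : Type*} [Group Γ] [Finite Γ] {I : Type*}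

local notation "ℭ" X:max => Subgroup.centralizer (SetLike.coe X)

theorem cj_iSup {J : Sort*} (g : Γ) (H : J → Subgroup Γ) : cj g (⨆ j, H j) = ⨆ j, cj g (H j) :=
  Subgroup.map_iSup _ _

namespace Geo2

variable {p : ℕ} [Fact p.Prime] {S : Subgroup Γ} {X Q V : I → Subgroup Γ} {n : I → ℕ} (A : Geo2 p S X Q V n)
include A

theorem edgeW_pow {e x : Γ} (hx : x ∈ cj e (edgeW S V)) : x ^ p = 1 := by
  let D : Subgroup Γ :=
    { carrier := {x | x ∈ cj e (edgeW S V) ∧ x ^ p = 1}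
      one_mem' := ⟨one_mem _, one_pow _⟩
      mul_mem' := fun {a c} ha hc => ⟨mul_mem ha.1 hc.1, by
        rw [(show Commute a c from A.edgeW_abelian ha.1 hc.1).mul_pow, ha.2, hc.2, one_mul]⟩
      inv_mem' := fun {a} ha => ⟨inv_mem ha.1, by rw [inv_pow, ha.2, inv_one]⟩ }
  have hle : cj e (edgeW S V) ≤ D := edgeW_le_iff.2 fun h hh i v hv =>
    ⟨edgeW_member hh i hv, A.V_pow_vert hv⟩
  exact (hle hx).2

section Opposite

variable (hb : Critical S X V 2) {a x z : Γ × I} {e f : Γ} (w : Win S X V 2 a e x x f z)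
  (hs : Stuck S X V a.2) (hop : Opp S X x e f)
include hb w hs hop

/-- With opposite edges the module and `Q` of the middle commute into the fixed points. -/
theorem opp_comm {u q : Γ} (hu : u ∈ vert V a) (hq : q ∈ vert Q x) :
    u * q * u⁻¹ * q⁻¹ ∈ ℭ (vert X x) ∧ u * q * u⁻¹ * q⁻¹ ∈ cj e (S ⊓ ℭ S) := by
  have hqS := A.Q_le_edge w.left' hq
  obtain ⟨h1, h2⟩ := A.comm_both w.left hu hqS
  refine ⟨A.good_inf hop h2 (A.win_cent hb w.swap (u := u * q * u⁻¹ * q⁻¹) ?_ fun t ht => A.V_comm ht h1), h2⟩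
  rw [show u * q * u⁻¹ * q⁻¹ = (q * u * q⁻¹ * u⁻¹)⁻¹ by group]
  exact inv_mem (A.win_move hb w.swap hqS hu).1.1

theorem opp_comm_tr {g : Γ} (hg : g ∈ vert X x) {u q : Γ} (hu : u ∈ vert V (tr g a)) (hq : q ∈ vert Q x) :
    u * q * u⁻¹ * q⁻¹ ∈ ℭ (vert X x) := by
  rw [vert_tr] at hu
  have hq' : g⁻¹ * q * g ∈ vert Q x := by
    have := (A.norm_vertQ (inv_mem hg)).le (conj_mem_cj (x := g⁻¹) hq)
    rwa [inv_inv] at this
  have h1 := (A.opp_comm hb w hs hop (mem_cj.1 hu) hq').1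
  have h2 := h1 g hg
  have e1 : u * q * u⁻¹ * q⁻¹ = g⁻¹ * u * g * (g⁻¹ * q * g) * (g⁻¹ * u * g)⁻¹ * (g⁻¹ * q * g)⁻¹ := by
    rw [← mul_inv_eq_iff_eq_mul] at h2
    conv_rhs => rw [← h2]
    group
  rw [e1]; exact h1

/-- A translate at the middle commuting with the endpoint lies in the join of the first edge. -/
theorem opp_translate [Finite I] {g : Γ} (hg : g ∈ vert X x) (hc : Comm V (tr g a) a) :
    vert V (tr g a) ≤ cj e (edgeW S V) := by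
  haveI : Nonempty I := ⟨x.2⟩
  intro u hu
  have hy : Mem0 S X (g * e) (tr g a) := w.left.tr g
  have hyx : Mem0 S X (g * e) x := (w.left'.tr g).same (same_tr hg)
  have huQx : u ∈ vert Q x := (A.near hb (k := 1) (by omega) (dist_one hyx.mem hy.mem)).2 hu
  have huQ : u ∈ vert Q a :=
    A.edge_cent_le w.left ⟨A.Q_le_edge w.left' huQx, fun t ht => (hc u hu t ht).symm⟩
  have hfix : ∀ r, r ∈ ℭ (vert X x) → r ∈ ℭ (vert X a) → r ∈ ℭ (vert X (tr g a)) := fun r h1 h2 => by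
    rw [vert_tr, centralizer_cj, mem_cj, show g⁻¹ * r * g = r by rw [mul_assoc, ← h1 g hg, inv_mul_cancel_left]]
    exact h2
  have hQs : ∀ {q}, q ∈ cj e (edgeW S V) → q ∈ cj e (edgeQ S V) := fun hq => cj_mono e A.edgeW_le_edgeQ hq
  have huQs : u ∈ cj e (edgeQ S V) := A.edgeQ_mem (A.Q_le_edge w.left huQ) fun q hq => by
    have hqx : q ∈ vert Q x := A.edgeQ_le_vert w.left'.mem (hQs hq)
    exact (eq_of_commutator (A.fixed_triv hy hu (A.Q_le_edge hyx hqx) (hfix _ (A.opp_comm_tr hb w hs hop hg hu hqx)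
      (A.stuck_WQ hb w hs huQ hq).1))).symm
  rw [← A.edge_cent_Q e]
  refine ⟨A.Q_le_edge w.left huQ, fun q hq => ?_⟩
  have hqx : q ∈ vert Q x := A.edgeQ_le_vert w.left'.mem hq
  have hrC := A.opp_comm_tr hb w hs hop hg hu hqx
  have hrZ : u * q * u⁻¹ * q⁻¹ ∈ cj e (S ⊓ ℭ S) :=
    A.C_le_edge w.left' (A.Z_le_vert hyx (A.comm_both hy hu (A.Q_le_edge hyx hqx)).2) hrC
  obtain ⟨e', hm, hop', l, hl, rfl⟩ := A.exists_opp w.left
  have hL : vert V z ≤ vert X a := (A.win_le hb w).1.trans (A.S_le_vert w.left)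
  refine (eq_of_commutator (A.fixed_triv hy hu (A.Q_le_edge hyx hqx) (hfix _ hrC
    (A.orbit hb w hl hop' hrZ fun h hh t ht => ?_)))).symm
  have hhX : h ∈ vert X a := sup_le hL ((cj_mono l hL).trans (A.norm_vertX hl).le) hh
  have hω := gen_move (R := cj e (edgeW S V)) (u := u) hl (fun h' hh' => (A.stuck_norm hb w hs hh').1) hL rfl
    (fun t ht => (A.stuck_QsV hb w hs huQs ht).2)
    (fun t ht => (A.stuck_QsV hb w hs (by
      have := (A.stuck_norm hb w hs (inv_mem hl)).2.le (conj_mem_cj (x := l⁻¹) huQs)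
      rwa [inv_inv] at this) ht).2) h hh
  obtain ⟨ω, hωd⟩ : ∃ ω, ω = h * u * h⁻¹ * u⁻¹ := ⟨_, rfl⟩
  rw [← hωd] at hω
  obtain ⟨q', hq'⟩ : ∃ q', q' = h * q * h⁻¹ := ⟨_, rfl⟩
  have hq'Q : q' ∈ cj e (edgeQ S V) := hq' ▸ (A.stuck_norm hb w hs hhX).2.le (conj_mem_cj hq)
  have hq'x : q' ∈ vert Q x := A.edgeQ_le_vert w.left'.mem hq'Q
  have h1 : u * q' * u⁻¹ * q'⁻¹ ∈ vert V x :=
    A.Z_le_vert hyx (A.comm_both hy hu (A.Q_le_edge hyx hq'x)).2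
  have e1 : h * u * h⁻¹ = ω * u := by rw [hωd]; group
  have e2 : h * (u * q * u⁻¹ * q⁻¹) * h⁻¹ = u * q' * u⁻¹ * q'⁻¹ := by
    calc h * (u * q * u⁻¹ * q⁻¹) * h⁻¹ = (h * u * h⁻¹) * q' * (h * u * h⁻¹)⁻¹ * q'⁻¹ := by rw [hq']; group
      _ = ω * (u * q' * u⁻¹ * q'⁻¹) * (q' * ω⁻¹ * q'⁻¹) := by rw [e1]; group
      _ = ω * (u * q' * u⁻¹ * q'⁻¹) * ω⁻¹ := by
          rw [← A.edgeQ_comm hq'Q (inv_mem hω), mul_inv_cancel_right]
      _ = _ := by rw [A.edgeW_abelian hω (A.vert_le_W w.left'.mem h1), mul_inv_cancel_right]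
  rw [e2]
  exact ((A.two_near hb w).2.2 _ h1 t ht).symm

end Opposite

section Core

variable [Finite I] (hb : Critical S X V 2) {a x : Γ × I} {e k : Γ}
  (w : Win S X V 2 a e x x (k * e) (tr k a)) (hs : Stuck S X V a.2) (hop : Opp S X x e (k * e))
  (hk : k ∈ vert X x)
include hb w hs hop hk

/-- The value at a translate of the diagonal, when it is a fixed point of the endpoint. -/
theorem core_triv {a0 v : Γ} (ha : a0 ∈ vert Q a) (hv : v ∈ vert V (tr k a))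
    (hC : a0 * v * a0⁻¹ * v * (a0 * v * a0⁻¹)⁻¹ * v⁻¹ ∈ ℭ (vert X x) →
      a0 * v * a0⁻¹ * v * (a0 * v * a0⁻¹)⁻¹ * v⁻¹ ∈ cj e (S ⊓ ℭ S) →
      a0 * v * a0⁻¹ * v * (a0 * v * a0⁻¹)⁻¹ * v⁻¹ ∈ vert V x →
      a0 * v * a0⁻¹ * v * (a0 * v * a0⁻¹)⁻¹ * v⁻¹ ∈ ℭ (vert X a)) :
    a0 * v * a0⁻¹ * v = v * (a0 * v * a0⁻¹) := by
  obtain ⟨δ, hδd⟩ : ∃ δ, δ = a0 * v * a0⁻¹ * v⁻¹ := ⟨_, rfl⟩
  have hδ : δ ∈ cj e (edgeQ S V) := by
    have := inv_mem (A.stuck_QV hb w hs ha hv)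
    rw [hδd]
    convert this using 1
    group
  have hδx : δ ∈ vert Q x := A.edgeQ_le_vert w.left'.mem hδ
  have e1 : a0 * v * a0⁻¹ * v * (a0 * v * a0⁻¹)⁻¹ * v⁻¹ = δ * v * δ⁻¹ * v⁻¹ := by rw [hδd]; group
  have hrC : a0 * v * a0⁻¹ * v * (a0 * v * a0⁻¹)⁻¹ * v⁻¹ ∈ ℭ (vert X x) := by
    have hax : a0 ∈ vert X x := A.S_le_vert w.left' (A.Q_le_edge w.left ha)
    refine A.opp_comm_tr hb w hs hop (g := a0 * k) (mul_mem hax hk) ?_ ((A.two_near hb w).1 hv)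
    rw [vert_tr, cj_mul, ← vert_tr V k a]
    exact conj_mem_cj hv
  rw [e1] at hrC hC
  obtain ⟨-, hrZf⟩ := A.comm_both w.right hv (A.Q_le_edge w.right' hδx)
  have hrV : δ * v * δ⁻¹ * v⁻¹ ∈ vert V x := by
    have := inv_mem (A.Z_le_vert w.right' hrZf)
    convert this using 1
    group
  have hrZ := A.C_le_edge w.left' hrV hrC
  have hrz : δ * v * δ⁻¹ * v⁻¹ ∈ ℭ (vert X (tr k a)) := by
    rw [vert_tr, centralizer_cj, mem_cj,
      show k⁻¹ * (δ * v * δ⁻¹ * v⁻¹) * k = δ * v * δ⁻¹ * v⁻¹ by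
        rw [mul_assoc k⁻¹, ← hrC k hk, inv_mul_cancel_left]]
    exact hC hrC hrZ hrV
  have h2 := A.fixed_triv w.right hv (A.Q_le_edge w.right' hδx) (by
    rw [show v * δ * v⁻¹ * δ⁻¹ = (δ * v * δ⁻¹ * v⁻¹)⁻¹ by group]
    exact Subgroup.inv_mem _ hrz)
  apply eq_of_commutator
  rw [e1, show δ * v * δ⁻¹ * v⁻¹ = (v * δ * v⁻¹ * δ⁻¹)⁻¹ by group, h2, inv_one]

theorem core_two (hp : p = 2) {a0 v : Γ} (ha : a0 ∈ vert Q a) (hv : v ∈ vert V (tr k a)) :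
    a0 * v * a0⁻¹ * v = v * (a0 * v * a0⁻¹) := by
  haveI : Nonempty I := ⟨x.2⟩
  refine A.core_triv hb w hs hop hk ha hv fun _ hrZ hrV => ?_
  obtain ⟨δ, hδd⟩ : ∃ δ, δ = a0 * v * a0⁻¹ * v⁻¹ := ⟨_, rfl⟩
  have hδ : δ ∈ cj e (edgeQ S V) := by
    have := inv_mem (A.stuck_QV hb w hs ha hv)
    rw [hδd]
    convert this using 1
    group
  have hvv : v * v = 1 := by rw [← sq, ← hp]; exact A.V_pow_vert hv
  have hvi : v⁻¹ = v := inv_eq_of_mul_eq_one_right hvv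
  have hr : a0 * v * a0⁻¹ * v * (a0 * v * a0⁻¹)⁻¹ * v⁻¹ = δ * δ := by
    rw [hδd]
    calc a0 * v * a0⁻¹ * v * (a0 * v * a0⁻¹)⁻¹ * v⁻¹ = a0 * v * a0⁻¹ * v * (a0 * v⁻¹ * a0⁻¹) * v⁻¹ := by group
      _ = _ := by rw [hvi]; group
  rw [hr] at hrZ hrV ⊢
  obtain ⟨e', hm, hop', l, hl, rfl⟩ := A.exists_opp w.left
  refine A.orbit hb w hl hop' hrZ fun h hh t ht => ?_
  have hL : vert V (tr k a) ≤ vert X a := (A.win_le hb w).1.trans (A.S_le_vert w.left)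
  have hω := gen_move (R := cj e (edgeW S V)) (u := δ) hl (fun h' hh' => (A.stuck_norm hb w hs hh').1) hL rfl
    (fun t ht => (A.stuck_QsV hb w hs hδ ht).2)
    (fun t ht => (A.stuck_QsV hb w hs (by
      have := (A.stuck_norm hb w hs (inv_mem hl)).2.le (conj_mem_cj (x := l⁻¹) hδ)
      rwa [inv_inv] at this) ht).2) h hh
  obtain ⟨ω, hωd⟩ : ∃ ω, ω = h * δ * h⁻¹ * δ⁻¹ := ⟨_, rfl⟩
  rw [← hωd] at hω
  have hω2 : ω * ω = 1 := by rw [← sq, ← hp]; exact A.edgeW_pow hω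
  have e2 : h * (δ * δ) * h⁻¹ = δ * δ := by
    calc h * (δ * δ) * h⁻¹ = (h * δ * h⁻¹) * (h * δ * h⁻¹) := by group
      _ = (ω * δ) * (ω * δ) := by rw [show h * δ * h⁻¹ = ω * δ by rw [hωd]; group]
      _ = ω * (δ * ω) * δ := by group
      _ = ω * (ω * δ) * δ := by rw [← A.edgeQ_comm hδ hω]
      _ = _ := by rw [← mul_assoc ω ω, hω2, one_mul]
  rw [e2]
  exact ((A.two_near hb w).2.2 _ hrV t ht).symm

theorem core_odd (hp : p ≠ 2) {τ : Γ} (hτ : τ ∈ vert X a) (hcop : (orderOf τ).Coprime p) (h2 : τ * τ = 1)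
    (hneg : ∀ u ∈ vert V a, τ * u * τ⁻¹ * u ∈ ℭ (vert X a))
    (hS : ∀ s ∈ cj e S, τ * s * τ⁻¹ * s⁻¹ ∈ vert Q a) {a0 v : Γ} (ha : a0 ∈ vert Q a)
    (hat : τ * a0 * τ⁻¹ = a0) (hv : v ∈ vert V (tr k a)) :
    a0 * v * a0⁻¹ * v = v * (a0 * v * a0⁻¹) := by
  haveI : Nonempty I := ⟨x.2⟩
  refine A.core_triv hb w hs hop hk ha hv fun _ hrZ _ => ?_
  obtain ⟨F, hFQ, hFn, hFf, hFc⟩ := A.stuck_fixed hb w hs
  obtain ⟨δ, hδd⟩ : ∃ δ, δ = a0 * v * a0⁻¹ * v⁻¹ := ⟨_, rfl⟩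
  obtain ⟨r, hrd⟩ : ∃ r, r = δ * v * δ⁻¹ * v⁻¹ := ⟨_, rfl⟩
  have er : a0 * v * a0⁻¹ * v * (a0 * v * a0⁻¹)⁻¹ * v⁻¹ = r := by rw [hrd, hδd]; group
  rw [er] at hrZ ⊢
  have hvS : v ∈ cj e S := (A.win_le hb w).1 hv
  have hvX := A.S_le_vert w.left hvS
  have hδQ : δ ∈ vert Q a := A.edgeQ_le_vert w.left.mem (by
    have := inv_mem (A.stuck_QV hb w hs ha hv)
    rw [hδd]
    convert this using 1
    group)
  have hrV : r ∈ vert V a := A.Z_le_vert w.left hrZ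
  obtain ⟨q, hqd⟩ : ∃ q, q = τ * v * τ⁻¹ * v⁻¹ := ⟨_, rfl⟩
  have hq : q ∈ vert Q a := hqd ▸ hS v hvS
  have e1 : τ * v * τ⁻¹ = q * v := by rw [hqd]; group
  obtain ⟨φ, hφd⟩ : ∃ φ, φ = (a0 * q * a0⁻¹ * q⁻¹) * (q * δ * q⁻¹ * δ⁻¹) := ⟨_, rfl⟩
  have hφ : φ ∈ F := hφd ▸ mul_mem (hFc a0 ha q hq) (hFc q hq δ hδQ)
  have e2 : τ * δ * τ⁻¹ = φ * δ := by
    calc τ * δ * τ⁻¹ = (τ * a0 * τ⁻¹) * (τ * v * τ⁻¹) * (τ * a0 * τ⁻¹)⁻¹ * (τ * v * τ⁻¹)⁻¹ := by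
          rw [hδd]; group
      _ = _ := by rw [hat, e1, hφd, hδd]; group
  obtain ⟨ψ, hψd⟩ : ∃ ψ, ψ = q * (v * φ⁻¹ * v⁻¹) * q⁻¹ := ⟨_, rfl⟩
  have hψ : ψ ∈ F := hψd ▸ (hFn q (A.vertQ_le_X a hq)).le (conj_mem_cj ((hFn v hvX).le (conj_mem_cj (inv_mem hφ))))
  obtain ⟨f1, hf1d⟩ : ∃ f1, f1 = φ * (δ * q * δ⁻¹ * q⁻¹) * (r * ψ * r⁻¹) := ⟨_, rfl⟩
  have hf1 : f1 ∈ F := hf1d ▸ mul_mem (mul_mem hφ (hFc δ hδQ q hq))
    ((hFn r (A.vertV_le_X a hrV)).le (conj_mem_cj hψ))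
  have e3 : τ * r * τ⁻¹ = f1 * r := by
    calc τ * r * τ⁻¹ = (τ * δ * τ⁻¹) * (τ * v * τ⁻¹) * (τ * δ * τ⁻¹)⁻¹ * (τ * v * τ⁻¹)⁻¹ := by rw [hrd]; group
      _ = φ * (δ * q * δ⁻¹ * q⁻¹) * (q * r) * (v * φ⁻¹ * v⁻¹) * q⁻¹ := by rw [e1, e2, hrd]; group
      _ = φ * (δ * q * δ⁻¹ * q⁻¹) * (r * q) * (v * φ⁻¹ * v⁻¹) * q⁻¹ := by rw [A.QV_vert hq hrV]
      _ = _ := by rw [hf1d, hψd]; group
  have hτf : τ * f1 * τ⁻¹ = f1 := by rw [hFf f1 hf1 τ hτ hcop, mul_inv_cancel_right]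
  have hτi : τ⁻¹ = τ := inv_eq_of_mul_eq_one_right h2
  have hsq : f1 * f1 = 1 := by
    have h3 : f1 * f1 * r = r := by
      calc f1 * f1 * r = f1 * (f1 * r) := mul_assoc _ _ _
        _ = τ * f1 * τ⁻¹ * (τ * r * τ⁻¹) := by rw [hτf, e3]
        _ = τ * (f1 * r) * τ⁻¹ := by group
        _ = τ * (τ * r * τ⁻¹) * τ⁻¹ := by rw [e3]
        _ = τ * τ * r * (τ * τ)⁻¹ := by group
        _ = r := by rw [h2]; group
    exact mul_right_cancel (h3.trans (one_mul r).symm)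
  have hodd : Nat.Coprime 2 p := (Nat.coprime_primes Nat.prime_two (Fact.out : p.Prime)).2 (Ne.symm hp)
  have hf11 : f1 = 1 := by
    obtain ⟨j, hj⟩ := A.pgroup_Q a (hFQ hf1) ⟨f1, Subgroup.mem_zpowers f1⟩
    have hj' : f1 ^ p ^ j = 1 := congrArg Subtype.val hj
    have h4 := pow_gcd_eq_one.2 (⟨by rw [sq, hsq], hj'⟩ : f1 ^ 2 = 1 ∧ f1 ^ p ^ j = 1)
    rwa [Nat.Coprime.pow_right j hodd, pow_one] at h4
  have h5 : r * r ∈ ℭ (vert X a) := by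
    have := hneg r hrV
    rwa [e3, hf11, one_mul] at this
  obtain ⟨m, hm⟩ : ∃ m, p = 2 * m + 1 := (Fact.out : p.Prime).odd_of_ne_two hp
  have h6 : r = (r * r) ^ (m + 1) := by
    rw [← sq, ← pow_mul, show 2 * (m + 1) = p + 1 by omega, pow_succ, A.V_pow_vert hrV, one_mul]
  rw [h6]
  exact Subgroup.pow_mem _ h5 _

theorem core_comm {a0 u : Γ} (ha : a0 ∈ vert Q a) (hu : u ∈ vert V (tr k a)) :
    ∀ t ∈ vert V (tr k a), a0 * u * a0⁻¹ * t = t * (a0 * u * a0⁻¹) := by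
  have conv : ∀ b0 ∈ vert Q a, b0 * u * b0⁻¹ * u = u * (b0 * u * b0⁻¹) →
      ∀ t ∈ vert V (tr k a), b0 * u * b0⁻¹ * t = t * (b0 * u * b0⁻¹) := by
    intro b0 hb0 hc t ht
    have hx : b0 ∈ vert X x := A.S_le_vert w.left' (A.Q_le_edge w.left hb0)
    have hu' : b0 * u * b0⁻¹ ∈ vert Q x :=
      (A.norm_vertQ hx).le (conj_mem_cj ((A.two_near hb w).1 hu))
    refine A.QV_vert ?_ ht
    by_contra hQ
    have h1 := A.fixed_edge w.right (A.Q_le_edge w.right' hu') hQ hu hc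
    have h2 : b0 * u * b0⁻¹ ∈ vert V x := A.conj_V hx (A.Z_le_vert w.right' h1)
    exact hQ (A.edge_cent_le w.right ⟨A.Q_le_edge w.right' hu',
      fun t' ht' => ((A.two_near hb w).2.2 _ h2 t' ht').symm⟩)
  by_cases hp : p = 2
  · exact conv a0 ha (A.core_two hb w hs hop hk hp ha hu)
  obtain ⟨τ, hτ, hcop, h2, hneg, hS⟩ := A.tau_vert w.left hp fun g hg hc hC q hq =>
    A.stuck_ker hb w hs hg hc hC hq
  obtain ⟨ω, hωd⟩ : ∃ ω, ω = τ * a0 * τ⁻¹ * a0⁻¹ := ⟨_, rfl⟩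
  have hω : ω ∈ vert V a := hωd ▸ A.stuck_triv hb w hs hτ hcop ha
  have hωi : τ * ω * τ⁻¹ = ω⁻¹ := by
    calc τ * ω * τ⁻¹ = (τ * τ) * a0 * τ⁻¹ * (a0⁻¹ * τ⁻¹) := by rw [hωd]; group
      _ = a0 * τ * a0⁻¹ * τ⁻¹ := by rw [h2, one_mul, inv_eq_of_mul_eq_one_right h2]; group
      _ = _ := by rw [hωd]; group
  obtain ⟨m, hm⟩ : ∃ m, p = 2 * m + 1 := (Fact.out : p.Prime).odd_of_ne_two hp
  obtain ⟨μ, hμd⟩ : ∃ μ, μ = ω ^ (m + 1) := ⟨_, rfl⟩
  have hμ : μ ∈ vert V a := hμd ▸ pow_mem hω _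
  have hμi : τ * μ * τ⁻¹ = μ⁻¹ := by
    have := congrArg (· ^ (m + 1)) hωi
    simp only [conj_pow, inv_pow] at this
    rwa [← hμd] at this
  have hμ2 : μ * μ = ω := by
    rw [hμd, ← pow_add, show m + 1 + (m + 1) = p + 1 by omega, pow_succ, A.V_pow_vert hω, one_mul]
  have ha1 : μ * a0 ∈ vert Q a := mul_mem (A.vertV_le a hμ) ha
  have hfix : τ * (μ * a0) * τ⁻¹ = μ * a0 := by
    calc τ * (μ * a0) * τ⁻¹ = (τ * μ * τ⁻¹) * (τ * a0 * τ⁻¹) := by group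
      _ = μ⁻¹ * (ω * a0) := by rw [hμi, show τ * a0 * τ⁻¹ = ω * a0 by rw [hωd]; group]
      _ = _ := by rw [← hμ2]; group
  have h3 := conv _ ha1 (A.core_odd hb w hs hop hk hp hτ hcop h2 hneg hS ha1 hfix hu)
  intro t ht
  obtain ⟨y, hy⟩ : ∃ y, y = μ * a0 * u * (μ * a0)⁻¹ := ⟨_, rfl⟩
  have hyx : y ∈ vert Q x := by
    rw [hy]
    exact (A.norm_vertQ (A.S_le_vert w.left' (A.Q_le_edge w.left ha1))).le
      (conj_mem_cj ((A.two_near hb w).1 hu))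
  have hz := (A.opp_comm hb w hs hop (inv_mem hμ) hyx).1 t
    (A.S_le_vert w.left' ((A.win_le hb w).1 ht))
  have e1 : a0 * u * a0⁻¹ = (μ⁻¹ * y * μ⁻¹⁻¹ * y⁻¹) * y := by rw [hy]; group
  have hyt : y * t = t * y := by rw [hy]; exact h3 t ht
  rw [e1, mul_assoc, hyt, ← mul_assoc, ← hz, mul_assoc]

theorem core_false : False := by
  haveI : Nonempty I := ⟨x.2⟩
  have hsz : Stuck S X V (tr k a).2 := hs
  have hopz : Opp S X x (k * e) e := Opp.symm hop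
  have hz := A.two_near hb w
  have htr : ∀ s ∈ cj e S, ∀ u ∈ vert V (tr k a), ∀ t ∈ vert V (tr k a),
      s * u * s⁻¹ * t = t * (s * u * s⁻¹) := by
    intro s hs' u hu t ht
    obtain ⟨v, hv, q, hq, rfl⟩ := A.win_mul hb w hs'
    have hq' : v * q * v⁻¹ ∈ vert Q a :=
      (A.norm_vertQ (A.S_le_vert w.left ((A.win_le hb w).1 hv))).le (conj_mem_cj hq)
    have e1 : v * q * u * (v * q)⁻¹ = v * q * v⁻¹ * u * (v * q * v⁻¹)⁻¹ := by
      calc v * q * u * (v * q)⁻¹ = v * q * v⁻¹ * (v * u * v⁻¹) * (v * q * v⁻¹)⁻¹ := by group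
        _ = _ := by rw [A.V_comm hv hu, mul_inv_cancel_right]
    rw [e1]
    exact A.core_comm hb w hs hop hk hq' hu t ht
  have hW : ∀ s ∈ cj e S, vert V (tr s (tr k a)) ≤ cj (k * e) (edgeW S V) := by
    intro s hs'
    have hsX := A.S_le_vert w.left' hs'
    have hc : Comm V (tr (k⁻¹ * s * k) a) a := by
      have h0 : Comm V (tr s (tr k a)) (tr k a) := by
        intro u hu t ht
        rw [vert_tr] at hu
        obtain ⟨u, hu, rfl⟩ := hu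
        exact htr s hs' u hu t ht
      have := comm_tr (d := k⁻¹) h0
      simpa [tr, mul_assoc] using this
    have h1 := cj_mono k (A.opp_translate hb w hs hop (mul_mem (mul_mem (inv_mem hk) hsX) hk) hc)
    rwa [← vert_tr, ← cj_mul, show tr k (tr (k⁻¹ * s * k) a) = tr s (tr k a) by simp [tr, mul_assoc]] at h1
  have hbase : ∀ s ∈ cj (k * e) S, ∀ y ∈ cj (k * e) (edgeW S V), s * y * s⁻¹ * y⁻¹ ∈ vert V x := by
    intro s hs' y hy
    obtain ⟨v, hv, q, hq, rfl⟩ := A.win_mul hb w.swap hs'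
    have hyx : y ∈ vert Q x := A.edgeQ_le_vert w.right'.mem (cj_mono _ A.edgeW_le_edgeQ hy)
    have h1 : v * y * v⁻¹ * y⁻¹ ∈ vert V x := A.Z_le_vert w.left' (A.opp_comm hb w hs hop hv hyx).2
    have h2 : q * y * q⁻¹ * y⁻¹ ∈ vert V x := A.Z_le_vert w.right' (A.stuck_WQ hb w.swap hsz hq hy).2
    rw [show v * q * y * (v * q)⁻¹ * y⁻¹ = (v * (q * y * q⁻¹ * y⁻¹) * v⁻¹) * (v * y * v⁻¹ * y⁻¹) by group]
    exact mul_mem (A.conj_V (A.S_le_vert w.right' ((A.win_le hb w).2 hv)) h2) h1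
  set Y := vert V x ⊔ ⨆ s : ↥(cj e S), vert V (tr (s : Γ) (tr k a))
  have hYW : Y ≤ cj (k * e) (edgeW S V) :=
    sup_le (A.vert_le_W w.right'.mem) (iSup_le fun s => hW s s.2)
  have hYf : cj (k * e) S ≤ Subgroup.normalizer (Y : Set Γ) := fun s hs' => mem_normalizer_of_map_le (by
    rintro _ ⟨y, hy, rfl⟩
    have h1 := mul_mem (Subgroup.mem_sup_left (hbase s hs' y (hYW hy)) : _ ∈ Y) hy
    rwa [inv_mul_cancel_right] at h1)
  have hYe : cj e S ≤ Subgroup.normalizer (Y : Set Γ) := fun s hs' => mem_normalizer_of_map_le (by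
    show cj s Y ≤ Y
    rw [cj_sup, A.norm_vertV (A.S_le_vert w.left' hs'), cj_iSup]
    refine sup_le_sup_left (iSup_le fun s' => ?_) _
    rw [vert_tr V (s' : Γ), ← cj_mul, ← vert_tr V]
    exact le_iSup_of_le (⟨s * (s' : Γ), mul_mem hs' s'.2⟩ : ↥(cj e S)) le_rfl)
  have hYX : vert X x ≤ Subgroup.normalizer (Y : Set Γ) := by
    rw [← (show cj e S ⊔ cj (k * e) S = vert X x from hop)]
    exact sup_le hYe hYf
  let D : Subgroup Γ :=
    { carrier := {g | g ∈ vert X x ∧ ∀ y ∈ Y, g * y * g⁻¹ * y⁻¹ ∈ vert V x}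
      one_mem' := ⟨one_mem _, fun y _ => by simp⟩
      mul_mem' := fun {g g'} hg hg' => ⟨mul_mem hg.1 hg'.1, fun y hy => by
        rw [show g * g' * y * (g * g')⁻¹ * y⁻¹ = (g * (g' * y * g'⁻¹ * y⁻¹) * g⁻¹) * (g * y * g⁻¹ * y⁻¹) by group]
        exact mul_mem (A.conj_V hg.1 (hg'.2 y hy)) (hg.2 y hy)⟩
      inv_mem' := fun {g} hg => ⟨inv_mem hg.1, fun y hy => by
        have h1 := inv_mem (hg.2 _ ((Subgroup.mem_normalizer_iff.1 (inv_mem (hYX hg.1)) y).1 hy))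
        convert h1 using 1
        group⟩ }
  have hDf : ∀ s ∈ cj (k * e) S, s ∈ D := fun s hs' =>
    ⟨A.S_le_vert w.right' hs', fun y hy => hbase s hs' y (hYW hy)⟩
  have hD : vert X x ≤ D := by
    rw [← (show cj e S ⊔ cj (k * e) S = vert X x from hop)]
    refine sup_le (fun s hs' => ⟨A.S_le_vert w.left' hs', fun y hy => ?_⟩) hDf
    have hs'' : k * s * k⁻¹ ∈ cj (k * e) S := by rw [cj_mul]; exact conj_mem_cj hs'
    have h1 := (hDf _ hs'').2 _ ((Subgroup.mem_normalizer_iff.1 (hYX hk) y).1 hy)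
    have h2 := A.conj_V (inv_mem hk) h1
    convert h2 using 1
    group
  apply w.ne
  intro u hu t ht
  have hy : k * u * k⁻¹ ∈ vert V (tr k a) := by rw [vert_tr]; exact conj_mem_cj hu
  have hyY : k * u * k⁻¹ ∈ Y := Subgroup.mem_sup_right
    (Subgroup.mem_iSup_of_mem (1 : ↥(cj e S)) (by rw [OneMemClass.coe_one, vert_tr, cj_one]; exact hy))
  have h1 := (hD (inv_mem hk)).2 _ hyY
  obtain ⟨r, hr⟩ : ∃ r, r = k⁻¹ * (k * u * k⁻¹) * k⁻¹⁻¹ * (k * u * k⁻¹)⁻¹ := ⟨_, rfl⟩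
  rw [← hr] at h1
  rw [show u = r * (k * u * k⁻¹) by rw [hr]; group]
  exact (show Commute r t from hz.2.2 r h1 t ht).mul_left (A.V_comm hy ht)

end Core

/-- A window with opposite edges at the middle has no stuck endpoint. -/
theorem opp_not_stuck [Finite I] (hb : Critical S X V 2) {a x z : Γ × I} {e f : Γ}
    (w : Win S X V 2 a e x x f z) (hop : Opp S X x e f) : ¬ Stuck S X V a.2 := by
  intro hs
  obtain ⟨k, hk, hke⟩ := exists_map w.right' w.left'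
  by_cases hc : Comm V (tr k a) a
  · obtain ⟨u, hu, t, ht, hne, hC⟩ := A.win_fixed hb w
    have h1 : k * u * k⁻¹ ∈ cj e (edgeW S V) :=
      A.opp_translate hb w hs hop hk hc (by rw [vert_tr]; exact conj_mem_cj hu)
    have hkz : Mem S X V e (tr k z) :=
      Mem.of_rename (e := k * f) (e' := e) (by
        have := inv_mem hke
        rw [_root_.mul_inv_rev, inv_inv] at this
        exact Subgroup.mem_sup_left this) (w.right.tr k).mem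
    have h2 : k * t * k⁻¹ ∈ cj e (edgeW S V) := A.vert_le_W hkz (by rw [vert_tr]; exact conj_mem_cj ht)
    have h3 := commutator_of_eq (A.edgeW_abelian h1 h2)
    rw [show k * u * k⁻¹ * (k * t * k⁻¹) * (k * u * k⁻¹)⁻¹ * (k * t * k⁻¹)⁻¹ = k * (u * t * u⁻¹ * t⁻¹) * k⁻¹
      by group, hC k hk, mul_inv_cancel_right] at h3
    exact hne h3
  · have hop' : Opp S X x e (k * e) := by
      have h1 := congrArg (cj k) (show cj e S ⊔ cj f S = vert X x from hop)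
      rw [cj_sup, A.norm_vertX hk, ← cj_mul, ← cj_mul] at h1
      have h2 : cj (k * f) S = cj e S := by
        rw [← mul_inv_cancel_left e (k * f), cj_mul, A.cj_S hke]
      rw [h2] at h1
      exact (sup_comm _ _).trans h1
    exact A.core_false hb (a := a) (x := x) (e := e) (k := k)
      ⟨fun h => hc h.symm, w.left, w.left', Same.refl x, (w.left'.tr k).same (same_tr hk), w.left.tr k⟩
      hs hop' hk

end Geo2

end CfsgLib.PushingUpFamily
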