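/-
At critical distance two no endpoint of a window is stuck, and windows slide.
-/
import Cfsg.Agent.Lib.PushingUpFamily.NearOpp
import Cfsg.Agent.Lib.PushingUpFamily.Far

set_option autoImplicit false
set_option linter.unusedSectionVars false
set_option linter.style.haveILetI false

open scoped Pointwise commutatorElement

namespace CfsgLib.PushingUpFamily

open CfsgLib.LocalEven.PushingUpClosure CfsgLib.PushingUpRankOne

variable {Γ : Type*} [Group Γ] [Finite Γ] {I : Type*}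

local notation "ℭ" X:max => Subgroup.centralizer (SetLike.coe X)

namespace Geo2

variable {p : ℕ} [Fact p.Prime] {S : Subgroup Γ} {X Q V : I → Subgroup Γ} {n : I → ℕ} (A : Geo2 p S X Q V n)
include A

/-- No endpoint of a window is stuck. -/
theorem two_not_stuck [Finite I] (hb : Critical S X V 2) {a x z : Γ × I} {e f : Γ}
    (w : Win S X V 2 a e x x f z) : ¬ Stuck S X V a.2 := by
  intro hs
  haveI : Nonempty I := ⟨x.2⟩
  obtain ⟨e', -, hop, g, hg, rfl⟩ := A.exists_opp w.left'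
  rcases A.dich_vert w.left' w.right' with hd | hd
  · exact A.opp_not_stuck hb w hd hs
  have hopf : Opp S X x e (g * f) := hd g hg hop
  obtain ⟨hzx, hax, -⟩ := A.two_near hb w
  have hgx : Mem0 S X (g * e) x := (w.left'.tr g).same (same_tr hg)
  have hgxf : Mem0 S X (g * f) x := (w.right'.tr g).same (same_tr hg)
  have hga : Mem0 S X (g * e) (tr g a) := w.left.tr g
  have hgz : Mem0 S X (g * f) (tr g z) := w.right.tr g
  have hga' : vert V (tr g a) ≤ vert Q x := (A.near hb (k := 1) (by omega) (dist_one hgx.mem hga.mem)).2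
  have hgz' : vert V (tr g z) ≤ vert Q x := (A.near hb (k := 1) (by omega) (dist_one hgxf.mem hgz.mem)).2
  have hVa : vert V (tr g a) ≤ cj e (edgeQ S V) := A.le_edgeQ' w.left'.mem hga' fun m hm t ht r hr => by
    by_contra hne
    obtain ⟨m', hm', -, hne'⟩ := A.exists_member hb hm (u := tr g a) (fun h => hne (h t ht r hr))
      (show e⁻¹ * e ∈ edgeN S X V by rw [inv_mul_cancel]; exact one_mem _)
    exact A.opp_not_stuck hb (a := tr g a) (x := x) (z := m') (e := g * e) (f := e)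
      ⟨fun h => hne' h.symm, hga, hgx, Same.refl x, w.left', hm'⟩ hop.symm hs
  have hVz : vert V (tr g z) ≤ vert Q a := fun t ht => by
    by_contra hQ
    refine A.opp_not_stuck hb (a := a) (x := x) (z := tr g z) (e := e) (f := g * f)
      ⟨fun h => hQ (A.edge_cent_le w.left ⟨A.Q_le_edge w.left' (hgz' ht), fun u hu => h u hu t ht⟩),
        w.left, w.left', Same.refl x, hgxf, hgz⟩ hopf hs
  obtain ⟨u, hu, t, ht, hne, hC⟩ := A.win_fixed hb w
  set r := u * t * u⁻¹ * t⁻¹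
  have htS : t ∈ cj e S := (A.win_le hb w).1 ht
  obtain ⟨-, hrZ⟩ := A.comm_both w.left hu htS
  have hgr : g * r * g⁻¹ = r := by rw [hC g hg, mul_inv_cancel_right]
  obtain ⟨u', hu'd⟩ : ∃ u', u' = g * u * g⁻¹ := ⟨_, rfl⟩
  obtain ⟨t', ht'd⟩ : ∃ t', t' = g * t * g⁻¹ := ⟨_, rfl⟩
  have hr' : r = u' * t' * u'⁻¹ * t'⁻¹ := by rw [hu'd, ht'd, ← hgr]; simp only [r]; group
  have hu' : u' ∈ vert V (tr g a) := by rw [hu'd, vert_tr]; exact conj_mem_cj hu
  have ht'z : t' ∈ vert V (tr g z) := by rw [ht'd, vert_tr]; exact conj_mem_cj ht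
  obtain ⟨e2, hm, hop', l, hl, rfl⟩ := A.exists_opp w.left
  have hL : vert V z ≤ vert X a := (A.win_le hb w).1.trans (A.S_le_vert w.left)
  refine hne (A.fixed_triv w.left hu htS (A.orbit hb w hl hop' hrZ fun h hh s hs' => ?_))
  have hhX : h ∈ vert X a := sup_le hL ((cj_mono l hL).trans (A.norm_vertX hl).le) hh
  have hQn : ∀ {q}, q ∈ vert Q a → l⁻¹ * q * l ∈ vert Q a := fun hq => by
    have := (A.norm_vertQ (inv_mem hl)).le (conj_mem_cj (x := l⁻¹) hq)
    rwa [inv_inv] at this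
  have hω := gen_move (R := cj e (edgeW S V)) (u := u') hl (fun h' hh' => (A.stuck_norm hb w hs hh').1) hL rfl
    (fun s hs' => (A.stuck_QsV hb w hs (hVa hu') hs').2)
    (fun s hs' => (A.stuck_QsV hb w hs (by
      have := (A.stuck_norm hb w hs (inv_mem hl)).2.le (conj_mem_cj (x := l⁻¹) (hVa hu'))
      rwa [inv_inv] at this) hs').2) h hh
  have hq := gen_move (R := cj e (edgeQ S V)) (u := t') hl (fun h' hh' => (A.stuck_norm hb w hs hh').2) hL rfl
    (fun s hs' => A.stuck_QV hb w hs (hVz ht'z) hs')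
    (fun s hs' => A.stuck_QV hb w hs (hQn (hVz ht'z)) hs') h hh
  obtain ⟨ω, hωd⟩ : ∃ ω, ω = h * u' * h⁻¹ * u'⁻¹ := ⟨_, rfl⟩
  rw [← hωd] at hω
  obtain ⟨t'', ht''d⟩ : ∃ t'', t'' = h * t' * h⁻¹ := ⟨_, rfl⟩
  have ht''x : t'' ∈ vert Q x := by
    have h1 := mul_mem (A.edgeQ_le_vert w.left'.mem hq) (hgz' ht'z)
    rwa [inv_mul_cancel_right, ← ht''d] at h1
  have ht''a : t'' ∈ vert Q a := ht''d ▸ (A.norm_vertQ hhX).le (conj_mem_cj (hVz ht'z))
  obtain ⟨c, hc⟩ : ∃ c, c = u' * t'' * u'⁻¹ * t''⁻¹ := ⟨_, rfl⟩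
  have hcV : c ∈ vert V x := hc ▸ A.Z_le_vert hgx (A.comm_both hga hu' (A.Q_le_edge hgx ht''x)).2
  obtain ⟨ζ, hζd⟩ : ∃ ζ, ζ = t'' * ω * t''⁻¹ * ω⁻¹ := ⟨_, rfl⟩
  have hζ : ζ ∈ ℭ (vert X a) := hζd ▸ (A.stuck_WQ hb w hs ht''a hω).1
  have e1 : h * r * h⁻¹ = c * ζ⁻¹ := by
    calc h * r * h⁻¹ = (h * u' * h⁻¹) * (h * t' * h⁻¹) * (h * u' * h⁻¹)⁻¹ * (h * t' * h⁻¹)⁻¹ := by
          rw [hr']; group
      _ = ω * (u' * t'' * u'⁻¹ * t''⁻¹) * (t'' * ω⁻¹ * t''⁻¹) := by
          rw [← ht''d, show h * u' * h⁻¹ = ω * u' by rw [hωd]; group]; group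
      _ = ω * c * (t'' * ω⁻¹ * t''⁻¹) := by rw [hc]
      _ = c * ω * (t'' * ω⁻¹ * t''⁻¹) := by rw [A.edgeW_abelian hω (A.vert_le_W w.left'.mem hcV)]
      _ = _ := by rw [hζd]; group
  rw [e1]
  exact ((show Commute c s from (A.two_near hb w).2.2 c hcV s hs').mul_left
    (show Commute s ζ⁻¹ from (ℭ (vert X a)).inv_mem hζ s (hL hs')).symm).eq.symm

/-- Windows slide at an endpoint. -/
theorem two_slide [Finite I] (hb : Critical S X V 2) {a x z : Γ × I} {e f : Γ}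
    (w : Win S X V 2 a e x x f z) :
    ∃ e' a', Opp S X a e e' ∧ Win S X V 2 a' e' a a e x := by
  obtain ⟨e', hm, hop, -⟩ := A.exists_opp w.left
  by_cases hall : ∀ h ∈ Subgroup.normalizer (S : Set Γ), ∀ i, Comm V (e' * h, i) x
  · refine absurd (A.edge_stuck hb w hm hop (edgeW_le_iff.2 fun h hh i q hq => ?_)) (A.two_not_stuck hb w)
    refine A.Q_le_edge w.right' (A.edge_cent_le w.left' ⟨A.Q_le_edge w.left ?_, fun t ht =>
      (hall h hh i q hq t ht).symm⟩)
    exact (A.near hb (k := 1) (by omega) (dist_one hm.mem (mem0_member hh i).mem)).2 hq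
  · push Not at hall
    obtain ⟨h, hh, i, hne⟩ := hall
    exact ⟨e', (e' * h, i), hop, hne, mem0_member hh i, hm, Same.refl a, w.left, w.left'⟩

end Geo2

end CfsgLib.PushingUpFamily
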