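/-
The groups behind the vertices, and the data at critical distance two inside them.
-/
import Cfsg.Agent.Lib.PushingUpFamily.NearBad
import Cfsg.Agent.Lib.PushingUpFamily.ModuleBound
import Cfsg.Agent.Lib.PushingUpRankOne.Three

set_option autoImplicit false
set_option linter.unusedSectionVars false
set_option linter.style.haveILetI false

open scoped Pointwise commutatorElement MatrixGroups

namespace CfsgLib.PushingUpFamily

open CfsgLib.LocalEven.PushingUpClosure CfsgLib.PushingUpRankOne CfsgLib.LocalEvenB.PushingUp CfsgLib.LocalEvenB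

variable {Γ : Type*} [Group Γ] [Finite Γ] {I : Type*}

local notation "ℭ" X:max => Subgroup.centralizer (SetLike.coe X)

/-- The group `G'` embedded as the group of a type of vertex. -/
structure Chart (p : ℕ) [Fact p.Prime] (S : Subgroup Γ) (X Q V : I → Subgroup Γ) (n : I → ℕ) (i : I)
    {G : Type*} [Group G] [Finite G] {F : Type*} [Field F] [Fintype F] (S' Q' M' : Subgroup G)
    (φ : G →* PSL2 F) (ι : G →* Γ) : Prop where
  emb : Emb p S' Q' M' (n i) φ ι
  range : ι.range = X i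
  map_S : S'.map ι = S
  map_Q : Q'.map ι = Q i
  map_V : (baseV p S').map ι = V i
  map_Z : (omegaZ p S').map ι = S ⊓ ℭ S

variable {p : ℕ} [Fact p.Prime] {S : Subgroup Γ} {X Q V : I → Subgroup Γ} {n : I → ℕ} {i : I}
  {G : Type*} [Group G] [Finite G] {F : Type*} [Field F] [Fintype F] {S' Q' M' : Subgroup G}
  {φ : G →* PSL2 F} {ι : G →* Γ}

namespace Chart

variable (C : Chart p S X Q V n i S' Q' M' φ ι)
include C

theorem of_map {R : Subgroup G} {u : G} (h : ι u ∈ R.map ι) : u ∈ R := by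
  obtain ⟨v, hv, he⟩ := h
  exact C.emb.inj he ▸ hv

theorem exists_pre {R : Subgroup Γ} (h : R ≤ X i) {v : Γ} (hv : v ∈ R) : ∃ u, u ∈ R.comap ι ∧ ι u = v := by
  obtain ⟨u, hu⟩ : v ∈ ι.range := C.range ▸ h hv
  exact ⟨u, show ι u ∈ R by rw [hu]; exact hv, hu⟩

theorem mem_baseC {c : G} (hc : c ∈ baseV p S') (h : ι c ∈ ℭ (X i)) : c ∈ baseC p S' :=
  ⟨hc, Subgroup.mem_center_iff.2 fun g => C.emb.inj (by
    rw [map_mul, map_mul]
    exact h (ι g) (C.range ▸ ⟨g, rfl⟩))⟩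

theorem baseC_cent {c : G} (hc : c ∈ baseC p S') : ι c ∈ ℭ (X i) := by
  intro x hx
  rw [← C.range] at hx
  obtain ⟨g, rfl⟩ := hx
  rw [← map_mul, ← map_mul, Subgroup.mem_center_iff.1 hc.2 g]

end Chart

namespace Geo2

variable (A : Geo2 p S X Q V n)
include A

/-- The data at critical distance two, for a window seen from the base vertex of its edge. -/
theorem two_data (hb : Critical S X V 2) {u Y : Γ × I} {h0 f : Γ} (hh0 : h0 ∈ Subgroup.normalizer (S : Set Γ))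
    (w : Win S X V 2 ((1 : Γ), i) h0 u u f Y) (C : Chart p S X Q V n i S' Q' M' φ ι) {k : Γ} (hk : k ∈ X i)
    (hgen : S ⊔ cj k S = X i) (hne : ¬ Comm V u (tr k u)) :
    ∃ a, ι a = k ∧ TwoData p (n u.2) S' Q' ((vert V u).comap ι) ((vert V Y).comap ι) a := by
  obtain ⟨a, ha⟩ : k ∈ ι.range := C.range ▸ hk
  refine ⟨a, ha, ?_⟩
  have hQX : Q i ≤ X i := (A.Q_le i).trans (A.S_le i)
  have hU : vert V u ≤ Q i := by
    have h1 := (A.near hb (k := 1) (by omega) (dist_one w.left.mem w.left'.mem)).2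
    rwa [vert_one] at h1
  have hYS : vert V Y ≤ S := (A.win_le hb w).1.trans (A.cj_S hh0).le
  have hku : Mem0 S X (k * h0) (tr k u) := w.left'.tr k
  have hkS : cj (k * h0) S = cj k S := by rw [cj_mul, A.cj_S hh0]
  have hkU : vert V (tr k u) ≤ Q i := by rw [vert_tr]; exact (cj_mono k hU).trans (A.norm_Q i k hk).le
  have hQk : Q i ≤ cj k S := (A.norm_Q i k hk).ge.trans (cj_mono k (A.Q_le i))
  have hkle : vert V (tr k u) ≤ cj h0 S := (hkU.trans (A.Q_le i)).trans (A.cj_S hh0).ge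
  have hule : vert V u ≤ cj (k * h0) S := hkS ▸ hU.trans hQk
  have himg : ∀ v : G, ι v ∈ vert V u → ι (a * v * a⁻¹) ∈ vert V (tr k u) := fun v hv => by
    rw [map_mul, map_mul, map_inv, ha, vert_tr]; exact conj_mem_cj hv
  have hpre : ∀ t ∈ vert V (tr k u), ∃ v : G, ι v ∈ vert V u ∧ ι (a * v * a⁻¹) = t := fun t ht => by
    rw [vert_tr] at ht
    obtain ⟨v₁, hv₁, rfl⟩ := ht
    obtain ⟨v, hv, rfl⟩ := C.exists_pre (hU.trans hQX) hv₁
    exact ⟨v, hv, by rw [map_mul, map_mul, map_inv, ha]; rfl⟩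
  have hnear := A.two_near hb w
  refine ⟨fun v hv => C.of_map (C.map_Q ▸ hU hv), fun s hs => ?_, fun v hv => ?_,
    fun v hv v' hv' => C.emb.inj ?_, fun v hv => C.emb.inj ?_, ?_, ?_, fun v hv hc => ?_, fun v hv hc => ?_,
    fun v hv v' hv' => ?_, ?_, fun q hq => ?_, fun y hy => C.of_map (C.map_S ▸ hYS hy),
    fun y hy => C.emb.inj ?_, fun y hy y' hy' => C.emb.inj ?_, fun s hs => ?_,
    fun y hy v hv => C.emb.inj ?_, fun y hy r hr hc => ?_⟩
  · have hs' : ι s ∈ vert X u :=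
      A.S_le_vert w.left' ((A.cj_S hh0).ge (C.map_S ▸ ⟨s, hs, rfl⟩))
    rw [Subgroup.mem_normalizer_iff]
    intro v
    constructor
    · intro hv
      show ι (s * v * s⁻¹) ∈ vert V u
      rw [map_mul, map_mul, map_inv]
      exact A.conj_V hs' hv
    · intro hv
      have h1 := A.conj_V (inv_mem hs') (show ι (s * v * s⁻¹) ∈ vert V u from hv)
      show ι v ∈ vert V u
      convert h1 using 1
      simp [mul_assoc]
  · show ι v ∈ vert V u
    refine A.Z_le_vert w.left' ?_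
    rw [A.cj_Z hh0, ← C.map_Z]
    exact ⟨v, hv, rfl⟩
  · rw [map_mul, map_mul]; exact A.V_comm hv hv'
  · rw [map_pow, map_one]; exact A.V_pow_vert hv
  · rw [← Subgroup.relIndex_map_map_of_injective _ _ C.emb.inj, C.map_Z,
      Subgroup.map_comap_eq_self ((hU.trans hQX).trans C.range.ge)]
    have h1 := A.relIndex_Z_edge w.left'
    rwa [A.cj_Z hh0] at h1
  · refine Subgroup.map_injective C.emb.inj ?_
    have e : (S'.map (MulAut.conj a).toMonoidHom).map ι = cj k S := by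
      rw [← C.map_S, ← ha]
      show _ = (S'.map ι).map _
      rw [Subgroup.map_map, Subgroup.map_map]
      congr 1
      ext x
      simp
    rw [Subgroup.map_sup, e, C.map_S, ← MonoidHom.range_eq_map, C.range]
    exact hgen
  · refine C.of_map (R := omegaZ p S') (C.map_Z ▸ ?_)
    rw [← A.cj_Z hh0]
    refine A.pair_cent hne w.left' hkle hv fun t ht => ?_
    obtain ⟨v', hv', rfl⟩ := hpre t ht
    rw [← map_mul, ← map_mul, hc v' hv']
  · refine C.of_map (R := omegaZ p S') (C.map_Z ▸ ?_)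
    have h1 := A.pair_cent (fun h => hne h.symm) hku hule (himg v hv) fun t ht => ?_
    · rw [cj_mul, A.cj_Z hh0] at h1
      convert mem_cj.1 h1 using 1
      rw [map_mul, map_mul, map_inv, ha]
      group
    · obtain ⟨u', hu', rfl⟩ := C.exists_pre (hU.trans hQX) ht
      rw [← map_mul, ← map_mul, hc u' hu']
  · have ht := himg v' hv'
    obtain ⟨-, h2⟩ := A.comm_both w.left' (hv : ι v ∈ vert V u) (hkle ht)
    obtain ⟨-, h3⟩ := A.comm_both hku ht (hule (hv : ι v ∈ vert V u))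
    rw [A.cj_Z hh0] at h2
    rw [cj_mul, A.cj_Z hh0] at h3
    have h3' := Subgroup.inv_mem _ h3
    rw [show (ι (a * v' * a⁻¹) * ι v * (ι (a * v' * a⁻¹))⁻¹ * (ι v)⁻¹)⁻¹ =
      ι v * ι (a * v' * a⁻¹) * (ι v)⁻¹ * (ι (a * v' * a⁻¹))⁻¹ by group] at h3'
    have hC := A.fixed_pair i hgen h2 h3'
    have h4 : v * (a * v' * a⁻¹) * v⁻¹ * (a * v' * a⁻¹)⁻¹ ∈ omegaZ p S' := C.of_map (C.map_Z ▸ by
      simpa using h2)
    exact C.mem_baseC (omegaZ_le_baseV h4) (by simpa using hC)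
  · obtain ⟨t, ht, u', hu', hne'⟩ : ∃ t ∈ vert V (tr k u), ∃ u' ∈ vert V u, t * u' ≠ u' * t := by
      simpa [Comm] using fun h => hne (Comm.symm h)
    obtain ⟨v, hv, rfl⟩ := hpre t ht
    obtain ⟨u', hu'', rfl⟩ := C.exists_pre (hU.trans hQX) hu'
    exact ⟨u', hu'', v, hv, fun e => hne' (by rw [← map_mul, ← map_mul, e])⟩
  · obtain ⟨t, ht, r, hr, he⟩ := A.pair_mul (s := ι q) hne w.left' hku hkle hule
      ((A.cj_S hh0).ge (A.Q_le i (C.map_Q ▸ ⟨q, hq, rfl⟩)))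
    obtain ⟨v, hv, rfl⟩ := hpre t ht
    refine ⟨v, hv, (a * v * a⁻¹)⁻¹ * q, mul_mem (inv_mem (C.of_map (C.map_Q ▸ hkU ht))) hq,
      fun u' hu' => C.emb.inj ?_, (mul_inv_cancel_left _ _).symm⟩
    have hd : ι ((a * v * a⁻¹)⁻¹ * q) = r := by rw [map_mul ι, map_inv ι, he, inv_mul_cancel_left]
    rw [map_mul ι u', map_mul ι ((a * v * a⁻¹)⁻¹ * q), hd]
    exact (A.QV_vert hr hu').symm
  · rw [map_pow, map_one]; exact A.V_pow_vert hy
  · rw [map_mul, map_mul]; exact A.V_comm hy hy'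
  · obtain ⟨y, hy, q, hq, he⟩ := A.win_mul hb w (s := ι s) ((A.cj_S hh0).ge (C.map_S ▸ ⟨s, hs, rfl⟩))
    rw [vert_one, ← C.map_Q] at hq
    obtain ⟨q₀, hq₀, rfl⟩ := hq
    obtain ⟨y₀, hy₀, rfl⟩ := C.exists_pre (hYS.trans (A.S_le i)) hy
    exact ⟨y₀, hy₀, q₀, hq₀, C.emb.inj (by rw [map_mul]; exact he)⟩
  · rw [map_mul, map_mul]; exact (hnear.2.2 _ hv _ hy).symm
  · refine C.of_map (R := omegaZ p S') (C.map_Z ▸ ?_)
    have hrS : ι r ∈ cj h0 S := (A.cj_S hh0).ge (A.Q_le i (C.map_Q ▸ ⟨r, hr, rfl⟩))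
    have hru : ι r ∈ vert Q u := A.edge_cent_le w.left' ⟨hrS, fun t ht => by
      obtain ⟨u', hu', rfl⟩ := C.exists_pre (hU.trans hQX) ht
      rw [← map_mul, ← map_mul, hc u' hu']⟩
    obtain ⟨⟨-, h2⟩, h3⟩ := A.win_move hb w (A.Q_le_edge w.right' hru) (t := ι y) hy
    rw [← A.cj_Z hh0]
    have h4 : ι (y * r * y⁻¹ * r⁻¹) = ι y * ι r * (ι y)⁻¹ * (ι r)⁻¹ := by simp
    rw [h4]
    refine A.win_cent hb w h3 fun t ht => ?_
    have h5 := A.Z_edge_comm h2 (A.V_le_edge w.right ht)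
    have h6 : Commute t (ι r * ι y * (ι r)⁻¹ * (ι y)⁻¹)⁻¹ :=
      (show Commute t (ι r * ι y * (ι r)⁻¹ * (ι y)⁻¹) from h5).inv_right
    rwa [show (ι r * ι y * (ι r)⁻¹ * (ι y)⁻¹)⁻¹ = ι y * ι r * (ι y)⁻¹ * (ι r)⁻¹ by group] at h6

/-- The data of a window after moving it to the base. -/
theorem two_frame (hb : Critical S X V 2) {v u Y : Γ × I} {e f : Γ} (hv : v.2 = i)
    (w : Win S X V 2 v e u u f Y) (C : Chart p S X Q V n i S' Q' M' φ ι) {k : Γ} (hk : k ∈ vert X v)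
    (hop : Opp S X v e (k * e)) (hne : ¬ Comm V u (tr k u)) :
    ∃ d a, Same X (tr d v) ((1 : Γ), i) ∧ ι a = d * k * d⁻¹ ∧
      TwoData p (n u.2) S' Q' ((vert V (tr d u)).comap ι) ((vert V (tr d Y)).comap ι) a := by
  subst hv
  obtain ⟨h, hh, hx⟩ := w.left
  have hs : Same X (tr (e * h)⁻¹ v) ((1 : Γ), v.2) :=
    ⟨rfl, by show ((e * h)⁻¹ * v.1)⁻¹ * 1 ∈ X v.2; rw [mul_one]; exact inv_mem hx⟩
  have hh' : (e * h)⁻¹ * e ∈ Subgroup.normalizer (S : Set Γ) := by
    rw [show (e * h)⁻¹ * e = h⁻¹ by group]; exact inv_mem hh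
  have w' := w.translate (e * h)⁻¹
  set d := (e * h)⁻¹
  have hX : cj d (vert X v) = X v.2 := by
    rw [← vert_tr, ← vert_same (fun j g hg => A.norm_X j hg) hs, vert_one]
  have hk' : d * k * d⁻¹ ∈ X v.2 := hX ▸ conj_mem_cj hk
  have hw : Win S X V 2 ((1 : Γ), v.2) (d * e) (tr d u) (tr d u) (d * f) (tr d Y) :=
    ⟨fun hc => w'.ne (fun z hz t ht => by
      rw [← vert_same A.norm_V hs] at hz
      exact hc z hz t ht), w'.left.same hs, w'.left', w'.mid, w'.right', w'.right⟩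
  have hgen : S ⊔ cj (d * k * d⁻¹) S = X v.2 := by
    have h1 := congrArg (cj d) (show cj e S ⊔ cj (k * e) S = vert X v from hop)
    rw [cj_sup, ← cj_mul, ← cj_mul, hX, A.cj_S hh', show d * (k * e) = d * k * d⁻¹ * (d * e) by group,
      cj_mul (d * k * d⁻¹), A.cj_S hh'] at h1
    exact h1
  have hne' : ¬ Comm V (tr d u) (tr (d * k * d⁻¹) (tr d u)) := fun hc => hne (by
    refine (comm_tr_iff (d := d)).1 ?_
    have e1 : tr (d * k * d⁻¹) (tr d u) = tr d (tr k u) := by simp [tr, mul_assoc]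
    rwa [e1] at hc)
  obtain ⟨a, ha, T⟩ := A.two_data hb hh' hw C hk' hgen hne'
  exact ⟨d, a, hs, ha, T⟩

/-- The turn at an inner vertex of a chain. -/
theorem two_turn (hb : Critical S X V 2) {a x z κ : Γ × I} {e f g : Γ} (w : Win S X V 2 a e x x f z)
    {e' : Γ} (w' : Win S X V 2 κ g a a e x) (hg : e' = g) (hop : Opp S X a e e') {k : Γ} (hk : k ∈ vert X a)
    (hke : e'⁻¹ * (k * e) ∈ Subgroup.normalizer (S : Set Γ)) : ¬ Comm V x (tr k x) := by
  subst hg
  intro hc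
  refine A.turn_member hb w (e' := e') w'.left' hop hk hke w'.ne
    (fun v hv => dist_one hv w'.left.mem) fun q hq => A.Q_le_edge w.right' ?_
  have hkx : Mem0 S X e' (tr k x) := by
    refine Mem0.of_rename (e := k * e) (e' := e') ?_ (w.left'.tr k)
    have := inv_mem hke
    rwa [_root_.mul_inv_rev, inv_inv] at this
  have h1 := (A.near hb (k := 1) (by omega) (dist_one w'.left'.mem hkx.mem)).2 hq
  exact A.edge_cent_le w.left' ⟨A.Q_le_edge w.left h1, fun t ht => hc t ht q hq⟩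

end Geo2

end CfsgLib.PushingUpFamily
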