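/-
What the data at small critical distance say about the Frattini subgroup of the Sylow subgroup.
-/
import Cfsg.Agent.Lib.PushingUpRankOne.Three
import Cfsg.Agent.Lib.LocalEvenB.HSubgroup

set_option autoImplicit false
set_option linter.unusedSectionVars false
set_option linter.style.haveILetI false

open scoped MatrixGroups commutatorElement

namespace CfsgLib.PushingUpFamily

open CfsgLib.PushingUpRankOne CfsgLib.LocalEvenB.PushingUp CfsgLib.LocalEvenB

variable {G : Type*} [Group G] [Finite G] {p : ℕ} [Fact p.Prime] {F : Type*} [Field F] [Fintype F]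
  {S Q M : Subgroup G} {n : ℕ} {φ : G →* PSL2 F} (X : Pre p S Q M n φ)

local notation "ℭ" X:max => Subgroup.centralizer (SetLike.coe X)

include X

theorem phi_le_Q : HSubgroup.phi S ≤ Q :=
  phi_le_of X.hyp.setup.isPGroup (fun _ hs => X.hyp.pow_mem hs) fun _ hs _ ht => by
    rw [commutatorElement_def]; exact X.hyp.commutator_mem hs ht

theorem phi_phi_le : HSubgroup.phi (HSubgroup.phi S) ≤ HSubgroup.phi Q :=
  phi_le_of (X.isPGroup_Q.to_le (phi_le_Q X)) (fun _ hs => HSubgroup.pow_mem_phi X.isPGroup_Q (phi_le_Q X hs))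
    fun _ hs _ ht => HSubgroup.comm_mem_phi X.isPGroup_Q (phi_le_Q X hs) (phi_le_Q X ht)

omit X in
theorem pi_eq_one {N : Subgroup G} [N.Normal] {x : G} : QuotientGroup.mk' N x = 1 ↔ x ∈ N :=
  QuotientGroup.eq_one_iff x

theorem OneData.comm_phi {U : Subgroup G} (D : OneData p S Q U) : ⁅HSubgroup.phi S, S⁆ ≤ HSubgroup.phi Q := by
  haveI := X.phi_normal
  set π := QuotientGroup.mk' (HSubgroup.phi Q)
  have hcen : ∀ {s t : G}, s ∈ S → t ∈ S → ∀ {r : G}, r ∈ S →
      Commute (π r) (π ⁅s, t⁆) ∧ π ⁅s, t⁆ ^ p = 1 := by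
    intro s t hs ht r hr
    obtain ⟨z, hz, q, hq, he⟩ := Subgroup.mem_sup_of_normal_right.1 (OneData.comm_S X D hs ht)
    have h1 : π ⁅s, t⁆ = π z := by rw [← he, map_mul, pi_eq_one.2 hq, mul_one]
    rw [h1]
    exact ⟨(show Commute r z from hz.2.1 r hr).map π, by rw [← map_pow, hz.2.2, map_one]⟩
  have hN : HSubgroup.phi S ≤ (ℭ (S.map π)).comap π := by
    refine phi_le_of X.hyp.setup.isPGroup (fun s hs => ?_) fun s hs t ht => ?_
    · rintro _ ⟨r, hr, rfl⟩
      obtain ⟨c, hc⟩ : ∃ c, c = π ⁅r, s⁆ := ⟨_, rfl⟩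
      have h1 := hcen hr hs hs
      have h2 : π r * π s * (π r)⁻¹ = c * π s := by
        rw [hc, map_commutatorElement, commutatorElement_def]; group
      have h1a : Commute c (π s) := by rw [hc]; exact h1.1.symm
      have h1b : c ^ p = 1 := by rw [hc]; exact h1.2
      have h3 : (π r * π s * (π r)⁻¹) ^ p = π s ^ p := by
        rw [h2, h1a.mul_pow, h1b, one_mul]
      rw [conj_pow, mul_inv_eq_iff_eq_mul] at h3
      rw [map_pow]
      exact h3
    · rintro _ ⟨r, hr, rfl⟩
      exact (hcen hs ht hr).1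
  refine Subgroup.commutator_le.2 fun x hx t ht => ?_
  rw [← pi_eq_one (N := HSubgroup.phi Q), map_commutatorElement, commutatorElement_eq_one_iff_commute]
  exact ((hN hx) _ ⟨t, ht, rfl⟩).symm

theorem OneData.pow_phi {U : Subgroup G} (D : OneData p S Q U) (hp : p ≠ 2) {s : G} (hs : s ∈ S) :
    s ^ p ∈ HSubgroup.phi Q := by
  have := OneData.pow_mem_phi X D hs
  rwa [if_neg hp] at this

theorem TwoData.comm_comm_phi {U Y : Subgroup G} {a : G} (T : TwoData p n S Q U Y a) (hp : p = 3) :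
    ⁅⁅HSubgroup.phi S, S⁆, S⁆ ≤ HSubgroup.phi Q := by
  subst hp
  haveI := X.phi_normal
  set π := QuotientGroup.mk' (HSubgroup.phi Q)
  set C := ℭ (S.map π)
  have hZ : ∀ {g : G}, g ∈ omegaZ 3 S ⊔ HSubgroup.phi Q → π g ∈ C := by
    intro g hg
    obtain ⟨z, hz, q, hq, rfl⟩ := Subgroup.mem_sup_of_normal_right.1 hg
    rw [map_mul, pi_eq_one.2 hq, mul_one]
    rintro _ ⟨r, hr, rfl⟩
    exact (show Commute r z from hz.2.1 r hr).map π
  have hphi : HSubgroup.phi S ≤ (S.lowerCentralSeries 1 ⊔ omegaZ 3 S) ⊔ HSubgroup.phi Q := by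
    refine phi_le_of X.hyp.setup.isPGroup (fun s hs => ?_) fun s hs t ht => ?_
    · rw [sup_assoc]
      exact Subgroup.mem_sup_right (TwoData.cube_mem X T rfl s hs)
    · refine Subgroup.mem_sup_left (Subgroup.mem_sup_left ?_)
      rw [Subgroup.lowerCentralSeries_succ, Subgroup.lowerCentralSeries_zero]
      exact Subgroup.commutator_mem_commutator hs ht
  have h1 : ⁅HSubgroup.phi S, S⁆ ≤ C.comap π := by
    refine Subgroup.commutator_le.2 fun x hx t ht => ?_
    obtain ⟨y, hy, q, hq, rfl⟩ := Subgroup.mem_sup_of_normal_right.1 (hphi hx)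
    have hyS : y ∈ S.lowerCentralSeries 1 ⊔ omegaZ 3 S := hy
    show π ⁅y * q, t⁆ ∈ C
    rw [map_commutatorElement, map_mul, pi_eq_one.2 hq, mul_one, ← map_commutatorElement]
    have hle : S.lowerCentralSeries 1 ≤ S := by
      rw [Subgroup.lowerCentralSeries_succ, Subgroup.lowerCentralSeries_zero]
      exact Subgroup.commutator_le.2 fun a ha b hb => by
        rw [commutatorElement_def]; exact mul_mem (mul_mem (mul_mem ha hb) (inv_mem ha)) (inv_mem hb)
    have hn : omegaZ 3 S ≤ Subgroup.normalizer ((S.lowerCentralSeries 1 : Subgroup G) : Set G) := fun z hz =>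
      Subgroup.centralizer_le_normalizer _ fun l hl => hz.2.1 l (hle hl)
    rw [← SetLike.mem_coe, Subgroup.coe_mul_of_right_le_normalizer_left _ _ hn] at hyS
    obtain ⟨l, hl, z, hz, rfl⟩ := hyS
    have hzt : Commute t z := hz.2.1 t ht
    have e : ⁅l * z, t⁆ = ⁅l, t⁆ := by
      rw [commutatorElement_def, commutatorElement_def]
      calc l * z * t * (l * z)⁻¹ * t⁻¹ = l * (z * t) * z⁻¹ * l⁻¹ * t⁻¹ := by group
        _ = _ := by rw [← hzt.eq]; group
    rw [e]
    refine hZ (TwoData.lcs_two_le X T ?_)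
    rw [Subgroup.lowerCentralSeries_succ S 1]
    exact Subgroup.commutator_mem_commutator hl ht
  refine Subgroup.commutator_le.2 fun x hx t ht => ?_
  rw [← pi_eq_one (N := HSubgroup.phi Q), map_commutatorElement, commutatorElement_eq_one_iff_commute]
  exact ((h1 hx) _ ⟨t, ht, rfl⟩).symm

end CfsgLib.PushingUpFamily
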