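/-
The critical distance cannot be two.
-/
import Cfsg.Agent.Lib.PushingUpFamily.Chart

set_option autoImplicit false
set_option linter.unusedSectionVars false
set_option linter.style.haveILetI false

open scoped Pointwise commutatorElement MatrixGroups

namespace CfsgLib.PushingUpFamily

open CfsgLib.LocalEven.PushingUpClosure CfsgLib.PushingUpRankOne CfsgLib.LocalEvenB.PushingUp CfsgLib.LocalEvenB

variable {Γ : Type*} [Group Γ] [Finite Γ] {I : Type*}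

local notation "ℭ" X:max => Subgroup.centralizer (SetLike.coe X)

namespace Geo2

variable {p : ℕ} [Fact p.Prime] {S : Subgroup Γ} {X Q V : I → Subgroup Γ} {n : I → ℕ} (A : Geo2 p S X Q V n)
  {G : I → Type*} [∀ i, Group (G i)] [∀ i, Finite (G i)] {F : I → Type*} [∀ i, Field (F i)] [∀ i, Fintype (F i)]
  {S' Q' M' : ∀ i, Subgroup (G i)} {φ : ∀ i, G i →* PSL2 (F i)} {ι : ∀ i, G i →* Γ}
include A

/-- At critical distance two the groups of the vertices would have too large a characteristic subgroup. -/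
theorem critical_ne_two [Finite I] (hb : Critical S X V 2)
    (C : ∀ i, Chart p S X Q V n i (S' i) (Q' i) (M' i) (φ i) (ι i))
    (hno : ∀ i, p = 3 → ∀ U Y a, ¬ TwoData p (n i) (S' i) (Q' i) U Y a) : False := by
  obtain ⟨a0, f1, x3, y, f0, x4, w0⟩ := A.exists_win hb
  have w2 : Win S X V 2 a0 f1 x3 x3 f0 x4 :=
    ⟨w0.ne, w0.left, w0.left', Same.refl _, w0.right'.same (Same.symm w0.mid), w0.right⟩
  obtain ⟨e1, x1, hop2, w1⟩ := A.two_slide hb w2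
  obtain ⟨e2, x0, hop1, w00⟩ := A.two_slide hb w1
  set x2 := a0
  -- the turns
  obtain ⟨k, hk, hke⟩ := exists_map w1.left w00.left'
  obtain ⟨k', hk', hke'⟩ := exists_map w2.left w1.left'
  have hturn := A.two_turn hb w1 w00 rfl hop1 hk hke
  have hturn' := A.two_turn hb w2 w1 rfl hop2 hk' hke'
  have hopk : Opp S X x1 e1 (k * e1) := by
    show cj e1 S ⊔ cj (k * e1) S = _
    rw [show k * e1 = e2 * (e2⁻¹ * (k * e1)) by group, cj_mul e2, A.cj_S hke]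
    exact hop1
  have hopk' : Opp S X x2 f1 (k' * f1) := by
    show cj f1 S ⊔ cj (k' * f1) S = _
    rw [show k' * f1 = e1 * (e1⁻¹ * (k' * f1)) by group, cj_mul e1, A.cj_S hke']
    exact hop2
  obtain ⟨d, a, hs, ha, T⟩ := A.two_frame hb rfl w1 (C x1.2) hk hopk hturn
  obtain ⟨d', a', hs', ha', T'⟩ := A.two_frame hb rfl w2 (C x2.2) hk' hopk' hturn'
  -- the parameters
  have n13 := A.win_n hb w1
  have n1 := TwoData.le_exp (C x1.2).emb.ctx T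
  have n2 := TwoData.le_exp (C x2.2).emb.ctx T'
  have e12 : n x2.2 = n x1.2 := by omega
  have e23 : n x3.2 = n x2.2 := by omega
  rw [e12] at T
  rw [e23] at T'
  by_cases hp3 : p = 3
  · exact hno x1.2 hp3 _ _ _ T
  obtain ⟨yy, hy, u, hu, v, hv, hne, e, -, hd, hdd⟩ := TwoData.witness (C x1.2).emb.ctx T
  obtain ⟨xe, hxe⟩ : ∃ xe, xe = a * v * a⁻¹ := ⟨_, rfl⟩
  rw [← hxe] at hne hd hdd
  set ι₁ := ι x1.2
  set ι₂ := ι x2.2
  obtain ⟨x', hx'd⟩ : ∃ x', x' = d⁻¹ * ι₁ xe * d := ⟨_, rfl⟩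
  obtain ⟨u', hu'd⟩ : ∃ u', u' = d⁻¹ * ι₁ u * d := ⟨_, rfl⟩
  obtain ⟨y', hy'd⟩ : ∃ y', y' = d⁻¹ * ι₁ yy * d := ⟨_, rfl⟩
  have back : ∀ {w : Γ × I} {z : Γ}, z ∈ vert V (tr d w) → d⁻¹ * z * d ∈ vert V w := fun hz => by
    rw [vert_tr] at hz
    exact mem_cj.1 hz
  have hu' : u' ∈ vert V x2 := hu'd ▸ back hu
  have hy' : y' ∈ vert V x3 := hy'd ▸ back hy
  have hx' : x' ∈ vert V (tr k x2) := by
    have h1 := conj_mem_cj (x := k) (back hv : d⁻¹ * ι₁ v * d ∈ vert V x2)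
    rw [vert_tr]
    convert h1 using 1
    rw [hx'd, hxe, map_mul, map_mul, map_inv, ha]
    group
  -- everything seen from the second vertex
  have hkx2 : Mem0 S X e2 (tr k x2) := by
    refine Mem0.of_rename (e := k * e1) (e' := e2) ?_ (w1.left'.tr k)
    have := inv_mem hke
    rwa [_root_.mul_inv_rev, inv_inv] at this
  have hx'X : x' ∈ vert X x2 := A.S_le_vert w1.left' (A.Q_le_edge w1.left
    ((A.near hb (k := 1) (by omega) (dist_one w00.left'.mem hkx2.mem)).2 hx'))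
  have hXj : cj d' (vert X x2) = X x2.2 := by
    rw [← vert_tr, ← vert_same (fun j g hg => A.norm_X j hg) hs', vert_one]
  obtain ⟨x₂, hx₂⟩ : d' * x' * d'⁻¹ ∈ ι₂.range := by
    rw [(C x2.2).range, ← hXj]
    exact conj_mem_cj hx'X
  have hy3 : d' * y' * d'⁻¹ ∈ vert V (tr d' x3) := by rw [vert_tr]; exact conj_mem_cj hy'
  have hx3X : vert V (tr d' x3) ≤ X x2.2 := by
    rw [vert_tr, ← hXj]
    exact cj_mono d' (
      (A.near hb (k := 1) (by omega) (dist_one w2.left.mem w2.left'.mem)).2.trans (A.vertQ_le_X x2))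
  obtain ⟨y₂, hy₂, hy₂e⟩ := (C x2.2).exists_pre hx3X hy3
  have hxp : x' ^ p = 1 := A.V_pow_vert hx'
  have hx₂p : x₂ ^ p = 1 := (C x2.2).emb.inj (by
    rw [map_pow, map_one, hx₂, conj_pow, hxp, mul_one, mul_inv_cancel])
  have hq := TwoData.quad (C x2.2).emb.ctx T' hp3 (TwoData.U_le_W (C x2.2).emb.ctx T' hy₂) hx₂p
  have key : x' * (x' * y' * x'⁻¹ * y'⁻¹) * x'⁻¹ * (x' * y' * x'⁻¹ * y'⁻¹)⁻¹ = x' * u' * x'⁻¹ * u'⁻¹ := by
    have e1 : ι₁ xe * ι₁ yy * (ι₁ xe)⁻¹ * (ι₁ yy)⁻¹ = ι₁ (u * e) := by rw [← hd]; simp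
    have e2' : ι₁ xe * ι₁ (u * e) * (ι₁ xe)⁻¹ * (ι₁ (u * e))⁻¹ = ι₁ xe * ι₁ u * (ι₁ xe)⁻¹ * (ι₁ u)⁻¹ := by
      simpa [mul_assoc] using congrArg ι₁ hdd
    rw [← e1] at e2'
    rw [hx'd, hy'd, hu'd]
    calc _ = d⁻¹ * (ι₁ xe * (ι₁ xe * ι₁ yy * (ι₁ xe)⁻¹ * (ι₁ yy)⁻¹) * (ι₁ xe)⁻¹ *
          (ι₁ xe * ι₁ yy * (ι₁ xe)⁻¹ * (ι₁ yy)⁻¹)⁻¹) * d := by group
      _ = d⁻¹ * (ι₁ xe * ι₁ u * (ι₁ xe)⁻¹ * (ι₁ u)⁻¹) * d := by rw [e2']
      _ = _ := by group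
  have hC : x' * u' * x'⁻¹ * u'⁻¹ ∈ ℭ (vert X x2) := by
    have h1 := (C x2.2).baseC_cent hq
    rw [← hXj, centralizer_cj, mem_cj] at h1
    rw [← key]
    convert h1 using 1
    simp only [map_mul, map_inv]
    rw [hx₂, hy₂e]
    group
  have hcom := A.fpf_vert hx'X (A.pgroup_of_mem (A.V_le_edge hkx2 hx')) hu' hC
  refine hne ((C x1.2).emb.inj ?_)
  rw [map_mul, map_mul]
  rw [hx'd, hu'd] at hcom
  calc ι₁ u * ι₁ xe = d * ((d⁻¹ * ι₁ u * d) * (d⁻¹ * ι₁ xe * d)) * d⁻¹ := by group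
    _ = d * ((d⁻¹ * ι₁ xe * d) * (d⁻¹ * ι₁ u * d)) * d⁻¹ := by rw [hcom]
    _ = _ := by simp only [ι₁]; group

end Geo2

end CfsgLib.PushingUpFamily
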