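/-
All modules of the amalgam commute; their join is an abelian member of the lattice normalised by every group.
-/
import Cfsg.Agent.Lib.PushingUpFamily.Near

set_option autoImplicit false
set_option linter.unusedSectionVars false
set_option linter.style.haveILetI false

open scoped Pointwise commutatorElement MatrixGroups

namespace CfsgLib.PushingUpFamily

open CfsgLib.LocalEven.PushingUpClosure CfsgLib.PushingUpRankOne CfsgLib.LocalEvenB.PushingUp CfsgLib.LocalEvenB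

variable {Γ : Type*} [Group Γ] [Finite Γ] {I : Type*}

local notation "ℭ" X:max => Subgroup.centralizer (SetLike.coe X)

/-- The group generated by the normaliser of the edge and the groups of its vertices. -/
def allN (S : Subgroup Γ) (X : I → Subgroup Γ) : Subgroup Γ :=
  Subgroup.normalizer (S : Set Γ) ⊔ ⨆ i, X i

theorem dist_allN {S : Subgroup Γ} {X V : I → Subgroup Γ} {g : Γ} (hg : g ∈ allN S X) :
    ∃ k, ∀ i, Dist S X V k ((1 : Γ), i) (g, i) := by
  let D : Subgroup Γ :=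
    { carrier := {g | ∃ k, ∀ i, Dist S X V k ((1 : Γ), i) (g, i)}
      one_mem' := ⟨0, fun i => dist_refl 0 _⟩
      mul_mem' := fun {g g'} ⟨k, hk⟩ ⟨k', hk'⟩ => ⟨k + k', fun i => by
        have h1 := dist_tr g (hk' i)
        simp only [tr, mul_one] at h1
        exact dist_trans (hk i) h1⟩
      inv_mem' := fun {g} ⟨k, hk⟩ => ⟨k, fun i => by
        have h1 := dist_tr g⁻¹ (dist_symm (hk i))
        simpa [tr] using h1⟩ }
  have hle : allN S X ≤ D := by
    refine sup_le (fun h hh => ⟨1, fun i => ?_⟩) (iSup_le fun j x hx => ⟨2, fun i => ?_⟩)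
    · exact dist_one (mem_self ((1 : Γ), i)) (by
        have := (mem0_member (X := X) (e := (1 : Γ)) hh i).mem (V := V)
        rwa [one_mul] at this)
    · have h1 : Mem S X V 1 ((1 : Γ), i) := mem_self ((1 : Γ), i)
      have h2 : Mem S X V 1 ((1 : Γ), j) := mem_self ((1 : Γ), j)
      have hs : Same X ((1 : Γ), j) (x, j) := ⟨rfl, by
        show (1 : Γ)⁻¹ * x ∈ X j
        rwa [inv_one, one_mul]⟩
      exact dist_trans (dist_one h1 (h2.same hs)) (dist_one (mem_self (x, j)) (mem_self (x, i)))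
  exact hle hg

namespace Geo

variable {p : ℕ} [Fact p.Prime] {S : Subgroup Γ} {X Q V : I → Subgroup Γ} {n : I → ℕ} (A : Geo p S X Q V n)
  {G : I → Type*} [∀ i, Group (G i)] [∀ i, Finite (G i)] {F : I → Type*} [∀ i, Field (F i)] [∀ i, Fintype (F i)]
  {S' Q' M' : ∀ i, Subgroup (G i)} {φ : ∀ i, G i →* PSL2 (F i)} {ι : ∀ i, G i →* Γ}
include A

/-- Without data at critical distance one the modules of one edge commute. -/
theorem to_geo2 (C : ∀ i, Chart p S X Q V n i (S' i) (Q' i) (M' i) (φ i) (ι i))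
    (hno : ∀ i, ∀ U, ¬ OneData p (S' i) (Q' i) U) : Geo2 p S X Q V n := by
  refine ⟨A, fun h hh i j => ?_⟩
  by_contra hne
  set a : Γ × I := ((1 : Γ), i)
  set c : Γ × I := (h, j)
  have ha : Mem0 S X 1 a := mem0_self a
  have hc : Mem0 S X 1 c := ⟨h, hh, by simp [c]⟩
  have haS : vert V a ≤ cj 1 S := A.V_le_edge ha
  have hcS : vert V c ≤ cj 1 S := A.V_le_edge hc
  have h1S : cj (1 : Γ) S = S := cj_one _
  have hVa : vert V a = V i := vert_one V i
  have hcX : vert V c ≤ X i := (hcS.trans h1S.le).trans (A.S_le i)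
  refine hno i ((vert V c).comap (ι i)) ⟨fun u hu => (C i).of_map ((C i).map_S ▸ h1S.le (hcS hu)), fun s hs => ?_,
    fun u hu v hv => (C i).emb.inj ?_, fun u hu => (C i).emb.inj ?_, fun s hs => ?_, fun u hu huQ => ?_,
    fun q hq => ?_, ?_⟩
  · have hs' : ι i s ∈ vert X c := A.S_le_vert hc (h1S.ge ((C i).map_S ▸ ⟨s, hs, rfl⟩))
    rw [Subgroup.mem_normalizer_iff]
    intro v
    constructor
    · intro hv
      show ι i (s * v * s⁻¹) ∈ vert V c
      rw [map_mul, map_mul, map_inv]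
      exact A.conj_V hs' hv
    · intro hv
      have h2 := A.conj_V (inv_mem hs') (show ι i (s * v * s⁻¹) ∈ vert V c from hv)
      show ι i v ∈ vert V c
      convert h2 using 1
      simp [mul_assoc]
  · rw [map_mul, map_mul]; exact A.V_comm hu hv
  · rw [map_pow, map_one]; exact A.V_pow_vert hu
  · obtain ⟨t, ht, q, hq, he⟩ := A.pair_mul hne ha hc hcS haS (s := ι i s) (h1S.ge ((C i).map_S ▸ ⟨s, hs, rfl⟩))
    rw [vert_one, ← (C i).map_Q] at hq
    obtain ⟨q₀, hq₀, rfl⟩ := hq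
    obtain ⟨t₀, ht₀, rfl⟩ := (C i).exists_pre hcX ht
    exact ⟨t₀, ht₀, q₀, hq₀, (C i).emb.inj (by rw [map_mul]; exact he)⟩
  · refine (C i).of_map (R := omegaZ p (S' i)) ((C i).map_Z ▸ ?_)
    rw [← show cj (1 : Γ) (S ⊓ ℭ S) = S ⊓ ℭ S from cj_one _]
    refine A.pair_cent (fun hh' => hne hh'.symm) hc haS hu fun w hw => ?_
    exact (A.QV_vert (v := a) (show ι i u ∈ vert Q a by rw [vert_one, ← (C i).map_Q]; exact ⟨u, huQ, rfl⟩) hw).symm
  · obtain ⟨t, ht, d, hd, he⟩ := A.pair_mul (fun hh' => hne hh'.symm) hc ha haS hcS (s := ι i q)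
      (h1S.ge (A.Q_le i ((C i).map_Q ▸ ⟨q, hq, rfl⟩)))
    rw [hVa, ← (C i).map_V] at ht
    obtain ⟨v₀, hv₀, rfl⟩ := ht
    have hd' : ι i (v₀⁻¹ * q) = d := by rw [map_mul, map_inv, he, inv_mul_cancel_left]
    refine ⟨v₀, hv₀, v₀⁻¹ * q, mul_mem (inv_mem ((C i).emb.ctx.baseV_le_Q hv₀)) hq, fun u hu =>
      (C i).emb.inj ?_, (mul_inv_cancel_left _ _).symm⟩
    rw [map_mul (ι i) u, map_mul (ι i) (v₀⁻¹ * q), hd']
    exact (A.QV_vert hd hu).symm
  · obtain ⟨u, hu, v, hv, hne'⟩ : ∃ u ∈ vert V c, ∃ v ∈ vert V a, u * v ≠ v * u := by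
      simpa [Comm] using fun hh' => hne (Comm.symm hh')
    rw [hVa, ← (C i).map_V] at hv
    obtain ⟨v, hv, rfl⟩ := hv
    obtain ⟨u, hu', rfl⟩ := (C i).exists_pre hcX hu
    exact ⟨u, hu', v, hv, fun e => hne' (by rw [← map_mul, ← map_mul, e])⟩

end Geo

namespace Geo2

variable {p : ℕ} [Fact p.Prime] {S : Subgroup Γ} {X Q V : I → Subgroup Γ} {n : I → ℕ} (A : Geo2 p S X Q V n)
  {G : I → Type*} [∀ i, Group (G i)] [∀ i, Finite (G i)] {F : I → Type*} [∀ i, Field (F i)] [∀ i, Fintype (F i)]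
  {S' Q' M' : ∀ i, Subgroup (G i)} {φ : ∀ i, G i →* PSL2 (F i)} {ι : ∀ i, G i →* Γ}
include A

/-- All modules commute. -/
theorem all_comm [Finite I] (C : ∀ i, Chart p S X Q V n i (S' i) (Q' i) (M' i) (φ i) (ι i))
    (hno : ∀ i, p = 3 → ∀ U Y a, ¬ TwoData p (n i) (S' i) (Q' i) U Y a) :
    ∀ k v w, Dist S X V k v w → Comm V v w := by
  classical
  by_contra hc
  have hex : ∃ k, ∃ v w, Dist S X V k v w ∧ ¬ Comm V v w := by
    simp only [not_forall] at hc
    obtain ⟨k, v, w, hd, hne⟩ := hc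
    exact ⟨k, v, w, hd, hne⟩
  have hb : Critical S X V (Nat.find hex) := ⟨Nat.find_spec hex, fun k hk v w hd => by
    by_contra hne
    exact Nat.find_min hex hk ⟨v, w, hd, hne⟩⟩
  have h2 := A.critical_eq hb
  rw [h2] at hb
  exact A.critical_ne_two hb C hno

/-- The join of all conjugates of the modules. -/
theorem exists_core [Finite I] [Nonempty I] (C : ∀ i, Chart p S X Q V n i (S' i) (Q' i) (M' i) (φ i) (ι i))
    (hno : ∀ i, p = 3 → ∀ U Y a, ¬ TwoData p (n i) (S' i) (Q' i) U Y a) :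
    ∃ Y : Subgroup Γ, Lat S Y ∧ Y ≤ ℭ Y ∧ (∀ i, V i ≤ Y ∧ Y ≤ Q i ∧ ∀ x ∈ X i, cj x Y = Y) ∧
      (∀ h ∈ Subgroup.normalizer (S : Set Γ), cj h Y = Y) ∧
      ∀ R : Subgroup Γ, (∀ i, V i ≤ R) → (∀ i, ∀ x ∈ X i, cj x R = R) →
        (∀ h ∈ Subgroup.normalizer (S : Set Γ), cj h R = R) → Y ≤ R := by
  have hall := A.all_comm C hno
  set H := allN S X
  set Y := ⨆ x : ↥H × I, cj (x.1 : Γ) (V x.2)
  have hYQ : ∀ i, Y ≤ Q i := fun i => iSup_le fun ⟨⟨g, hg⟩, j⟩ => by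
    obtain ⟨k, hk⟩ := dist_allN (V := V) hg
    have hd : Dist S X V (1 + k) ((1 : Γ), i) (g, j) :=
      dist_trans (dist_one (mem_self ((1 : Γ), i)) (mem_self ((1 : Γ), j))) (hk j)
    have h1 := A.near_Q (k := 1 + k) (fun k' _ v w hd' => hall k' v w hd') hd
    rw [vert_one] at h1
    exact h1
  have hYH : ∀ g ∈ H, cj g Y ≤ Y := fun g hg => by
    rw [cj_iSup]
    refine iSup_le fun x => ?_
    rw [← cj_mul]
    exact le_iSup (fun x : ↥H × I => cj (x.1 : Γ) (V x.2)) (⟨g, hg⟩ * x.1, x.2)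
  have hNH : Subgroup.normalizer (S : Set Γ) ≤ H := le_sup_left
  have hXH : ∀ i, X i ≤ H := fun i => (le_iSup X i).trans le_sup_right
  have heq : ∀ {g : Γ} {R : Subgroup Γ}, cj g R ≤ R → cj g R = R := fun h =>
    cj_eq_of_mem (mem_normalizer_of_map_le h)
  have hVY : ∀ i, V i ≤ Y := fun i => by
    have := le_iSup (fun x : ↥H × I => cj (x.1 : Γ) (V x.2)) (1, i)
    rwa [OneMemClass.coe_one, cj_one] at this
  -- a largest member of the lattice inside
  obtain ⟨T, hT⟩ := (Set.toFinite {T : Subgroup Γ | Lat S T ∧ edgeW S V ≤ T ∧ T ≤ Y}).exists_maximal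
    ⟨edgeW S V, A.lat_edgeW, le_rfl, iSup_le fun x => by
      exact le_iSup_of_le ((⟨(x.1 : Γ), hNH x.1.2⟩ : ↥H), x.2) le_rfl⟩
  obtain ⟨⟨hTl, hWT, hTY⟩, hmax⟩ := hT
  have hVT : ∀ i, V i ≤ T := fun i => by
    have := le_iSup (fun x : Subgroup.normalizer (S : Set Γ) × I => cj (x.1 : Γ) (V x.2)) (1, i)
    rw [OneMemClass.coe_one, cj_one] at this
    exact this.trans hWT
  have hgrow : ∀ {T' : Subgroup Γ}, Lat S T' → T' ≤ Y → T' ≤ T := fun hl hle =>
    le_sup_right.trans (hmax ⟨hTl.sup A.bal hl, hWT.trans le_sup_left, sup_le hTY hle⟩ le_sup_left)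
  have hTH : H ≤ Subgroup.normalizer (T : Set Γ) := by
    refine sup_le (fun h hh => cj_eq_iff.1 (heq ?_)) (iSup_le fun i x hx => cj_eq_iff.1 (heq ?_))
    · exact hgrow (hTl.conjugate (A.cj_S hh)) ((cj_mono h hTY).trans (hYH h (hNH hh)))
    · exact hgrow (A.lat_conj i (hVT i) hTl (hTY.trans (hYQ i)) hx).1 ((cj_mono x hTY).trans (hYH x (hXH i hx)))
  have hYT : Y = T := le_antisymm (iSup_le fun ⟨g, i⟩ =>
    (cj_mono (g : Γ) (hVT i)).trans (cj_eq_of_mem (hTH g.2)).le) hTY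
  refine ⟨Y, hYT ▸ hTl, ?_, fun i => ⟨hVY i, hYQ i, fun x hx => heq (hYH x (hXH i hx))⟩,
    fun h hh => heq (hYH h (hNH hh)), fun R hV hX hN => iSup_le fun ⟨g, i⟩ => ?_⟩
  · refine iSup_le fun ⟨⟨g, hg⟩, i⟩ => fun u hu y hy => ?_
    -- move `u` to the base
    have hy' : g⁻¹ * y * g ∈ Y := by
      have := hYH g⁻¹ (inv_mem hg) (conj_mem_cj (x := g⁻¹) hy)
      rwa [inv_inv] at this
    have h1 := A.QV i _ (hYQ i hy') _ (mem_cj.1 hu)
    calc y * u = g * ((g⁻¹ * y * g) * (g⁻¹ * u * g)) * g⁻¹ := by group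
      _ = _ := by rw [h1]; group
  · have hR : H ≤ Subgroup.normalizer (R : Set Γ) :=
      sup_le (fun h hh => cj_eq_iff.1 (hN h hh)) (iSup_le fun j x hx => cj_eq_iff.1 (hX j x hx))
    exact (cj_mono (g : Γ) (hV i)).trans (cj_eq_of_mem (hR g.2)).le

end Geo2

end CfsgLib.PushingUpFamily
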