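/-
A finite family of groups containing copies of one group embeds in one permutation group, the copies agreeing
and every automorphism of the common subgroup being induced.
-/
import Mathlib

set_option autoImplicit false
set_option linter.style.haveILetI false

universe u

namespace CfsgLib.PushingUpFamily

variable {S : Type u} [Group S] {I : Type} {G : I → Type u} [∀ i, Group (G i)]

/-- An element as a copy of the subgroup and a coset. -/
noncomputable def splitEquiv {H : Type u} [Group H] (τ : S →* H) (hτ : Function.Injective τ) :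
    S × (H ⧸ τ.range) ≃ H :=
  Equiv.ofBijective (fun x => τ x.1 * (Quotient.out x.2)⁻¹) (by
    constructor
    · rintro ⟨s, c⟩ ⟨s', c'⟩ h
      change τ s * (Quotient.out c)⁻¹ = τ s' * (Quotient.out c')⁻¹ at h
      have h1 : (Quotient.out c)⁻¹ * Quotient.out c' = τ (s⁻¹ * s') := by
        calc (Quotient.out c)⁻¹ * Quotient.out c'
            = (τ s)⁻¹ * (τ s * (Quotient.out c)⁻¹) * Quotient.out c' := by group
          _ = (τ s)⁻¹ * τ s' := by rw [h]; group
          _ = _ := by rw [map_mul, map_inv]
      obtain rfl : c = c' := by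
        rw [← QuotientGroup.out_eq' c, ← QuotientGroup.out_eq' c', QuotientGroup.eq, h1]
        exact ⟨_, rfl⟩
      exact Prod.ext (hτ (mul_right_cancel h)) rfl
    · intro g
      obtain ⟨t, ht⟩ : (Quotient.out (QuotientGroup.mk g⁻¹ : H ⧸ τ.range))⁻¹ * g⁻¹ ∈ τ.range :=
        QuotientGroup.eq.1 (QuotientGroup.out_eq' _)
      refine ⟨(t⁻¹, QuotientGroup.mk g⁻¹), ?_⟩
      show τ t⁻¹ * _ = g
      rw [map_inv, ht]
      group)

theorem splitEquiv_mul {H : Type u} [Group H] (τ : S →* H) (hτ : Function.Injective τ) (t s : S)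
    (c : H ⧸ τ.range) : splitEquiv τ hτ (t * s, c) = τ t * splitEquiv τ hτ (s, c) := by
  show τ (t * s) * (Quotient.out c)⁻¹ = τ t * (τ s * (Quotient.out c)⁻¹)
  rw [map_mul, mul_assoc]

/-- The permuted set. -/
abbrev Board (τ : ∀ i, S →* G i) : Type u := S × ∀ i, (G i ⧸ (τ i).range)

/-- The common subgroup, acting from the left. -/
def boardHom (τ : ∀ i, S →* G i) : S →* Equiv.Perm (Board τ) where
  toFun t := (Equiv.mulLeft t).prodCongr (Equiv.refl _)
  map_one' := by ext x <;> simp
  map_mul' t t' := by ext x <;> simp [mul_assoc]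

theorem boardHom_apply (τ : ∀ i, S →* G i) (t : S) (x : Board τ) : boardHom τ t x = (t * x.1, x.2) := rfl

theorem boardHom_injective (τ : ∀ i, S →* G i) : Function.Injective (boardHom τ) := fun s t h => by
  have := congrArg Prod.fst (Equiv.congr_fun h ((1 : S), fun i => QuotientGroup.mk 1))
  simpa [boardHom_apply] using this

open Classical in
/-- The board seen from one member. -/
noncomputable def boardEquiv (τ : ∀ i, S →* G i) (hτ : ∀ i, Function.Injective (τ i)) (i : I) :
    Board τ ≃ G i × ∀ j : {j // j ≠ i}, (G j ⧸ (τ j).range) :=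
  ((Equiv.refl S).prodCongr (Equiv.piSplitAt i _)).trans
    ((Equiv.prodAssoc _ _ _).symm.trans ((splitEquiv (τ i) (hτ i)).prodCongr (Equiv.refl _)))

theorem boardEquiv_mul (τ : ∀ i, S →* G i) (hτ : ∀ i, Function.Injective (τ i)) (i : I) (t : S) (x : Board τ) :
    boardEquiv τ hτ i (t * x.1, x.2) = (τ i t * (boardEquiv τ hτ i x).1, (boardEquiv τ hτ i x).2) := by
  refine Prod.ext ?_ rfl
  exact splitEquiv_mul (τ i) (hτ i) t x.1 _

/-- A member, acting from the left. -/
noncomputable def memberHom (τ : ∀ i, S →* G i) (hτ : ∀ i, Function.Injective (τ i)) (i : I) :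
    G i →* Equiv.Perm (Board τ) where
  toFun g := (boardEquiv τ hτ i).symm.permCongr ((Equiv.mulLeft g).prodCongr (Equiv.refl _))
  map_one' := by ext x <;> simp
  map_mul' g g' := by ext x <;> simp [Prod.map, mul_assoc]

theorem memberHom_apply (τ : ∀ i, S →* G i) (hτ : ∀ i, Function.Injective (τ i)) (i : I) (g : G i) (x : Board τ) :
    memberHom τ hτ i g x =
      (boardEquiv τ hτ i).symm (g * (boardEquiv τ hτ i x).1, (boardEquiv τ hτ i x).2) := by
  simp [memberHom, Prod.map]

theorem memberHom_injective (τ : ∀ i, S →* G i) (hτ : ∀ i, Function.Injective (τ i)) (i : I) :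
    Function.Injective (memberHom τ hτ i) := fun g g' h => by
  have h1 := Equiv.congr_fun h ((boardEquiv τ hτ i).symm (1, fun _ => QuotientGroup.mk 1))
  rw [memberHom_apply, memberHom_apply, Equiv.apply_symm_apply, (boardEquiv τ hτ i).symm.apply_eq_iff_eq] at h1
  simpa using congrArg Prod.fst h1

theorem memberHom_comp (τ : ∀ i, S →* G i) (hτ : ∀ i, Function.Injective (τ i)) (i : I) (t : S) :
    memberHom τ hτ i (τ i t) = boardHom τ t := Equiv.ext fun x => by
  rw [memberHom_apply, boardHom_apply, Equiv.symm_apply_eq, boardEquiv_mul]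

/-- An automorphism of the common subgroup. -/
def autPerm (τ : ∀ i, S →* G i) (α : S ≃* S) : Equiv.Perm (Board τ) :=
  α.toEquiv.prodCongr (Equiv.refl _)

theorem autPerm_conj (τ : ∀ i, S →* G i) (α : S ≃* S) (t : S) :
    autPerm τ α * boardHom τ t * (autPerm τ α)⁻¹ = boardHom τ (α t) := by
  rw [mul_inv_eq_iff_eq_mul]
  ext x <;> simp [autPerm, boardHom_apply]

theorem autPerm_mem (τ : ∀ i, S →* G i) (α : S ≃* S) :
    autPerm τ α ∈ Subgroup.normalizer ((boardHom τ).range : Set (Equiv.Perm (Board τ))) := by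
  rw [Subgroup.mem_normalizer_iff]
  intro u
  constructor
  · rintro ⟨t, rfl⟩
    exact ⟨α t, (autPerm_conj τ α t).symm⟩
  · rintro ⟨t, ht⟩
    refine ⟨α.symm t, ?_⟩
    have h := autPerm_conj τ α (α.symm t)
    rw [MulEquiv.apply_symm_apply, ht] at h
    exact mul_left_cancel (mul_right_cancel h)

end CfsgLib.PushingUpFamily
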