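/-
The amalgam of a finite family of pushing-up situations over one balanced group, and the subgroup it yields.
-/
import Cfsg.Agent.Lib.PushingUpFamily.Core
import Cfsg.Agent.Lib.PushingUpFamily.Overgroup

set_option autoImplicit false
set_option linter.unusedSectionVars false
set_option linter.style.haveILetI false

open Matrix CfsgLib.Perm.SL2Unipotent
open scoped Pointwise commutatorElement MatrixGroups

universe u

namespace CfsgLib.PushingUpFamily

open CfsgLib.LocalEven.PushingUpClosure CfsgLib.PushingUpRankOne CfsgLib.LocalEvenB.PushingUp CfsgLib.LocalEvenB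
  CfsgLib.LocalEvenB.CDMeasure

local notation "ℭ" X:max => Subgroup.centralizer (SetLike.coe X)

/-! Transport of the measure along an injective map. -/

section Transport

variable {S Γ : Type*} [Group S] [Finite S] [Group Γ] [Finite Γ] {j : S →* Γ} (hj : Function.Injective j)
include hj

theorem map_centralizer_range (R : Subgroup S) : j.range ⊓ ℭ (R.map j) = (ℭ R).map j := by
  ext x
  constructor
  · rintro ⟨⟨s, rfl⟩, hs⟩
    exact ⟨s, fun r hr => hj (by rw [map_mul, map_mul]; exact hs _ ⟨r, hr, rfl⟩), rfl⟩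
  · rintro ⟨s, hs, rfl⟩
    refine ⟨⟨s, rfl⟩, ?_⟩
    rintro _ ⟨r, hr, rfl⟩
    rw [← map_mul, ← map_mul, hs r hr]

theorem cdIn_map (R : Subgroup S) : cdIn j.range (R.map j) = cd R := by
  rw [cdIn, map_centralizer_range hj, Subgroup.card_map_of_injective hj, Subgroup.card_map_of_injective hj]
  rfl

theorem balanced_range (htop : IsMaxCD (⊤ : Subgroup S))
    (hab : ∀ A ∈ Cfsg.maxAbelianSubgroups S, IsMaxCD A) (hJ : Cfsg.thompsonSubgroupA S = ⊤) :
    Balanced j.range := by
  have hS : cdIn j.range j.range = cd (⊤ : Subgroup S) := by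
    rw [← cdIn_map hj, ← MonoidHom.range_eq_map]
  have hpre : ∀ {R : Subgroup Γ}, R ≤ j.range → (R.comap j).map j = R := fun h => Subgroup.map_comap_eq_self h
  refine ⟨fun R hR => ?_, fun A hA => ⟨hA.1, ?_⟩, fun X hX => ?_⟩
  · rw [hS, ← hpre hR, cdIn_map hj]
    exact htop _
  · rw [hS, ← hpre hA.1, cdIn_map hj]
    refine (hab _ ⟨?_, fun B hB => ?_⟩).eq htop
    · exact ⟨⟨fun x y => Subtype.ext (hj (by
        show j ((x : S) * y) = j ((y : S) * x)
        rw [map_mul, map_mul]; exact hA.2.1 y.2 _ x.2))⟩⟩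
    · rw [← Subgroup.card_map_of_injective hj, ← Subgroup.card_map_of_injective hj (K := A.comap j), hpre hA.1]
      refine hA.2.2 _ (Subgroup.map_le_range _ _) ?_
      rintro _ ⟨x, hx, rfl⟩ _ ⟨y, hy, rfl⟩
      haveI := hB
      exact (map_mul j y x).symm.trans ((congrArg j (congrArg Subtype.val (mul_comm' (⟨y, hy⟩ : B) ⟨x, hx⟩))).trans (map_mul j x y))
  · rw [MonoidHom.range_eq_map, Subgroup.map_le_iff_le_comap, ← hJ]
    refine sSup_le fun A hA => ?_
    rw [← Subgroup.map_le_iff_le_comap]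
    refine hX _ ⟨Subgroup.map_le_range _ _, ?_, fun B hB hB' => ?_⟩
    · rintro _ ⟨x, hx, rfl⟩ _ ⟨y, hy, rfl⟩
      haveI := hA.1
      exact (map_mul j y x).symm.trans ((congrArg j (congrArg Subtype.val (mul_comm' (⟨y, hy⟩ : A) ⟨x, hx⟩))).trans (map_mul j x y))
    · rw [← hpre hB, Subgroup.card_map_of_injective hj, Subgroup.card_map_of_injective hj]
      exact hA.2 _ ⟨⟨fun x y => Subtype.ext (hj (by
        show j ((x : S) * y) = j ((y : S) * x)
        rw [map_mul, map_mul]; exact hB' y.2 _ x.2))⟩⟩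

end Transport

/-! Inside one group. -/

section Member

variable {G : Type*} [Group G] [Finite G] {p : ℕ} [Fact p.Prime] {F : Type*} [Field F] [Fintype F]
  {S Q M : Subgroup G} {n : ℕ} {φ : G →* PSL2 F}

/-- A Sylow conjugate is opposite, or it has the same opposites. -/
theorem dichotomy (X : Pre p S Q M n φ) (a : G) :
    S ⊔ cj a S = ⊤ ∨ ∀ b, S ⊔ cj b S = ⊤ → S ⊔ cj (b * a) S = ⊤ := by
  obtain ⟨z, hz⟩ := pr_surjective (φ a)
  have hconj : ∀ {x : F} {R : Subgroup G}, S ≤ R → cj a S ≤ R → pr (z * up x * z⁻¹) ∈ R.map φ := by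
    intro x R _ hR
    obtain ⟨s, hs, hsx⟩ := X.hyp.exists_up x
    exact ⟨a * s * a⁻¹, hR (conj_mem_cj hs), by simp [hsx, hz]⟩
  by_cases hc : z.1 1 0 = 0
  · right
    intro b hb
    refine X.hyp.eq_top_of_map le_sup_left (eq_top_iff.2 ?_)
    have hdet : z.1 0 0 * z.1 1 1 = 1 := by
      have := z.2
      rw [Matrix.det_fin_two, hc, mul_zero, sub_zero] at this
      exact this
    have hle : S.map φ ≤ (cj a S).map φ := by
      rintro _ ⟨s, hs, rfl⟩
      obtain ⟨x, hx⟩ := X.hyp.exists_param hs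
      obtain ⟨t, ht, htx⟩ := X.hyp.exists_up (z.1 1 1 * z.1 1 1 * x)
      refine ⟨a * t * a⁻¹, conj_mem_cj ht, ?_⟩
      have e : z * up (z.1 1 1 * z.1 1 1 * x) = up x * z := by
        apply Subtype.ext
        rw [Matrix.SpecialLinearGroup.coe_mul, Matrix.SpecialLinearGroup.coe_mul, up_val, up_val]
        ext i j
        fin_cases i <;> fin_cases j <;> simp [Matrix.mul_apply, Fin.sum_univ_two, hc]
        linear_combination z.1 1 1 * x * hdet
      rw [map_mul, map_mul, map_inv, htx, ← hz, ← map_inv, ← map_mul, ← map_mul, e, mul_inv_cancel_right, hx]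
    calc (⊤ : Subgroup (PSL2 F)) = (S ⊔ cj b S).map φ := by
          rw [hb, Subgroup.map_top_of_surjective φ X.hyp.surj]
      _ ≤ _ := by
          rw [Subgroup.map_sup, Subgroup.map_sup]
          refine sup_le_sup le_rfl ?_
          rw [cj_mul]
          rintro _ ⟨_, ⟨s, hs, rfl⟩, rfl⟩
          obtain ⟨t, ht, hts⟩ := hle ⟨s, hs, rfl⟩
          exact ⟨b * t * b⁻¹, conj_mem_cj ht, by simp [hts]⟩
  · left
    refine X.hyp.eq_top_of_map le_sup_left (eq_top_iff.2 fun y _ => ?_)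
    obtain ⟨w, rfl⟩ := pr_surjective y
    refine SL2Natural.sl_induction (P := fun w => pr w ∈ (S ⊔ cj a S).map φ)
      (by rw [map_one]; exact one_mem _) (fun u v hu hv => by rw [map_mul]; exact mul_mem hu hv)
      (fun x => ?_) (fun x => ?_) w
    · obtain ⟨s, hs, hsx⟩ := X.hyp.exists_up x
      exact ⟨s, Subgroup.mem_sup_left hs, hsx⟩
    · set r := -z.1 0 0 / z.1 1 0
      set t := -x / z.1 1 0 ^ 2
      have hr : ∀ y : F, pr (up y) ∈ (S ⊔ cj a S).map φ := fun y => by
        obtain ⟨s, hs, hsy⟩ := X.hyp.exists_up y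
        exact ⟨s, Subgroup.mem_sup_left hs, hsy⟩
      have e : low x = up r * (z * up t * z⁻¹) * (up r)⁻¹ := by
        have e' : low x * (up r * z) = up r * z * up t := by
          have hd := z.2
          rw [Matrix.det_fin_two] at hd
          apply Subtype.ext
          simp only [Matrix.SpecialLinearGroup.coe_mul, up_val, low_val]
          ext i j
          fin_cases i <;> fin_cases j <;>
            simp [Matrix.mul_apply, Matrix.vecMul, dotProduct, Fin.sum_univ_two, r, t] <;> field_simp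
          · exact Or.inl (by simp)
          · exact Or.inr (by simp)
          · linear_combination (-x) * hd
        calc low x = low x * (up r * z) * (up r * z)⁻¹ := by rw [mul_inv_cancel_right]
          _ = _ := by rw [e']; group
      rw [e, map_mul, map_mul, map_inv]
      exact mul_mem (mul_mem (hr r) (hconj le_sup_left le_sup_right)) (inv_mem (hr r))

/-- An element of order two acting as minus one. -/
theorem exists_minus_one (X : Pre p S Q M n φ) (hp : p ≠ 2)
    (hker : ∀ x : G, (orderOf x).Coprime p → (∀ v ∈ baseV p S, x * v * x⁻¹ * v⁻¹ ∈ baseC p S) →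
      ∀ q ∈ Q, x * q = q * x) :
    ∃ τ : G, (orderOf τ).Coprime p ∧ τ * τ = 1 ∧ (∀ v ∈ baseV p S, τ * v * τ⁻¹ * v ∈ baseC p S) ∧
      ∀ s ∈ S, τ * s * τ⁻¹ * s⁻¹ ∈ Q := by
  obtain ⟨ρ, ψ, D⟩ := X.lineSection.natural X.hyp
  have hK : ∀ g, ρ g = 1 ↔ g ∈ Q := X.rho_ker D.compat D.upper fun x hx hρ =>
    hker x hx ((D.ker_iff inferInstance x).1 hρ)
  have h2 : (-1 : F) ≠ 0 := neg_ne_zero.2 one_ne_zero
  obtain ⟨t, ht⟩ := D.surj_rho (SL2Natural.tE (-1 : F))
  have hz2 : SL2Natural.tE (-1 : F) * SL2Natural.tE (-1 : F) = 1 := by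
    rw [SL2Natural.tE_mul h2 h2]
    apply Subtype.ext
    rw [SL2Natural.tE_val (by simp), Matrix.SpecialLinearGroup.coe_one]
    ext i j
    fin_cases i <;> fin_cases j <;> simp
  obtain ⟨k, m, hm, e⟩ := Nat.exists_eq_pow_mul_and_not_dvd (orderOf_pos t).ne' p (Fact.out : p.Prime).ne_one
  set τ := t ^ p ^ k
  have hcop : (orderOf τ).Coprime p := by
    refine Nat.Coprime.coprime_dvd_left (orderOf_dvd_of_pow_eq_one ?_)
      (((Fact.out : p.Prime).coprime_iff_not_dvd.2 hm).symm)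
    rw [← pow_mul, ← e, pow_orderOf_eq_one]
  have hodd : Odd (p ^ k) := ((Fact.out : p.Prime).odd_of_ne_two hp).pow
  have hρ : ρ τ = SL2Natural.tE (-1 : F) := by
    obtain ⟨j, hj⟩ := hodd
    rw [map_pow, ht, hj, pow_succ, pow_mul, pow_two, hz2, one_pow, one_mul]
  refine ⟨τ, hcop, ?_, fun v hv => ?_, fun s hs => (hK _).1 ?_⟩
  · have hQ : τ * τ ∈ Q := (hK _).1 (by rw [map_mul, hρ, hz2])
    obtain ⟨i, hi⟩ := X.isPGroup_Q ⟨_, hQ⟩
    refine orderOf_eq_one_iff.1 (Nat.eq_one_of_dvd_coprimes (Nat.Coprime.pow_right i ?_) dvd_rfl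
      (orderOf_dvd_of_pow_eq_one (by simpa using congrArg Subtype.val hi)))
    exact Nat.Coprime.coprime_dvd_left (by rw [← pow_two]; exact orderOf_pow_dvd 2) hcop
  · have hv' := (baseV_normal p S).conj_mem v hv τ
    refine (D.ker _ (mul_mem hv' hv)).1 ?_
    rw [D.map_mul _ hv' _ hv, D.act τ v hv, hρ, SL2Natural.tE_val h2]
    ext i
    fin_cases i <;> simp [dotProduct, Fin.sum_univ_two]
  · obtain ⟨x, hx⟩ := D.upper s hs
    rw [map_mul, map_mul, map_mul, map_inv, map_inv, hρ, hx, SL2Natural.tE_up h2, neg_one_sq, one_mul,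
      mul_inv_cancel_right, mul_inv_cancel]

end Member

/-! The family. -/

section Family

variable {Γ : Type*} [Group Γ] [Finite Γ] {p : ℕ} [Fact p.Prime] {S : Subgroup Γ} {I : Type*}
  {G : I → Type*} [∀ i, Group (G i)] [∀ i, Finite (G i)] {F : I → Type*} [∀ i, Field (F i)] [∀ i, Fintype (F i)]
  {S' Q' M' : ∀ i, Subgroup (G i)} {n : I → ℕ} {φ : ∀ i, G i →* PSL2 (F i)} {ι : ∀ i, G i →* Γ}

theorem exists_charts (E : ∀ i, Emb p (S' i) (Q' i) (M' i) (n i) (φ i) (ι i)) (hS : ∀ i, (S' i).map (ι i) = S)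
    (hZ : ∀ z ∈ S ⊓ ℭ S, z ^ p = 1) (hbal : Balanced S) (hpS : IsPGroup p S) :
    Geo p S (fun i => (ι i).range) (fun i => (Q' i).map (ι i)) (fun i => (baseV p (S' i)).map (ι i)) n ∧
    ∀ i, Chart p S (fun i => (ι i).range) (fun i => (Q' i).map (ι i)) (fun i => (baseV p (S' i)).map (ι i)) n i
      (S' i) (Q' i) (M' i) (φ i) (ι i) := by
  have hZmap : ∀ i, (omegaZ p (S' i)).map (ι i) = S ⊓ ℭ S := fun i => by
    show (E i).Z = _
    rw [(E i).Z_eq, show (E i).S₁ = S from hS i]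
    exact le_antisymm (fun z hz => ⟨hz.1, hz.2.1⟩) fun z hz => ⟨hz.1, hz.2, hZ z hz⟩
  have C : ∀ i, Chart p S (fun i => (ι i).range) (fun i => (Q' i).map (ι i))
      (fun i => (baseV p (S' i)).map (ι i)) n i (S' i) (Q' i) (M' i) (φ i) (ι i) := fun i =>
    ⟨E i, rfl, hS i, rfl, rfl, hZmap i⟩
  have hnorm : ∀ {i} {R : Subgroup Γ}, (∀ g ∈ (ι i).range, cj g R = R) → (R.comap (ι i)).Normal := fun {i} {R} h =>
    ⟨fun r hr g => by
      show ι i (g * r * g⁻¹) ∈ R
      rw [map_mul, map_mul, map_inv]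
      exact (h _ ⟨g, rfl⟩).le (conj_mem_cj hr)⟩
  have hmk : ∀ {i} {R : Subgroup (G i)} {g : G i}, (R.map (MulAut.conj g).toMonoidHom).map (ι i) =
      cj (ι i g) (R.map (ι i)) := fun {i} {R} {g} => by
    show _ = (R.map (ι i)).map _
    rw [Subgroup.map_map, Subgroup.map_map]
    congr 1
    ext x
    simp
  refine ⟨{
      isPGroup := hpS
      bal := hbal
      Z_pow := hZ
      S_le := fun i => (hS i).ge.trans (E i).S_le
      Q_le := fun i => (E i).Q_le.trans (hS i).le
      V_le := fun i => (E i).V_le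
      Z_le := fun i => (hZmap i).ge.trans (E i).Z_le
      norm_Q := fun i _ hg => (E i).cj_Q hg
      norm_V := fun i _ hg => (E i).cj_V hg
      V_pow := fun i _ hv => (E i).V_pow hv
      QV := fun i _ hq _ hv => (E i).QV_comm hq hv
      mem_Q := fun i _ hx hp hc => (E i).mem_Q hx hp hc
      fixed_eq := fun i s hs hsQ v hv h => (hZmap i).le ((E i).fixed_eq ((hS i).ge hs) hsQ hv h)
      into := fun i s hs v hv => (hZmap i).le ((E i).into ((hS i).ge hs) hv)
      fpf := ?_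
      n_pos := fun i => (E i).ctx.hyp.one_le
      relQ := fun i => by
        have := (E i).relIndex_S
        rwa [show (E i).S₁ = S from hS i] at this
      relV := fun i => by
        have := (E i).relIndex_V
        rwa [show (E i).Z = _ from hZmap i] at this
      relC := ?_
      good := fun i => by
        have := (E i).exists_good
        rwa [show (E i).S₁ = S from hS i] at this
      dich := ?_
      fix := ?_
      step := ?_
      tau := ?_ }, C⟩
  · rintro i x hx hp v hv h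
    refine (E i).fpf hx hp hv ?_
    have hm : x * v * x⁻¹ * v⁻¹ ∈ (baseV p (S' i)).map (ι i) :=
      mul_mem (((E i).cj_V hx).le (conj_mem_cj hv)) (inv_mem hv)
    obtain ⟨c, hc, he⟩ := hm
    exact ⟨c, (C i).mem_baseC hc (he ▸ h), he⟩
  · intro i
    have e : (baseV p (S' i)).map (ι i) ⊓ ℭ (ι i).range = (baseC p (S' i)).map (ι i) := by
      refine le_antisymm ?_ fun v hv => ?_
      · rintro _ ⟨⟨c, hc, rfl⟩, h⟩
        exact ⟨c, (C i).mem_baseC hc h, rfl⟩
      · obtain ⟨c, hc, rfl⟩ := hv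
        exact ⟨⟨c, hc.1, rfl⟩, (C i).baseC_cent hc⟩
    show ((baseV p (S' i)).map (ι i) ⊓ ℭ (ι i).range).relIndex (S ⊓ ℭ S) = _
    rw [e, ← hZmap i, Subgroup.relIndex_map_map_of_injective _ _ (E i).inj]
    exact (E i).ctx.card_line
  · rintro i _ ⟨a, rfl⟩
    have key : ∀ {g : G i}, S' i ⊔ cj g (S' i) = ⊤ ↔ S ⊔ cj (ι i g) S = (ι i).range := fun {g} => by
      rw [← hS i, ← hmk, ← Subgroup.map_sup, MonoidHom.range_eq_map]
      exact ⟨fun h => congrArg _ h, fun h => Subgroup.map_injective (E i).inj h⟩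
    rcases dichotomy (E i).ctx a with h | h
    · exact Or.inl (key.1 h)
    · refine Or.inr ?_
      rintro _ ⟨b, rfl⟩ hb
      rw [← map_mul]
      exact key.1 (h b (key.2 hb))
  · rintro i R' R U hR' hR hRX hU hUQ h _ ⟨x, rfl⟩ hx r hr
    obtain ⟨r, rfl⟩ := hRX hr
    rw [orderOf_injective (ι i) (E i).inj] at hx
    have hUX : U ≤ (ι i).range := (hU.trans (hS i).ge).trans (Subgroup.map_le_range _ _)
    have h1 := (E i).ctx.fixes_of (hnorm hR') (hnorm hR) (U := U.comap (ι i))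
      (fun u hu => (C i).of_map ((hS i).ge (hU hu))) (fun hle => hUQ fun u hu => by
        obtain ⟨u₀, rfl⟩ := hUX hu
        exact ⟨u₀, hle hu, rfl⟩) (fun u hu r hr => by
        show ι i (u * r * u⁻¹ * r⁻¹) ∈ R'
        simpa using h _ hu _ hr) x hx r hr
    have h2 : ι i (x * r * x⁻¹ * r⁻¹) ∈ R' := h1
    simpa using h2
  · rintro i R hR _ ⟨x, rfl⟩ hx _ ⟨u, hu, rfl⟩ h
    rw [orderOf_injective (ι i) (E i).inj] at hx
    have h1 := (E i).ctx.coprime_step (hnorm hR) hx hu (show ι i _ ∈ R by simpa using h)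
    have h2 : ι i (x * u * x⁻¹ * u⁻¹) ∈ R := h1
    simpa using h2
  · intro i hp hker
    obtain ⟨t, hc, ht, hv, hs⟩ := exists_minus_one (E i).ctx hp fun x hx hx' q hq => (E i).inj (by
      rw [map_mul, map_mul]
      refine hker (ι i x) ⟨x, rfl⟩ (by rwa [orderOf_injective (ι i) (E i).inj]) ?_ _ ⟨q, hq, rfl⟩
      rintro _ ⟨v, hv, rfl⟩
      rw [← map_inv, ← map_inv, ← map_mul, ← map_mul, ← map_mul]
      exact (C i).baseC_cent (hx' v hv))
    refine ⟨ι i t, ⟨t, rfl⟩, by rwa [orderOf_injective (ι i) (E i).inj], by rw [← map_mul, ht, map_one], ?_, ?_⟩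
    · rintro _ ⟨v, hv', rfl⟩
      rw [← map_inv, ← map_mul, ← map_mul, ← map_mul]
      exact (C i).baseC_cent (hv v hv')
    · intro s hs'
      obtain ⟨s, hs'', rfl⟩ := (hS i).ge hs'
      rw [← map_inv, ← map_inv, ← map_mul, ← map_mul, ← map_mul]
      exact ⟨_, hs s hs'', rfl⟩

end Family

/-- One abelian subgroup of the lattice, characteristic in `S` and normal in every member of the family. -/
theorem exists_invariant {S : Type u} [Group S] [Finite S] {p : ℕ} [Fact p.Prime] (hS : IsPGroup p S)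
    (hZ : ∀ z ∈ Subgroup.center S, z ^ p = 1) (htop : IsMaxCD (⊤ : Subgroup S))
    (hab : ∀ A ∈ Cfsg.maxAbelianSubgroups S, IsMaxCD A) (hJ : Cfsg.thompsonSubgroupA S = ⊤)
    {I : Type} [Finite I] [Nonempty I] {G : I → Type u} [∀ i, Group (G i)] [∀ i, Finite (G i)]
    (τ : ∀ i, S →* G i) (hτ : ∀ i, Function.Injective (τ i)) {F : I → Type} [∀ i, Field (F i)]
    [∀ i, Fintype (F i)] {Q M : ∀ i, Subgroup (G i)} {n : I → ℕ} {φ : ∀ i, G i →* PSL2 (F i)}
    (hX : ∀ i, Pre p (τ i).range (Q i) (M i) (n i) (φ i))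
    (hone : ∀ i, ∀ U, ¬ OneData p (τ i).range (Q i) U)
    (htwo : ∀ i, p = 3 → ∀ U Y a, ¬ TwoData p (n i) (τ i).range (Q i) U Y a) :
    ∃ Y : Subgroup S, Y.Characteristic ∧ IsMaxCD Y ∧ Y ≤ ℭ Y ∧
      (∀ i, baseV p (τ i).range ≤ Y.map (τ i) ∧ Y.map (τ i) ≤ Q i ∧ (Y.map (τ i)).Normal) ∧
      ∀ R : Subgroup S, R.Characteristic → (∀ i, baseV p (τ i).range ≤ R.map (τ i) ∧ (R.map (τ i)).Normal) →
        Y ≤ R := by
  classical
  set j := boardHom τ
  have hj : Function.Injective j := boardHom_injective τ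
  set ι := fun i => memberHom τ hτ i
  have hcomp : ∀ i, (ι i).comp (τ i) = j := fun i => MonoidHom.ext (memberHom_comp τ hτ i)
  have hrange : ∀ i, (τ i).range.map (ι i) = j.range := fun i => by rw [MonoidHom.map_range, hcomp]
  have E : ∀ i, Emb p (τ i).range (Q i) (M i) (n i) (φ i) (ι i) := fun i =>
    ⟨hX i, memberHom_injective τ hτ i⟩
  have hbal := balanced_range hj htop hab hJ
  have hZ' : ∀ z ∈ j.range ⊓ ℭ j.range, z ^ p = 1 := by
    rintro _ ⟨⟨z, rfl⟩, hz⟩
    rw [← map_pow, hZ z (Subgroup.mem_center_iff.2 fun g => hj (by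
      rw [map_mul, map_mul]; exact hz _ ⟨g, rfl⟩)), map_one]
  obtain ⟨A, C⟩ := exists_charts E hrange hZ' hbal (hS.of_surjective j.rangeRestrict j.rangeRestrict_surjective)
  obtain ⟨Z, hZl, hZa, hZi, hZN, hleast⟩ := (A.to_geo2 C hone).exists_core C htwo
  obtain ⟨Y, hYdef⟩ : ∃ Y, Y = Z.comap j := ⟨_, rfl⟩
  have hYZ : Y.map j = Z := hYdef ▸ Subgroup.map_comap_eq_self hZl.le
  have hYi : ∀ i, (Y.map (τ i)).map (ι i) = Z := fun i => by rw [Subgroup.map_map, hcomp, hYZ]
  have hinj : ∀ i, Function.Injective (ι i) := fun i => memberHom_injective τ hτ i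
  refine ⟨Y, ?_, ?_, ?_, fun i => ?_, ?_⟩
  · rw [Subgroup.characteristic_iff_map_le]
    rintro α _ ⟨y, hy, rfl⟩
    rw [hYdef] at hy ⊢
    show j (α y) ∈ Z
    rw [← autPerm_conj τ α y]
    exact (hZN _ (autPerm_mem τ α)).le (conj_mem_cj hy)
  · refine htop.of_le ?_
    rw [← cdIn_map hj Y, hYZ, hZl.eq, ← cdIn_map hj, ← MonoidHom.range_eq_map]
  · intro y hy x hx
    refine hj ?_
    rw [map_mul, map_mul]
    have e : ∀ {u}, u ∈ Y → j u ∈ Z := fun hu => hYZ ▸ ⟨_, hu, rfl⟩
    exact hZa (e hy) _ (e hx)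
  · obtain ⟨hV, hQ, hN⟩ := hZi i
    refine ⟨?_, ?_, ⟨fun y hy g => ?_⟩⟩
    · rw [← Subgroup.map_le_map_iff_of_injective (hinj i), hYi]
      exact hV
    · rw [← Subgroup.map_le_map_iff_of_injective (hinj i), hYi]
      exact hQ
    · refine (C i).of_map ?_
      rw [hYi, map_mul, map_mul, map_inv]
      exact (hN _ ⟨g, rfl⟩).le (conj_mem_cj (hYi i ▸ ⟨y, hy, rfl⟩))
  · intro R hR hRi
    have hRe : ∀ i, (R.map (τ i)).map (ι i) = R.map j := fun i => by rw [Subgroup.map_map, hcomp]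
    have hle : Z ≤ R.map j := hleast _ (fun i => hRe i ▸ Subgroup.map_mono (hRi i).1) ?_ ?_
    · rw [← hYZ, Subgroup.map_le_map_iff_of_injective hj] at hle
      exact hle
    · rintro i x hx
      rw [← hRe i]
      exact (E i).map_normal (hRi i).2 hx
    · intro h hh
      let e : S ≃* ↥j.range := MonoidHom.ofInjective hj
      let α : S ≃* S := (e.trans (j.range.normalizerMonoidHom ⟨h, hh⟩)).trans e.symm
      have hα : ∀ s, j (α s) = h * j s * h⁻¹ := fun s => by
        show j (e.symm _) = _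
        have h1 : ∀ u : ↥j.range, j (e.symm u) = u := fun u => by
          conv_rhs => rw [← e.apply_symm_apply u]
          rfl
        rw [h1]
        rfl
      have hRα : R.map α.toMonoidHom = R := Subgroup.characteristic_iff_map_eq.1 hR α
      ext u
      constructor
      · rintro ⟨_, ⟨r, hr, rfl⟩, rfl⟩
        exact ⟨α r, hRα.le ⟨r, hr, rfl⟩, hα r⟩
      · rintro ⟨r, hr, rfl⟩
        obtain ⟨r', hr', rfl⟩ := hRα.ge hr
        exact ⟨j r', ⟨r', hr', rfl⟩, (hα r').symm⟩

end CfsgLib.PushingUpFamily
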