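/-
The invariants of a `p`-group used for pushing up are natural in isomorphisms.
-/
import Cfsg.Agent.Lib.LocalEvenB.PushingUp
import Cfsg.Agent.Lib.LocalEvenB.BlockConj

set_option autoImplicit false
set_option linter.unusedSectionVars false
set_option linter.style.haveILetI false

namespace CfsgLib.PushingUpFamily.Transfer

open CfsgLib.LocalEvenB CfsgLib.LocalEvenB.CDMeasure CfsgLib.LocalEvenB.CentrallyLarge CfsgLib.LocalEvenB.PushingUp

variable {A B : Type*} [Group A] [Group B] (e : A ≃* B)

local notation "ℭ" X:max => Subgroup.centralizer (SetLike.coe X)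

theorem map_centralizer (R : Subgroup A) : ℭ (R.map e.toMonoidHom) = (ℭ R).map e.toMonoidHom := by
  ext x
  simp only [Subgroup.mem_map_equiv, Subgroup.mem_centralizer_iff, SetLike.mem_coe]
  constructor
  · intro h a ha
    exact e.injective (by simpa using h (e a) (by simpa using ha))
  · intro h a ha
    exact e.symm.injective (by simpa using h _ ha)

theorem map_symm_map (R : Subgroup B) : (R.map e.symm.toMonoidHom).map e.toMonoidHom = R := by
  ext x
  simp

theorem map_le_iff {R : Subgroup A} {T : Subgroup B} :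
    R.map e.toMonoidHom ≤ T ↔ R ≤ T.map e.symm.toMonoidHom := by
  constructor
  · intro h x hx
    exact Subgroup.mem_map_equiv.2 (h ⟨x, hx, rfl⟩)
  · rintro h _ ⟨x, hx, rfl⟩
    exact Subgroup.mem_map_equiv.1 (h hx)

theorem cd_map (R : Subgroup A) : cd (R.map e.toMonoidHom) = cd R := by
  rw [cd, cd, map_centralizer, Subgroup.card_map_of_injective e.injective,
    Subgroup.card_map_of_injective e.injective]

/-- A family of subgroups respected in both directions has its join respected. -/
theorem map_sSup {P : Set (Subgroup A)} {P' : Set (Subgroup B)} (h : ∀ R ∈ P, R.map e.toMonoidHom ∈ P')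
    (h' : ∀ R ∈ P', R.map e.symm.toMonoidHom ∈ P) : (sSup P).map e.toMonoidHom = sSup P' := by
  refine le_antisymm ((map_le_iff e).2 (sSup_le fun R hR => (map_le_iff e).1 (le_sSup (h R hR))))
    (sSup_le fun R hR => ?_)
  rw [← map_symm_map e R]
  exact Subgroup.map_mono (le_sSup (h' R hR))

theorem abelian_map {R : Subgroup A} (h : IsMulCommutative R) : IsMulCommutative ↥(R.map e.toMonoidHom) := by
  rw [← Subgroup.le_centralizer_iff_isMulCommutative, map_centralizer]
  exact Subgroup.map_mono (Subgroup.le_centralizer_iff_isMulCommutative.2 h)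

theorem maxAbelian_map {R : Subgroup A} (hR : R ∈ Cfsg.maxAbelianSubgroups A) :
    R.map e.toMonoidHom ∈ Cfsg.maxAbelianSubgroups B := by
  refine ⟨abelian_map e hR.1, fun X hX => ?_⟩
  rw [Subgroup.card_map_of_injective e.injective, ← Subgroup.card_map_of_injective (f := e.symm.toMonoidHom) e.symm.injective (K := X)]
  exact hR.2 _ (abelian_map e.symm hX)

theorem thompson_map : (Cfsg.thompsonSubgroupA A).map e.toMonoidHom = Cfsg.thompsonSubgroupA B :=
  map_sSup e (fun _ hR => maxAbelian_map e hR) fun _ hR => maxAbelian_map e.symm hR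

variable [Finite A] [Finite B]

theorem maxCD_map {R : Subgroup A} (hR : IsMaxCD R) : IsMaxCD (R.map e.toMonoidHom) := fun T => by
  rw [← map_symm_map e T, cd_map e, cd_map e]
  exact hR _

theorem mcl_map {R : Subgroup A} (hR : MCL R) : MCL (R.map e.toMonoidHom) := by
  refine ⟨maxCD_map e hR.1, map_centralizer e R ▸ Subgroup.map_mono hR.2.1, fun T hT h1 h2 => ?_⟩
  have e1 : T.map e.symm.toMonoidHom = R := hR.2.2 _
    ((map_le_iff e.symm).2 (by rwa [MulEquiv.symm_symm])) (maxCD_map e.symm h1)
    (map_centralizer e.symm T ▸ Subgroup.map_mono h2)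
  rw [← e1, map_symm_map]

theorem mclJoin_map : (Cfsg.minimalCentrallyLargeJoin A).map e.toMonoidHom = Cfsg.minimalCentrallyLargeJoin B :=
  map_sSup e (fun _ hR => (mcl_iff _).2 (mcl_map e ((mcl_iff _).1 hR)))
    fun _ hR => (mcl_iff _).2 (mcl_map e.symm ((mcl_iff _).1 hR))

variable {p : ℕ}

theorem omegaOne_map (R : Subgroup A) :
    Cfsg.omegaOne p (R.map e.toMonoidHom) = (Cfsg.omegaOne p R).map e.toMonoidHom := by
  show Subgroup.closure _ = (Subgroup.closure _).map _
  rw [MonoidHom.map_closure]
  congr 1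
  ext x
  constructor
  · rintro ⟨⟨y, hy, rfl⟩, hx⟩
    exact ⟨y, ⟨hy, e.injective (by rw [map_pow, map_one]; exact hx)⟩, rfl⟩
  · rintro ⟨y, ⟨hy, hyp⟩, rfl⟩
    exact ⟨⟨y, hy, rfl⟩, by rw [← map_pow, hyp, map_one]⟩

theorem maxOmega_map {R : Subgroup A} (hR : IsMaxOmega p R) : IsMaxOmega p (R.map e.toMonoidHom) := by
  refine ⟨mcl_map e hR.1, fun T hT => ?_⟩
  rw [map_centralizer, omegaOne_map, Subgroup.card_map_of_injective e.injective]
  have := hR.2 _ (mcl_map e.symm hT)
  rwa [map_centralizer e.symm, omegaOne_map e.symm, Subgroup.card_map_of_injective e.symm.injective] at this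

theorem frattiniJoin_map [Fact p.Prime] (hA : IsPGroup p A) :
    (Cfsg.frattiniOfMinimalCLJoin p A).map e.toMonoidHom = Cfsg.frattiniOfMinimalCLJoin p B := by
  have hB : IsPGroup p B := hA.of_equiv e
  rw [frattiniJoin_eq, frattiniJoin_eq]
  refine le_antisymm ?_ (iSup_le fun R => ?_)
  · rw [Subgroup.map_iSup]
    refine iSup_le fun R => ?_
    rw [← phi_map _ (hA.to_subgroup R.1)]
    exact le_iSup (fun T : {T : Subgroup B // IsMaxOmega p T} => HSubgroup.phi T.1) ⟨_, maxOmega_map e R.2⟩
  · calc HSubgroup.phi R.1 = (HSubgroup.phi (R.1.map e.symm.toMonoidHom)).map e.toMonoidHom := by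
          rw [← phi_map _ (hA.to_subgroup _), map_symm_map]
      _ ≤ _ := Subgroup.map_mono (le_iSup (fun T : {T : Subgroup A // IsMaxOmega p T} => HSubgroup.phi T.1)
          ⟨_, maxOmega_map e.symm R.2⟩)

/-- A natural subgroup is characteristic. -/
theorem char_of_natural {C : Type*} [Group C] {R : Subgroup C}
    (h : ∀ f : C ≃* C, R.map f.toMonoidHom = R) : R.Characteristic :=
  Subgroup.characteristic_iff_map_eq.2 h

end CfsgLib.PushingUpFamily.Transfer
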