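/-
A pushing-up situation over a balanced group in which a part of the Frattini layer is not normal.
-/
import Cfsg.Agent.Lib.PushingUpFamily.Setup
import Cfsg.Agent.Lib.PushingUpFamily.Exc
import Cfsg.Agent.Lib.PushingUpFamily.Transfer

set_option autoImplicit false
set_option linter.unusedSectionVars false
set_option linter.style.haveILetI false

open scoped MatrixGroups commutatorElement

namespace CfsgLib.PushingUpFamily

open CfsgLib.LocalEven.PushingUpClosure CfsgLib.PushingUpRankOne CfsgLib.LocalEvenB.PushingUp CfsgLib.LocalEvenB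
  CfsgLib.LocalEvenB.CDMeasure

local notation "ℭ" X:max => Subgroup.centralizer (SetLike.coe X)

/-- The subgroup attached to the exceptional class. -/
noncomputable def lowerPart (p : ℕ) (S : Type*) [Group S] : Subgroup S :=
  if p = 2 then ⁅frattini S, (⊤ : Subgroup S)⁆ ⊔ (frattini ↥(frattini S)).map (frattini S).subtype
  else if p = 3 then ⁅⁅frattini S, (⊤ : Subgroup S)⁆, (⊤ : Subgroup S)⁆ ⊔
    (frattini ↥(frattini S)).map (frattini S).subtype
  else ⁅frattini S, (⊤ : Subgroup S)⁆ ⊔ Cfsg.powerClosure p 1 (⊤ : Subgroup S)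

variable {S : Type*} [Group S] [Finite S] {p : ℕ} [Fact p.Prime] {G : Type*} [Group G] [Finite G]
  {τ : S →* G}

theorem map_frattini_eq (hτ : Function.Injective τ) : (frattini S).map τ = HSubgroup.phi τ.range := by
  have h : (frattini S).map (MonoidHom.ofInjective hτ).toMonoidHom = frattini ↥τ.range :=
    BlockConj.frattini_map_equiv _
  rw [HSubgroup.phi, ← h, Subgroup.map_map]
  rfl

theorem map_frattini_frattini (hτ : Function.Injective τ) (hS : IsPGroup p S) :
    ((frattini ↥(frattini S)).map (frattini S).subtype).map τ = HSubgroup.phi (HSubgroup.phi τ.range) := by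
  rw [← map_frattini_eq hτ, phi_map τ (hS.to_subgroup _)]
  rfl

theorem map_center (hτ : Function.Injective τ) :
    (Subgroup.center S).map τ = τ.range ⊓ ℭ τ.range := by
  have h := map_centralizer_range hτ (⊤ : Subgroup S)
  rw [Subgroup.coe_top, Subgroup.centralizer_univ, ← MonoidHom.range_eq_map] at h
  exact h.symm

/-- What makes a pushing-up situation a member of the families. -/
structure Balance (p : ℕ) (S : Type*) [Group S] [Finite S] : Prop where
  isPGroup : IsPGroup p S
  center_pow : ∀ z ∈ Subgroup.center S, z ^ p = 1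
  top : IsMaxCD (⊤ : Subgroup S)
  maxAb : ∀ A ∈ Cfsg.maxAbelianSubgroups S, IsMaxCD A
  join : Cfsg.thompsonSubgroupA S = ⊤

theorem exists_member (B : Balance p S) (hτ : Function.Injective τ)
    (hpu : Cfsg.IsPushingUpSituation p τ.range)
    (hnot : ¬ ((Subgroup.center S ⊓ lowerPart p S).map τ).Normal) :
    ∃ (F : Type) (_ : Field F) (_ : Fintype F) (n : ℕ) (φ : G →* PSL2 F) (M Q : Subgroup G),
      Pre p τ.range Q M n φ ∧ (∀ U, ¬ OneData p τ.range Q U) ∧
        (p = 3 → ∀ U Y a, ¬ TwoData p n τ.range Q U Y a) := by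
  obtain ⟨M, hs⟩ := setup_of hpu
  obtain ⟨-, -, -, -, K, hK, F, iF, iFt, n, hF, ⟨e⟩⟩ := hpu
  have hn : 1 ≤ n := by
    rcases Nat.eq_zero_or_pos n with rfl | h
    · have := Fintype.one_lt_card (α := F)
      simp [hF] at this
    · exact h
  obtain ⟨φ, -, H⟩ := exists_hyp hs hn hF (e.toMonoidHom.comp (QuotientGroup.mk' K))
    (e.surjective.comp (QuotientGroup.mk'_surjective K))
  set S₁ := (Subgroup.center S ⊓ lowerPart p S).map τ
  have hncent : ¬ S₁ ≤ Subgroup.center G := fun hle => hnot ⟨fun x hx g => by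
    rw [Subgroup.mem_center_iff.1 (hle hx) g, mul_inv_cancel_right]; exact hx⟩
  have hS₁ : S₁ ≤ omegaZ p τ.range := by
    rintro _ ⟨z, hz, rfl⟩
    have := (map_center hτ).le ⟨z, hz.1, rfl⟩
    exact ⟨this.1, this.2, by rw [← map_pow, B.center_pow z hz.1, map_one]⟩
  have hbal := balanced_range hτ B.top B.maxAb B.join
  have X : Pre p τ.range (Cfsg.pCore p G) M n φ := ⟨H, fun h => hncent (hS₁.trans h), by
    by_contra! hall
    obtain ⟨s, hs', hsQ⟩ := H.exists_notQ
    exact hsQ (hbal.gen _ hall hs')⟩
  -- the layer is not fixed by all elements of order prime to `p`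
  have hfix : ¬ ∀ x : G, (orderOf x).Coprime p → ∀ r ∈ S₁, x * r = r * x := fun h => hncent fun y hy =>
    mem_center_of_fixed X.hyp.setup (hS₁ hy).2.1 fun x hx => h x hx y hy
  have hle : (lowerPart p S).map τ ≤ HSubgroup.phi (Cfsg.pCore p G) →
      S₁ ≤ HSubgroup.phi (Cfsg.pCore p G) := (Subgroup.map_mono inf_le_right).trans
  refine ⟨F, iF, iFt, n, φ, M, Cfsg.pCore p G, X, fun U D => ?_, fun hp U Y a T => ?_⟩
  · refine hfix fun x hx r hr => OneData.phi_fixed X D x hx r (hle ?_ hr)
    have h1 := OneData.comm_phi X D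
    have h2 := phi_phi_le X
    have h1' : ⁅frattini S, (⊤ : Subgroup S)⁆.map τ ≤ HSubgroup.phi (Cfsg.pCore p G) := by
      rwa [Subgroup.map_commutator, map_frattini_eq hτ, ← MonoidHom.range_eq_map]
    unfold lowerPart
    split_ifs with hp2 hp3
    · rw [Subgroup.map_sup, map_frattini_frattini hτ B.isPGroup]
      exact sup_le h1' h2
    · rw [Subgroup.map_sup, map_frattini_frattini hτ B.isPGroup]
      refine sup_le ((Subgroup.map_mono ?_).trans h1') h2
      haveI : (frattini S).Normal := inferInstance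
      exact Subgroup.commutator_mono (Subgroup.commutator_le_left _ _) le_rfl
    · rw [Subgroup.map_sup]
      refine sup_le h1' (Subgroup.map_le_iff_le_comap.2 ((Subgroup.closure_le _).2 ?_))
      rintro _ ⟨s, -, rfl⟩
      show τ (s ^ p ^ 1) ∈ HSubgroup.phi _
      rw [pow_one, map_pow]
      exact OneData.pow_phi X D hp2 ⟨s, rfl⟩
  · refine hfix fun x hx r hr => TwoData.phi_fixed X T hp x hx r (hle ?_ hr)
    have h1 := TwoData.comm_comm_phi X T hp
    unfold lowerPart
    rw [if_neg (by omega), if_pos hp, Subgroup.map_sup, map_frattini_frattini hτ B.isPGroup,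
      Subgroup.map_commutator, Subgroup.map_commutator, map_frattini_eq hτ, ← MonoidHom.range_eq_map]
    exact sup_le h1 (phi_phi_le X)

end CfsgLib.PushingUpFamily
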