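/-
One subgroup that is normal in every member.
-/
import Cfsg.Agent.Lib.PushingUpFamily.Member

set_option autoImplicit false
set_option linter.unusedSectionVars false
set_option linter.style.haveILetI false

universe u

namespace CfsgLib.PushingUpFamily

open CfsgLib.LocalEven.PushingUpClosure CfsgLib.PushingUpRankOne CfsgLib.LocalEvenB.PushingUp CfsgLib.LocalEvenB
  CfsgLib.LocalEvenB.CDMeasure

local notation "ℭ" X:max => Subgroup.centralizer (SetLike.coe X)

variable (p : ℕ) [Fact p.Prime] (S : Type u) [Group S] [Finite S]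

/-- A member. -/
structure Member where
  grp : Type u
  [isGroup : Group grp]
  [isFinite : Finite grp]
  τ : S →* grp
  inj : Function.Injective τ
  hpu : Cfsg.IsPushingUpSituation p τ.range
  notNormal : ¬ ((Subgroup.center S ⊓ lowerPart p S).map τ).Normal

attribute [instance] Member.isGroup Member.isFinite

variable {p S}

/-- The subgroup belonging to a finite family of members. -/
structure Fits {I : Type} (m : I → Member p S) (Y : Subgroup S) : Prop where
  char : Y.Characteristic
  maxCD : IsMaxCD Y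
  comm : Y ≤ ℭ Y
  inv : ∀ i, baseV p (m i).τ.range ≤ Y.map (m i).τ ∧ (Y.map (m i).τ).Normal
  least : ∀ R : Subgroup S, R.Characteristic →
    (∀ i, baseV p (m i).τ.range ≤ R.map (m i).τ ∧ (R.map (m i).τ).Normal) → Y ≤ R

theorem exists_fits (B : Balance p S) {I : Type} [Finite I] [Nonempty I] (m : I → Member p S) :
    ∃ Y, Fits m Y := by
  choose F iF iFt n φ M Q hX hone htwo using fun i => exists_member B (m i).inj (m i).hpu (m i).notNormal
  obtain ⟨Y, h1, h2, h3, h4, h5⟩ := exists_invariant B.isPGroup B.center_pow B.top B.maxAb B.join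
    (fun i => (m i).τ) (fun i => (m i).inj) hX hone htwo
  exact ⟨Y, h1, h2, h3, fun i => ⟨(h4 i).1, (h4 i).2.2⟩, h5⟩

/-- A characteristic subgroup of the lattice whose image is normal in every member. -/
theorem exists_common [Nontrivial S] (B : Balance p S) :
    ∃ S₂ : Subgroup S, S₂ ≠ ⊥ ∧ S₂.Characteristic ∧ IsMaxCD S₂ ∧ ℭ S₂ ≤ S₂ ∧
      ∀ m : Member p S, (S₂.map m.τ).Normal := by
  classical
  by_cases hm : Nonempty (Member p S)
  swap
  · refine ⟨⊤, top_ne_bot, inferInstance, B.top, le_top, fun m => absurd ⟨m⟩ hm⟩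
  obtain ⟨m₀⟩ := hm
  obtain ⟨Y, ⟨I, hI, hI', m, hY⟩, hmax⟩ := (Set.toFinite {Y : Subgroup S |
      ∃ (I : Type) (_ : Finite I) (_ : Nonempty I) (m : I → Member p S), Fits m Y}).exists_maximal (by
    obtain ⟨Y, hY⟩ := exists_fits B fun _ : Unit => m₀
    exact ⟨Y, Unit, inferInstance, inferInstance, _, hY⟩)
  have hnorm : ∀ k : Member p S, baseV p k.τ.range ≤ Y.map k.τ ∧ (Y.map k.τ).Normal := fun k => by
    obtain ⟨Y', hY'⟩ := exists_fits B (fun o : Option I => o.elim k m)
    have hle : Y ≤ Y' := hY.least Y' hY'.char fun i => hY'.inv (some i)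
    have : Y' ≤ Y := hmax ⟨Option I, inferInstance, inferInstance, _, hY'⟩ hle
    exact le_antisymm hle this ▸ hY'.inv none
  haveI := hY.char
  refine ⟨ℭ Y, fun h => ?_, inferInstance, hY.maxCD.centralizer, ?_, fun k => ?_⟩
  · haveI := B.isPGroup.center_nontrivial
    have hle : Subgroup.center S ≤ ⊥ := h ▸ Subgroup.center_le_centralizer _
    exact (Subgroup.nontrivial_iff_ne_bot _).1 ‹_› (le_bot_iff.1 hle)
  · rw [hY.maxCD.double_centralizer]
    exact hY.comm
  · obtain ⟨F, iF, iFt, n, φ, M, Q, X, -, -⟩ := exists_member B k.inj k.hpu k.notNormal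
    obtain ⟨hV, hN⟩ := hnorm k
    rw [← map_centralizer_range k.inj]
    have e : k.τ.range ⊓ ℭ (Y.map k.τ) = Q ⊓ ℭ (Y.map k.τ) :=
      le_antisymm (le_inf ((inf_le_inf_left _ (Subgroup.centralizer_le hV)).trans X.inf_cent) inf_le_right)
        (inf_le_inf_right _ X.hyp.setup.le)
    rw [e]
    exact normal_inf X.hyp.setup.normal (normal_centralizer hN)

end CfsgLib.PushingUpFamily
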