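/-
The pair of characteristic subgroups of a `p`-group that serves all pushing-up situations.
-/
import Cfsg.Agent.Lib.PushingUpFamily.Family
import Cfsg.Agent.Lib.Solvable.FrattiniFitting
import Cfsg.Agent.S2769
import Cfsg.Agent.S2770

set_option autoImplicit false
set_option linter.unusedSectionVars false
set_option linter.style.haveILetI false

open scoped Pointwise commutatorElement

universe u

namespace CfsgLib.PushingUpFamily

open CfsgLib.LocalEven.PushingUpClosure CfsgLib.LocalEvenB.PushingUp CfsgLib.LocalEvenB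
  CfsgLib.LocalEvenB.CDMeasure CfsgLib.LocalEvenB.CentrallyLarge

local notation "ℭ" X:max => Subgroup.centralizer (SetLike.coe X)

/-- The centraliser of `Z(J(S))`. -/
def jTilde (S : Type*) [Group S] : Subgroup S :=
  Subgroup.centralizer ((Cfsg.thompsonSubgroupA S ⊓
    Subgroup.centralizer (Cfsg.thompsonSubgroupA S : Set S) : Subgroup S) : Set S)

/-- What is asked of the pair. -/
structure Works (p : ℕ) (S : Type u) [Group S] (S₁ S₂ : Subgroup S) : Prop where
  ne₁ : S₁ ≠ ⊥
  ne₂ : S₂ ≠ ⊥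
  char₁ : S₁.Characteristic
  char₂ : S₂.Characteristic
  le₁ : S₁ ≤ Subgroup.center S
  le₂ : S₂ ≤ jTilde S
  char₂' : (S₂.subgroupOf (jTilde S)).Characteristic
  normal : ∀ (G : Type u) [Group G] [Finite G] (τ : S →* G), Function.Injective τ →
    Cfsg.IsPushingUpSituation p τ.range → (S₁.map τ).Normal ∨ (S₂.map τ).Normal

/-- The class left open. -/
structure Exceptional (p : ℕ) (S : Type*) [Group S] [Finite S] : Prop where
  balance : Balance p S
  nonabelian : ¬ IsMulCommutative S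
  lower : lowerPart p S = ⊥
  tilde : jTilde S = ⊤
  mcl : ∀ A : Subgroup S, MCL A ↔ A ∈ Cfsg.maxAbelianSubgroups S

section General

variable {S : Type*} [Group S] [Finite S]

theorem maxCentralProduct_eq {S₂ Q : Subgroup S} (hQ : IsMaxCD Q) (hQc : ℭ Q ≤ Q) (hle : Q ≤ S₂) :
    Cfsg.maxCentralProduct ↥S₂ = Cfsg.maxCentralProduct S := by
  have hmax : Cfsg.maxCentralProduct S = Nat.card Q * Nat.card ↥(Subgroup.center ↥Q) :=
    ((isCentrallyLarge_iff Q).2 ⟨hQ, hQc⟩).symm
  have hval : ∀ R : Subgroup ↥S₂, Nat.card R * Nat.card ↥(Subgroup.center ↥R) =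
      Nat.card ↥(R.map S₂.subtype) * Nat.card ↥(Subgroup.center ↥(R.map S₂.subtype)) := fun R => by
    let e := R.equivMapOfInjective S₂.subtype S₂.subtype_injective
    rw [Nat.card_congr e.toEquiv, Nat.card_congr (Subgroup.centerCongr e).toEquiv]
  have hb : BddAbove {k : ℕ | ∃ R : Subgroup S, Nat.card R * Nat.card ↥(Subgroup.center ↥R) = k} :=
    (Set.finite_range fun R : Subgroup S => Nat.card R * Nat.card ↥(Subgroup.center ↥R)).bddAbove
  have hup : ∀ R : Subgroup ↥S₂, Nat.card R * Nat.card ↥(Subgroup.center ↥R) ≤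
      Nat.card Q * Nat.card ↥(Subgroup.center ↥Q) := fun R => by
    rw [hval, ← hmax]
    exact le_csSup hb ⟨_, rfl⟩
  rw [hmax, Cfsg.maxCentralProduct]
  refine le_antisymm (csSup_le ⟨_, ⊥, rfl⟩ (by rintro _ ⟨R, rfl⟩; exact hup R))
    (le_csSup ⟨_, by rintro _ ⟨R, rfl⟩; exact hup R⟩ ⟨Q.subgroupOf S₂, ?_⟩)
  rw [hval, Subgroup.map_subgroupOf_eq_of_le hle]

theorem char_of_top {J R : Subgroup S} (hJ : J = ⊤) (hR : R.Characteristic) : (R.subgroupOf J).Characteristic := by
  subst hJ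
  refine Transfer.char_of_natural fun f => ?_
  let g : S ≃* S := (Subgroup.topEquiv.symm.trans f).trans Subgroup.topEquiv
  have h := Subgroup.characteristic_iff_map_eq.1 hR g
  ext ⟨x, hx⟩
  constructor
  · rintro ⟨⟨y, hy'⟩, hy, he⟩
    exact h.le ⟨y, hy, congrArg Subtype.val he⟩
  · intro hxR
    obtain ⟨y, hy, he⟩ := h.ge (hxR : x ∈ R)
    exact ⟨⟨y, trivial⟩, hy, Subtype.ext he⟩

theorem meets_center {p : ℕ} [Fact p.Prime] (hS : IsPGroup p S) (N : Subgroup S) [N.Normal] (hN : N ≠ ⊥) :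
    Subgroup.center S ⊓ N ≠ ⊥ := by
  haveI := hS.isNilpotent
  rw [inf_comm]
  exact CfsgLib.Solvable.FrattiniFitting.inf_center_ne_bot N hN

theorem center_le_jTilde : Subgroup.center S ≤ jTilde S := Subgroup.center_le_centralizer _

theorem jTilde_char : (jTilde S).Characteristic := by
  haveI := CfsgLib.PushingUpRankOne.thompsonA_characteristic S
  exact Subgroup.characteristic_centralizer

theorem map_powerClosure {G : Type*} [Group G] (f : S →* G) (p k : ℕ) (H : Subgroup S) :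
    (Cfsg.powerClosure p k H).map f = Cfsg.powerClosure p k (H.map f) := by
  show (Subgroup.closure _).map f = Subgroup.closure _
  rw [MonoidHom.map_closure]
  congr 1
  ext x
  constructor
  · rintro ⟨_, ⟨y, hy, rfl⟩, rfl⟩
    exact ⟨f y, ⟨y, hy, rfl⟩, map_pow _ _ _⟩
  · rintro ⟨_, ⟨y, hy, rfl⟩, rfl⟩
    exact ⟨_, ⟨y, hy, rfl⟩, map_pow _ _ _⟩

theorem lowerPart_char {p : ℕ} [Fact p.Prime] (hS : IsPGroup p S) : (lowerPart p S).Characteristic := by
  refine Transfer.char_of_natural fun f => ?_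
  have h1 : (frattini S).map f.toMonoidHom = frattini S := BlockConj.frattini_map_equiv f
  have h2 : ((frattini ↥(frattini S)).map (frattini S).subtype).map f.toMonoidHom =
      (frattini ↥(frattini S)).map (frattini S).subtype := by
    show (HSubgroup.phi (frattini S)).map _ = HSubgroup.phi (frattini S)
    rw [← phi_map _ (hS.to_subgroup _), h1]
  have h3 : (⊤ : Subgroup S).map f.toMonoidHom = ⊤ := Subgroup.map_top_of_surjective _ f.surjective
  unfold lowerPart
  split_ifs <;> simp only [Subgroup.map_sup, Subgroup.map_commutator, map_powerClosure, h1, h2, h3]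

variable {G : Type*} [Group G] [Finite G] {τ : S →* G}

theorem map_centerThompson (hτ : Function.Injective τ) :
    Cfsg.centerThompsonAOf τ.range =
      (Cfsg.thompsonSubgroupA S ⊓ ℭ (Cfsg.thompsonSubgroupA S)).map τ := by
  have h : Cfsg.thompsonSubgroupAOf τ.range = (Cfsg.thompsonSubgroupA S).map τ := by
    rw [Cfsg.thompsonSubgroupAOf, ← Transfer.thompson_map (MonoidHom.ofInjective hτ), Subgroup.map_map]
    rfl
  rw [Cfsg.centerThompsonAOf, h, Subgroup.map_inf _ _ _ hτ, ← map_centralizer_range hτ, ← inf_assoc,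
    inf_eq_left.2 (Subgroup.map_le_range _ _)]

end General

variable {p : ℕ} [Fact p.Prime]

/-- The data of a situation. -/
theorem pu_data {G : Type*} [Group G] [Finite G] {R : Subgroup G} (h : Cfsg.IsPushingUpSituation p R) :
    ∃ P : Sylow p G, (P : Subgroup G) = R ∧ Subgroup.centralizer (Cfsg.pCore p G : Set G) ≤ Cfsg.pCore p G ∧
      (∃! M : Subgroup G, IsCoatom M ∧ (P : Subgroup G) ≤ M) ∧
      ∃ (K : Subgroup G) (_ : K.Normal) (F : Type) (_ : Field F) (_ : Fintype F) (n : ℕ), 1 ≤ n ∧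
        Fintype.card F = p ^ n ∧ Nonempty (G ⧸ K ≃* Matrix.ProjectiveSpecialLinearGroup (Fin 2) F) := by
  obtain ⟨-, ⟨P, rfl⟩, h1, h2, K, hK, F, iF, iFt, n, hF, he⟩ := h
  refine ⟨P, rfl, h1, h2, K, hK, F, iF, iFt, n, ?_, hF, he⟩
  rcases Nat.eq_zero_or_pos n with rfl | h
  · have := Fintype.one_lt_card (α := F)
    simp [hF] at this
  · exact h

variable {S : Type u} [Group S] [Finite S] [Nontrivial S]

/-- A pair, or the open class. -/
theorem exists_works (hS : IsPGroup p S) :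
    (∃ S₁ S₂ : Subgroup S, Works p S S₁ S₂ ∧
      Cfsg.maxCentralProduct ↥S₂ = Cfsg.maxCentralProduct ↥(jTilde S)) ∨ Exceptional p S := by
  classical
  haveI := CfsgLib.PushingUpRankOne.thompsonA_characteristic S
  haveI := hS.center_nontrivial
  have hZ0 : Subgroup.center S ≠ ⊥ := (Subgroup.nontrivial_iff_ne_bot _).1 ‹_›
  set J := Cfsg.thompsonSubgroupA S with hJdef
  have htop : IsMaxCD (⊤ : Subgroup S) → Cfsg.maxCentralProduct ↥(⊤ : Subgroup S) = Cfsg.maxCentralProduct S :=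
    fun h => maxCentralProduct_eq h le_top le_rfl
  by_cases hT : jTilde S = ⊤
  swap
  · -- `Z(J(S))` is not central
    have hne : ⁅J ⊓ ℭ J, (⊤ : Subgroup S)⁆ ≠ ⊥ := fun h => hT (eq_top_iff.2
      (le_centralizer_comm (Subgroup.commutator_eq_bot_iff_le_centralizer.1 h)))
    refine Or.inl ⟨⁅J ⊓ ℭ J, (⊤ : Subgroup S)⁆ ⊓ Subgroup.center S, jTilde S, ⟨?_, ?_, inferInstance, jTilde_char,
      inf_le_right, le_rfl, ?_, fun G _ _ τ hτ hpu => ?_⟩, rfl⟩
    · rw [inf_comm]; exact meets_center hS _ hne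
    · exact fun h => hZ0 (le_bot_iff.1 (h ▸ center_le_jTilde))
    · rw [Subgroup.subgroupOf_self]; infer_instance
    · obtain ⟨P, hP, h1, h2, K, hK, F, iF, iFt, n, hn, hF, he⟩ := pu_data hpu
      have e1 : ⁅Cfsg.centerThompsonAOf (P : Subgroup G), (P : Subgroup G)⁆ =
          ⁅J ⊓ ℭ J, (⊤ : Subgroup S)⁆.map τ := by
        rw [Subgroup.map_commutator, ← MonoidHom.range_eq_map, hP, map_centerThompson hτ]
      have e2 : (jTilde S).map τ = (P : Subgroup G) ⊓ ℭ (Cfsg.centerThompsonAOf (P : Subgroup G)) := by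
        rw [hP, map_centerThompson hτ, map_centralizer_range hτ]
        rfl
      rw [Subgroup.map_inf _ _ _ hτ, map_center hτ, ← hP, ← e1, e2]
      exact Cfsg.Agent.S2769.result P h1 h2 K F n hn hF he (by
        rw [e1, Ne, Subgroup.map_eq_bot_iff_of_injective _ hτ]; exact hne)
  have hin : ∀ R : Subgroup S, R ≤ jTilde S := fun R => hT ▸ le_top
  have hmcp : ∀ {Q S₂ : Subgroup S}, IsMaxCD Q → ℭ Q ≤ Q → Q ≤ S₂ →
      Cfsg.maxCentralProduct ↥S₂ = Cfsg.maxCentralProduct ↥(jTilde S) := fun hQ hQc hle => by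
    rw [maxCentralProduct_eq hQ hQc hle, maxCentralProduct_eq hQ hQc (hT ▸ le_top)]
  by_cases habel : IsMulCommutative S
  · obtain ⟨Q, hQ⟩ := exists_mcl (G := S)
    refine Or.inl ⟨⊤, ⊤, ⟨top_ne_bot, top_ne_bot, inferInstance, inferInstance, ?_, hin _, char_of_top hT inferInstance,
      fun G _ _ τ hτ hpu => Or.inl ?_⟩, hmcp hQ.1 hQ.2.1 le_top⟩
    · exact fun x _ => Subgroup.mem_center_iff.2 fun g => mul_comm' g x
    · obtain ⟨P, hP, h1, -⟩ := pu_data hpu
      rw [← MonoidHom.range_eq_map]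
      have hle : τ.range ≤ Cfsg.pCore p G := fun x hx => h1 fun y hy => by
        obtain ⟨a, rfl⟩ := hx
        obtain ⟨b, rfl⟩ : y ∈ τ.range := hP ▸ Solvable.Cores.pCore_le_sylow P hy
        rw [← map_mul, ← map_mul, mul_comm']
      rw [le_antisymm hle (hP ▸ Solvable.Cores.pCore_le_sylow P)]
      infer_instance
  by_cases hna : ∃ Q : Subgroup S, MCL Q ∧ ¬ IsMulCommutative Q
  · -- a nonabelian minimal centrally large subgroup
    obtain ⟨Q, hQ, hQn⟩ := hna
    haveI := commutator_characteristic hQ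
    have hQ0 : ⁅Q, Q⁆ ≠ ⊥ := fun h => hQn (abelian_iff_commutator.2 h)
    have hle : Q ≤ Cfsg.minimalCentrallyLargeJoin S := le_sSup ((mcl_iff Q).2 hQ)
    have hc := Transfer.char_of_natural (R := Cfsg.minimalCentrallyLargeJoin S) fun f => Transfer.mclJoin_map f
    refine Or.inl ⟨Subgroup.center S ⊓ ⁅Q, Q⁆, Cfsg.minimalCentrallyLargeJoin S, ⟨meets_center hS _ hQ0, fun h => ?_,
      inferInstance, hc, inf_le_left, hin _, char_of_top hT hc, fun G _ _ τ hτ hpu => ?_⟩, hmcp hQ.1 hQ.2.1 hle⟩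
    · obtain rfl : Q = ⊥ := le_bot_iff.1 (hle.trans h.le)
      exact hQn inferInstance
    · set e := MonoidHom.ofInjective hτ
      have h := main_commutator hpu (Q.map e.toMonoidHom) (Transfer.mcl_map e hQ)
      have he : ∀ R : Subgroup S, (R.map e.toMonoidHom).map τ.range.subtype = R.map τ := fun R => by
        rw [Subgroup.map_map]; rfl
      rw [← Subgroup.map_commutator, he, ← Transfer.mclJoin_map e, he, ← map_center hτ,
        ← Subgroup.map_inf _ _ _ hτ] at h
      exact h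
  simp only [not_exists, not_and, not_not] at hna
  obtain ⟨Q₀, hQ₀⟩ := exists_mcl (G := S)
  obtain ⟨hall, hiff⟩ := mcl_eq_maxAbelian hQ₀ (hna Q₀ hQ₀)
  have hJcd : IsMaxCD J := by
    obtain ⟨A₀, hA₀⟩ := exists_maxAbelian (G := S)
    exact IsMaxCD.sSup ⟨A₀, hA₀⟩ fun A hA => (hall A hA).1
  have hJtop : J = ⊤ := by
    rw [← hJcd.double_centralizer, ← inf_centralizer_join]
    exact hT
  have hTop : IsMaxCD (⊤ : Subgroup S) := hJtop ▸ hJcd
  by_cases hel : Cfsg.IsElementaryAbelian p (Subgroup.center S)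
  swap
  · -- the centre is not elementary
    have hpne : Cfsg.powerClosure p 1 (Subgroup.center S) ≠ ⊥ := fun h => hel ⟨inferInstance, fun a ha =>
      Subgroup.mem_bot.1 (h ▸ Subgroup.subset_closure ⟨a, ha, by rw [pow_one]⟩)⟩
    have hle : Cfsg.powerClosure p 1 (Subgroup.center S) ≤ Subgroup.center S := (Subgroup.closure_le _).2 (by
      rintro _ ⟨x, hx, rfl⟩; exact pow_mem hx _)
    have hc : (Cfsg.powerClosure p 1 (Subgroup.center S)).Characteristic := Transfer.char_of_natural fun f => by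
      rw [map_powerClosure, Subgroup.characteristic_iff_map_eq.1 inferInstance f]
    refine Or.inl ⟨_, ⊤, ⟨hpne, top_ne_bot, hc, inferInstance, hle, hin _, char_of_top hT inferInstance,
      fun G _ _ τ hτ hpu => ?_⟩, hmcp hTop le_top le_rfl⟩
    obtain ⟨P, hP, h1, h2, K, hK, F, iF, iFt, n, hn, hF, he⟩ := pu_data hpu
    have e1 : (P : Subgroup G) ⊓ ℭ (P : Subgroup G) = (Subgroup.center S).map τ := by rw [hP, map_center hτ]
    have e2 : (⊤ : Subgroup S).map τ = (P : Subgroup G) ⊓ ℭ (Cfsg.centerThompsonAOf (P : Subgroup G)) := by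
      rw [hP, map_centerThompson hτ, map_centralizer_range hτ, ← hT]
      rfl
    rw [map_powerClosure, ← e1, e2]
    refine Cfsg.Agent.S2770.result P h1 h2 K F n hn hF he fun hE => hel ⟨inferInstance, fun a ha => hτ ?_⟩
    rw [map_pow, map_one]
    exact hE.2 _ (e1.ge ⟨a, ha, rfl⟩)
  have B : Balance p S := ⟨hS, fun z hz => hel.2 z hz, hTop, fun A hA => (hall A hA).1, hJtop⟩
  by_cases h0 : lowerPart p S = ⊥
  · exact Or.inr ⟨B, habel, h0, hT, hiff⟩
  haveI := lowerPart_char (p := p) hS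
  obtain ⟨S₂, h1, h2, h3, h4, h5⟩ := exists_common B
  refine Or.inl ⟨Subgroup.center S ⊓ lowerPart p S, S₂, ⟨meets_center hS _ h0, h1, inferInstance, h2, inf_le_left, hin _,
    char_of_top hT h2, fun G _ _ τ hτ hpu => ?_⟩, hmcp h3 h4 le_rfl⟩
  by_cases hn : ((Subgroup.center S ⊓ lowerPart p S).map τ).Normal
  · exact Or.inl hn
  · exact Or.inr (h5 ⟨G, τ, hτ, hpu, hn⟩)

end CfsgLib.PushingUpFamily
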