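/-
The class left open by the pair, in explicit terms.
-/
import Cfsg.Agent.Lib.PushingUpFamily.Main

set_option autoImplicit false
set_option linter.unusedSectionVars false
set_option linter.style.haveILetI false

open scoped Pointwise commutatorElement

universe u

namespace CfsgLib.PushingUpFamily

open CfsgLib.LocalEvenB.PushingUp CfsgLib.LocalEvenB CfsgLib.LocalEvenB.CDMeasure CfsgLib.LocalEvenB.CentrallyLarge

local notation "ℭ" X:max => Subgroup.centralizer (SetLike.coe X)

variable {S : Type u} [Group S] [Finite S] {p : ℕ} [Fact p.Prime]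

theorem Exceptional.explicit [Nontrivial S] (E : Exceptional p S) :
    ¬ IsMulCommutative S ∧ Cfsg.thompsonSubgroupA S = ⊤ ∧ Cfsg.IsElementaryAbelian p (Subgroup.center S) ∧
      Cfsg.IsElementaryAbelian p (frattini S) ∧ (p = 2 → frattini S ≤ Subgroup.center S) ∧
      (p = 3 → frattini S ≤ Subgroup.upperCentralSeries S 2) ∧
      (3 < p → frattini S ≤ Subgroup.center S ∧ Monoid.exponent S = p) ∧
      ∀ A ∈ Cfsg.maxAbelianSubgroups S, ∀ B ∈ Cfsg.maxAbelianSubgroups S, ∀ Q : Subgroup S,
        Nat.card ↥A ^ 2 = Nat.card S * Nat.card ↥(Subgroup.center S) ∧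
        Nat.card ↥Q * Nat.card ↥(Subgroup.center ↥Q) ≤ Nat.card S * Nat.card ↥(Subgroup.center S) ∧
        ((A ⊔ B : Subgroup S) : Set S) = (A : Set S) * (B : Set S) ∧
        A ⊔ B = Subgroup.centralizer ((A ⊓ B : Subgroup S) : Set S) := by
  have hS := E.balance.isPGroup
  have hp := (Fact.out : p.Prime).two_le
  have hphi : ∀ {H : Subgroup S}, HSubgroup.phi H = ⊥ → Cfsg.IsElementaryAbelian p H := fun {H} h => by
    refine ⟨Subgroup.le_centralizer_iff_isMulCommutative.1 fun x hx y hy => ?_, fun x hx => ?_⟩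
    · have := HSubgroup.comm_mem_phi (hS.to_subgroup H) hy hx
      rw [h, Subgroup.mem_bot, commutatorElement_eq_one_iff_commute] at this
      exact this.eq
    · have := HSubgroup.pow_mem_phi (hS.to_subgroup H) hx
      rwa [h, Subgroup.mem_bot] at this
  have hcomm : ⁅frattini S, (⊤ : Subgroup S)⁆ = ⊥ → frattini S ≤ Subgroup.center S := fun h => by
    have := Subgroup.commutator_eq_bot_iff_le_centralizer.1 h
    rwa [Subgroup.coe_top, Subgroup.centralizer_univ] at this
  have h0 := E.lower
  unfold lowerPart at h0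
  have hΦ : Cfsg.IsElementaryAbelian p (frattini S) ∧ (p = 2 → frattini S ≤ Subgroup.center S) ∧
      (p = 3 → frattini S ≤ Subgroup.upperCentralSeries S 2) ∧
      (3 < p → frattini S ≤ Subgroup.center S ∧ Monoid.exponent S = p) := by
    split_ifs at h0 with hp2 hp3
    · obtain ⟨h1, h2⟩ := sup_eq_bot_iff.1 h0
      exact ⟨hphi h2, fun _ => hcomm h1, fun h => absurd h (by omega), fun h => absurd h (by omega)⟩
    · obtain ⟨h1, h2⟩ := sup_eq_bot_iff.1 h0
      refine ⟨hphi h2, fun h => absurd h (by omega), fun _ x hx => ?_, fun h => absurd h (by omega)⟩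
      refine Subgroup.mem_upperCentralSeries_succ_iff.2 fun y => ?_
      rw [Subgroup.upperCentralSeries_one]
      have := Subgroup.commutator_eq_bot_iff_le_centralizer.1 h1
      rw [Subgroup.coe_top, Subgroup.centralizer_univ] at this
      exact this (Subgroup.commutator_mem_commutator hx (Subgroup.mem_top y))
    · obtain ⟨h1, h2⟩ := sup_eq_bot_iff.1 h0
      have hpow : ∀ x : S, x ^ p = 1 := fun x => by
        have : x ^ p ^ 1 ∈ Cfsg.powerClosure p 1 (⊤ : Subgroup S) :=
          Subgroup.subset_closure ⟨x, Subgroup.mem_top x, rfl⟩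
        rwa [h2, Subgroup.mem_bot, pow_one] at this
      refine ⟨⟨Subgroup.le_centralizer_iff_isMulCommutative.1 ((hcomm h1).trans
        (Subgroup.center_le_centralizer _)), fun x _ => hpow x⟩, fun h => absurd h hp2, fun h => absurd h hp3,
        fun _ => ⟨hcomm h1, ?_⟩⟩
      refine ((Nat.dvd_prime Fact.out).1 (Monoid.exponent_dvd_of_forall_pow_eq_one hpow)).resolve_left fun h => ?_
      exact not_subsingleton S (Monoid.exp_eq_one_iff.1 h)
  obtain ⟨h1, h2, h3, h4⟩ := hΦ
  refine ⟨E.nonabelian, E.balance.join, ⟨inferInstance, E.balance.center_pow⟩, h1, h2, h3, h4,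
    fun A hA B hB Q => ?_⟩
  have hA' := E.balance.maxAb A hA
  have hB' := E.balance.maxAb B hB
  have htop : cd (⊤ : Subgroup S) = Nat.card S * Nat.card ↥(Subgroup.center S) := by
    rw [cd, Subgroup.coe_top, Subgroup.centralizer_univ, Subgroup.card_top]
  refine ⟨?_, ?_, hA'.set_mul hB', ?_⟩
  · rw [← htop, E.balance.top.eq hA', cd, centralizer_maxAbelian hA, pow_two]
  · rw [← htop, card_center_eq]
    exact (Nat.mul_le_mul_left _ (Subgroup.card_le_of_le inf_le_right)).trans (E.balance.top Q)
  · rw [(hA'.product hB').2, centralizer_maxAbelian hA, centralizer_maxAbelian hB]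

/-- The pair in the open class when no largest abelian subgroup is elementary. -/
theorem Exceptional.works [Nontrivial S] (E : Exceptional p S)
    (hno : ¬ ∃ A ∈ Cfsg.maxAbelianSubgroups S, Cfsg.IsElementaryAbelian p A) :
    Works p S (Subgroup.center S) (Cfsg.frattiniOfMinimalCLJoin p S) := by
  have hS := E.balance.isPGroup
  haveI := hS.center_nontrivial
  have hc : (Cfsg.frattiniOfMinimalCLJoin p S).Characteristic :=
    Transfer.char_of_natural fun f => Transfer.frattiniJoin_map f hS
  refine ⟨(Subgroup.nontrivial_iff_ne_bot _).1 inferInstance, fun h => hno ?_, inferInstance, hc, le_rfl,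
    E.tilde ▸ le_top, char_of_top E.tilde hc, fun G _ _ τ hτ hpu => ?_⟩
  · obtain ⟨Q, hQ⟩ := exists_maxOmega (p := p) (P := S)
    have hphi : HSubgroup.phi Q = ⊥ := by
      rw [eq_bot_iff, ← h, frattiniJoin_eq]
      exact le_iSup (fun R : {R : Subgroup S // IsMaxOmega p R} => HSubgroup.phi R.1) ⟨Q, hQ⟩
    refine ⟨Q, (E.mcl Q).1 hQ.1, ((E.mcl Q).1 hQ.1).1, fun x hx => ?_⟩
    have := HSubgroup.pow_mem_phi (hS.to_subgroup Q) hx
    rwa [hphi, Subgroup.mem_bot] at this
  · have h := main_frattini hpu
    rw [← Transfer.frattiniJoin_map (MonoidHom.ofInjective hτ) hS, Subgroup.map_map, ← map_center hτ] at h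
    exact h

end CfsgLib.PushingUpFamily
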